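import Groth.Agent.Divis.RegStalk
import Groth.Prelude.Def_RegImm

/-!
# Regular immersions (kind `regular`) and stalks

* `isAffineOpen_preimage`, `app_surjective`: over an affine open on which `i` is a closed immersion.
* `ker_stalkMap_of_surjective`: the kernel of the stalk map is the localization of `ker (i.app U)`.
* `isRegularImmersion_iff_of_isClosedImmersion`: for closed immersions `RegImm.IsRegularImmersion .regular` is
  `Mor2.IsRegularClosedImmersion`.
-/

set_option autoImplicit false
universe u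

open CategoryTheory AlgebraicGeometry Limits
open RingTheory.Sequence

namespace K560.Stalk

variable {X Z : Scheme.{u}}

lemma isAffineOpen_preimage (i : Z ⟶ X) (U : X.Opens) (hU : IsAffineOpen U) (h : IsClosedImmersion (i ∣_ U)) :
    IsAffineOpen (i ⁻¹ᵁ U) := by
  have : IsAffine U.toScheme := hU
  exact isAffine_of_isAffineHom (i ∣_ U)

lemma surjective_app_of_appLE (i : Z ⟶ X) (U U' : X.Opens) (V' : Z.Opens) (hU : U' = U) (hV : V' = i ⁻¹ᵁ U)
    (e : V' ≤ i ⁻¹ᵁ U') (h : Function.Surjective (i.appLE U' V' e).hom) :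
    Function.Surjective (i.app U).hom := by
  subst hU hV
  rwa [Scheme.Hom.appLE_eq_app] at h

lemma app_surjective (i : Z ⟶ X) (U : X.Opens) (hU : IsAffineOpen U) (h : IsClosedImmersion (i ∣_ U)) :
    Function.Surjective (i.app U).hom := by
  have : IsAffine U.toScheme := hU
  have h1 := (i ∣_ U).app_surjective ⊤ (isAffineOpen_top _)
  rw [morphismRestrict_app'] at h1
  have h2 : U.ι ''ᵁ ⊤ = U := by simp
  exact surjective_app_of_appLE i U _ _ h2 (by rw [image_morphismRestrict_preimage, h2]) _ h1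

/-- the kernel of the stalk map, on an affine open `U` with affine preimage on which `i` is surjective on sections -/
theorem ker_stalkMap_of_surjective (i : Z ⟶ X) (z : Z) (U : X.Opens) (hU : IsAffineOpen U)
    (hV : IsAffineOpen (i ⁻¹ᵁ U)) (hs : Function.Surjective (i.app U).hom) (hz : i z ∈ U) :
    RingHom.ker (i.stalkMap z).hom = (RingHom.ker (i.app U).hom).map (X.presheaf.germ U (i z) hz).hom := by
  apply le_antisymm
  · intro a ha
    let := X.presheaf.algebra_section_stalk ⟨i z, hz⟩
    have := hU.isLocalization_stalk ⟨i z, hz⟩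
    let := Z.presheaf.algebra_section_stalk (U := i ⁻¹ᵁ U) ⟨z, hz⟩
    have := hV.isLocalization_stalk ⟨z, hz⟩
    obtain ⟨⟨b, s⟩, hbs⟩ := IsLocalization.surj (hU.primeIdealOf ⟨i z, hz⟩).asIdeal.primeCompl a
    have h1 : (Z.presheaf.germ (i ⁻¹ᵁ U) z hz).hom ((i.app U).hom b) = 0 := by
      rw [← Scheme.Hom.germ_stalkMap_apply]
      have h2 := congr((i.stalkMap z).hom $hbs)
      rw [map_mul, RingHom.mem_ker.mp ha, zero_mul] at h2
      exact h2.symm
    obtain ⟨⟨c, hc⟩, hcb⟩ := (IsLocalization.map_eq_zero_iff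
      (hV.primeIdealOf ⟨z, hz⟩).asIdeal.primeCompl (Z.presheaf.stalk z) _).mp h1
    obtain ⟨d, rfl⟩ := hs c
    have hd : IsUnit ((X.presheaf.germ U (i z) hz).hom d) := by
      have h3 := IsLocalization.map_units (Z.presheaf.stalk z)
        (⟨(i.app U).hom d, hc⟩ : (hV.primeIdealOf ⟨z, hz⟩).asIdeal.primeCompl)
      have h4 : IsUnit ((i.stalkMap z).hom ((X.presheaf.germ U (i z) hz).hom d)) := by
        have := Scheme.Hom.germ_stalkMap_apply i U z hz d
        change (i.stalkMap z).hom ((X.presheaf.germ U (i z) hz).hom d) = _ at this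
        rw [this]
        exact h3
      exact isUnit_of_map_unit (i.stalkMap z).hom _ h4
    have hdb : d * b ∈ RingHom.ker (i.app U).hom := by
      rw [RingHom.mem_ker, map_mul]
      exact hcb
    have h5 : a * (X.presheaf.germ U (i z) hz).hom (s : Γ(X, U)) = (X.presheaf.germ U (i z) hz).hom b := hbs
    have h6 := Ideal.mem_map_of_mem (X.presheaf.germ U (i z) hz).hom hdb
    rw [map_mul, ← h5] at h6
    have h7 := (Ideal.unit_mul_mem_iff_mem _ hd).mp h6
    exact (Ideal.mul_unit_mem_iff_mem _ (IsLocalization.map_units (X.presheaf.stalk (i z)) s)).mp h7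
  · rw [Ideal.map_le_iff_le_comap]
    intro a ha
    rw [Ideal.mem_comap, RingHom.mem_ker]
    have := Scheme.Hom.germ_stalkMap_apply i U z hz a
    change (i.stalkMap z).hom ((X.presheaf.germ U (i z) hz).hom a) = _ at this
    rw [this]
    rw [RingHom.mem_ker] at ha
    change (Z.presheaf.germ _ _ _).hom ((i.app U).hom a) = 0
    rw [ha, map_zero]

/-- a weakly regular sequence on an affine open stays weakly regular in the stalks -/
lemma isWeaklyRegular_germ {U : X.Opens} (hU : IsAffineOpen U) {rs : List Γ(X, U)}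
    (hrs : IsWeaklyRegular Γ(X, U) rs) (x : X) (hx : x ∈ U) :
    IsWeaklyRegular (X.presheaf.stalk x) (rs.map (X.presheaf.germ U x hx).hom) := by
  let := X.presheaf.algebra_section_stalk ⟨x, hx⟩
  have := hU.isLocalization_stalk ⟨x, hx⟩
  exact hrs.of_isLocalization (X.presheaf.stalk x) (hU.primeIdealOf ⟨x, hx⟩).asIdeal.primeCompl

/-- regular immersion at a point: the kernel of the stalk map is generated by a regular sequence -/
theorem exists_isRegular_ker_stalkMap (i : Z ⟶ X) (z : Z)
    (h : RegImm.IsRegularImmersionAt RegImm.Kind.regular i z) :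
    ∃ rs : List (X.presheaf.stalk (i z)), IsRegular (X.presheaf.stalk (i z)) rs ∧
      RingHom.ker (i.stalkMap z).hom = Ideal.ofList rs := by
  obtain ⟨U, hz, hcl, rs, hrs, hker⟩ := h
  have hV := isAffineOpen_preimage i U.1 U.2 hcl
  have hs := app_surjective i U.1 U.2 hcl
  have h1 := ker_stalkMap_of_surjective i z U.1 U.2 hV hs hz
  rw [hker, Ideal.map_ofList] at h1
  refine ⟨_, (Groth.Agent.Divis.RegImm.isRegular_iff_ne_top _).mpr ⟨isWeaklyRegular_germ U.2 hrs.1 _ hz, ?_⟩, h1⟩
  rw [← h1]
  exact RingHom.ker_ne_top _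

/-- the same with the length of the sequence -/
theorem exists_isRegular_ker_stalkMap_of_codim (i : Z ⟶ X) (z : Z) (d : ℕ)
    (h : RegImm.IsRegularImmersionOfCodim RegImm.Kind.regular d i) :
    ∃ rs : List (X.presheaf.stalk (i z)), rs.length = d ∧ IsRegular (X.presheaf.stalk (i z)) rs ∧
      RingHom.ker (i.stalkMap z).hom = Ideal.ofList rs := by
  obtain ⟨U, hz, hcl, rs, hd, hrs, hker⟩ := h.2 z
  have hV := isAffineOpen_preimage i U.1 U.2 hcl
  have hs := app_surjective i U.1 U.2 hcl
  have h1 := ker_stalkMap_of_surjective i z U.1 U.2 hV hs hz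
  rw [hker, Ideal.map_ofList] at h1
  refine ⟨_, by simpa using hd,
    (Groth.Agent.Divis.RegImm.isRegular_iff_ne_top _).mpr ⟨isWeaklyRegular_germ U.2 hrs.1 _ hz, ?_⟩, h1⟩
  rw [← h1]
  exact RingHom.ker_ne_top _

/-- for closed immersions, the two notions of regular immersion agree -/
theorem isRegularImmersion_iff_of_isClosedImmersion (i : Z ⟶ X) [IsClosedImmersion i] :
    RegImm.IsRegularImmersion RegImm.Kind.regular i ↔ Mor2.IsRegularClosedImmersion i := by
  constructor
  · rintro ⟨-, h⟩
    refine ⟨inferInstance, fun z ↦ ?_⟩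
    obtain ⟨U, hz, -, rs, hrs, hk⟩ := h z
    exact ⟨U.1, U.2, hz, rs, hrs, (Scheme.Hom.ker_apply i U).trans hk⟩
  · rintro ⟨-, h⟩
    refine ⟨inferInstance, fun z ↦ ?_⟩
    obtain ⟨U, hU, hz, rs, hrs, hk⟩ := h z
    exact ⟨⟨U, hU⟩, hz, inferInstance, rs, hrs, (Scheme.Hom.ker_apply i ⟨U, hU⟩).symm.trans hk⟩

end K560.Stalk
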