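import Groth.Agent.RegImm.K560.CodimReg
import Groth.Agent.RegImm.K560.Stalk

/-!
# Intersections of regularly immersed closed subschemes of the expected codimension

`X` locally Noetherian with Cohen-Macaulay local rings, `iY`, `iZ` regular closed immersions of codimension `a`, `b`
meeting in codimension `≥ a + b`.

* `exists_lists`: at every point of `Y ∩ Z` the ideals are generated by sequences `rs`, `ss` of lengths `a`, `b` on
  some affine open, with `rs ++ ss` regular in the local ring.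
* `isRegularImmersionOfCodim_inter`: `Y ∩ Z → X` is regular of codimension `a + b`.
-/

set_option autoImplicit false
universe u

open CategoryTheory AlgebraicGeometry Limits
open RingTheory.Sequence

namespace K560.InterCodim

open Groth.Agent.Divis.IdealComap Groth.Agent.Divis.RegImm Groth.Agent.Divis.RegStalk

variable {X Y Z : Scheme.{u}}

/-- `I` is generated on `U` by a weakly regular sequence of length `n` -/
def RegOnL (I : X.IdealSheafData) (U : X.affineOpens) (n : ℕ) : Prop :=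
  ∃ rs : List Γ(X, U.1), rs.length = n ∧ IsWeaklyRegular Γ(X, U.1) rs ∧ I.ideal U = Ideal.ofList rs

lemma RegOnL.mono {I : X.IdealSheafData} {U V : X.affineOpens} {n : ℕ} (h : RegOnL I U n) (hVU : V.1 ≤ U.1) :
    RegOnL I V n := by
  obtain ⟨rs, hn, hrs, hI⟩ := h
  refine ⟨rs.map (X.presheaf.map (homOfLE hVU).op).hom, by simpa using hn,
    isWeaklyRegular_map_of_flat _ (flat_res U.2 V.2 hVU) hrs, ?_⟩
  rw [← I.map_ideal (U := V) (V := U) hVU, hI, Ideal.map_ofList]
  rfl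

lemma exists_regOnL (i : Y ⟶ X) [IsClosedImmersion i] {n : ℕ}
    (h : RegImm.IsRegularImmersionOfCodim RegImm.Kind.regular n i) (y : Y) :
    ∃ U : X.affineOpens, i y ∈ U.1 ∧ RegOnL i.ker U n := by
  obtain ⟨U, hy, -, rs, hn, hrs, hk⟩ := h.2 y
  exact ⟨U, hy, rs, hn, hrs.1, (Scheme.Hom.ker_apply i U).trans hk⟩

/-- the ideal of an intersection -/
lemma ker_inter (iY : Y ⟶ X) (iZ : Z ⟶ X) [IsClosedImmersion iY] [IsClosedImmersion iZ] (U : X.affineOpens) :
    (pullback.fst iY iZ ≫ iY).ker.ideal U = iY.ker.ideal U ⊔ iZ.ker.ideal U := by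
  rw [Scheme.Hom.ker_comp, Scheme.IdealSheafData.ideal_map_of_isAffineHom,
    Scheme.IdealSheafData.ker_fst_of_isClosedImmersion,
    ideal_comap iZ.ker iY U ⟨iY ⁻¹ᵁ U.1, U.2.preimage iY⟩ le_rfl, Scheme.Hom.appLE_eq_app,
    Ideal.comap_map_of_surjective' _ (iY.app_surjective U.1 U.2), sup_comm]
  rw [Scheme.Hom.ker_apply iY U]

/-- points of an affine open containing the ideal of a closed subscheme -/
lemma exists_preimage (i : Y ⟶ X) [IsClosedImmersion i] (U : X.affineOpens) (x : X) (hx : x ∈ U.1)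
    (h : i.ker.ideal U ≤ (U.2.primeIdealOf ⟨x, hx⟩).asIdeal) : ∃ y : Y, i y = x := by
  have h1 : x ∈ i.ker.support := by
    rw [Scheme.IdealSheafData.mem_support_iff_of_mem (U := U) hx, Scheme.mem_zeroLocus_iff]
    intro f hf hxf
    have h2 := h hf
    rw [X.mem_basicOpen f x hx] at hxf
    let := X.presheaf.algebra_section_stalk ⟨x, hx⟩
    have := U.2.isLocalization_stalk ⟨x, hx⟩
    exact (IsLocalization.AtPrime.isUnit_to_map_iff (X.presheaf.stalk x)
      (U.2.primeIdealOf ⟨x, hx⟩).asIdeal f).mp hxf h2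
  have h3 : (i.ker.support : Set X) = Set.range i := by
    rw [Scheme.Hom.support_ker, i.isClosedEmbedding.isClosed_range.closure_eq]
  have h4 : x ∈ (i.ker.support : Set X) := h1
  rw [h3] at h4
  exact h4

lemma ideal_le_primeIdealOf (i : Y ⟶ X) [IsClosedImmersion i] (U : X.affineOpens) (y : Y) (hy : i y ∈ U.1) :
    i.ker.ideal U ≤ (U.2.primeIdealOf ⟨i y, hy⟩).asIdeal := by
  intro f hf
  by_contra h2
  let := X.presheaf.algebra_section_stalk ⟨i y, hy⟩
  have := U.2.isLocalization_stalk ⟨i y, hy⟩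
  have h3 := (IsLocalization.AtPrime.isUnit_to_map_iff (X.presheaf.stalk (i y))
      (U.2.primeIdealOf ⟨i y, hy⟩).asIdeal f).mpr h2
  have h4 : f ∈ RingHom.ker (i.app U.1).hom := by rwa [← Scheme.Hom.ker_apply]
  have h5 := ker_stalkMap i y U hy
  have h6 : (X.presheaf.germ U.1 (i y) hy).hom f ∈ RingHom.ker (i.stalkMap y).hom := by
    rw [h5]
    exact Ideal.mem_map_of_mem _ hf
  exact RingHom.ker_ne_top _ (Ideal.eq_top_of_isUnit_mem _ h6 h3)

/-- the height of the prime of a point is the dimension of the local ring -/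
lemma ringKrullDim_stalk_eq_height (U : X.affineOpens) (x : X) (hx : x ∈ U.1) :
    ringKrullDim (X.presheaf.stalk x) = ((U.2.primeIdealOf ⟨x, hx⟩).asIdeal.height : WithBot ℕ∞) := by
  let := X.presheaf.algebra_section_stalk ⟨x, hx⟩
  have := U.2.isLocalization_stalk ⟨x, hx⟩
  exact IsLocalization.AtPrime.ringKrullDim_eq_height _ _

lemma primeIdealOf_fromSpec (U : X.affineOpens) (p : Spec Γ(X, U.1)) (h : U.2.fromSpec p ∈ U.1) :
    U.2.primeIdealOf ⟨U.2.fromSpec p, h⟩ = p := by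
  have := U.2.isOpenImmersion_fromSpec
  exact U.2.fromSpec.isOpenEmbedding.injective (U.2.fromSpec_primeIdealOf ⟨U.2.fromSpec p, h⟩)

lemma fromSpec_mem (U : X.affineOpens) (p : Spec Γ(X, U.1)) : U.2.fromSpec p ∈ U.1 := by
  have := U.2.range_fromSpec
  have h : U.2.fromSpec p ∈ Set.range U.2.fromSpec := ⟨p, rfl⟩
  rw [this] at h
  exact h

/-- Local generators near a point of the intersection -/
theorem exists_lists (hCM : ∀ x : X, LocCoh.IsCohenMacaulayLocalRing (X.presheaf.stalk x))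
    (iY : Y ⟶ X) (iZ : Z ⟶ X) [IsClosedImmersion iY] [IsClosedImmersion iZ] (a b : ℕ)
    (hY : RegImm.IsRegularImmersionOfCodim RegImm.Kind.regular a iY)
    (hZ : RegImm.IsRegularImmersionOfCodim RegImm.Kind.regular b iZ)
    (hcodim : ∀ w : ↥(pullback iY iZ), ((a + b : ℕ) : WithBot ℕ∞) ≤
      ringKrullDim (X.presheaf.stalk ((pullback.fst iY iZ ≫ iY).base w)))
    (y : Y) (z : Z) (h : iY y = iZ z) :
    ∃ (U : X.affineOpens) (hx : iY y ∈ U.1) (rs ss : List Γ(X, U.1)), rs.length = a ∧ ss.length = b ∧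
      IsWeaklyRegular Γ(X, U.1) rs ∧ IsWeaklyRegular Γ(X, U.1) ss ∧
      iY.ker.ideal U = Ideal.ofList rs ∧ iZ.ker.ideal U = Ideal.ofList ss ∧
      IsWeaklyRegular (X.presheaf.stalk (iY y)) ((rs ++ ss).map (X.presheaf.germ U.1 (iY y) hx).hom) := by
  obtain ⟨U₁, hy₁, h₁⟩ := exists_regOnL iY hY y
  obtain ⟨U₂, hz₂, h₂⟩ := exists_regOnL iZ hZ z
  rw [← h] at hz₂
  obtain ⟨U, hU, hx, hUU⟩ := exists_isAffineOpen_mem_and_subset (U := U₁.1 ⊓ U₂.1) (x := iY y) ⟨hy₁, hz₂⟩
  obtain ⟨rs, hrs, hrs', hrs''⟩ := h₁.mono (V := ⟨U, hU⟩) (fun _ h ↦ (hUU h).1)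
  obtain ⟨ss, hss, hss', hss''⟩ := h₂.mono (V := ⟨U, hU⟩) (fun _ h ↦ (hUU h).2)
  refine ⟨⟨U, hU⟩, hx, rs, ss, hrs, hss, hrs', hss', hrs'', hss'', ?_⟩
  let := X.presheaf.algebra_section_stalk ⟨iY y, hx⟩
  have := hU.isLocalization_stalk ⟨iY y, hx⟩
  have hz : iZ z ∈ U := h ▸ hx
  have e : (hU.primeIdealOf ⟨iZ z, hz⟩).asIdeal = (hU.primeIdealOf ⟨iY y, hx⟩).asIdeal := by
    congr 3
    exact h.symm
  refine (K560.CodimReg.isRegular_atPrime (hU.primeIdealOf ⟨iY y, hx⟩).asIdeal (hCM (iY y)) (rs ++ ss)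
    ?_ ?_).toIsWeaklyRegular
  · rw [Ideal.ofList_append]
    refine sup_le ?_ ?_
    · rw [← hrs'']
      exact ideal_le_primeIdealOf iY ⟨U, hU⟩ y hx
    · rw [← hss'', ← e]
      exact ideal_le_primeIdealOf iZ ⟨U, hU⟩ z hz
  · intro p hp hle hle'
    let q : Spec Γ(X, U) := ⟨p, hp⟩
    have hq : hU.fromSpec q ∈ U := fromSpec_mem ⟨U, hU⟩ q
    have hq' := primeIdealOf_fromSpec ⟨U, hU⟩ q hq
    have h1 : (pullback.fst iY iZ ≫ iY).ker.ideal ⟨U, hU⟩ ≤ (hU.primeIdealOf ⟨hU.fromSpec q, hq⟩).asIdeal := by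
      rw [hq', ker_inter, hrs'', hss'', ← Ideal.ofList_append]
      exact hle
    obtain ⟨w, hw⟩ := exists_preimage (pullback.fst iY iZ ≫ iY) ⟨U, hU⟩ _ hq h1
    have h2 := hcodim w
    have h3 : (pullback.fst iY iZ ≫ iY).base w = hU.fromSpec q := hw
    rw [h3, ringKrullDim_stalk_eq_height ⟨U, hU⟩ _ hq, hq'] at h2
    rw [List.length_append, hrs, hss]
    exact_mod_cast h2

/-- The intersection is regularly immersed -/
theorem isRegularImmersionOfCodim_inter [IsLocallyNoetherian X]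
    (hCM : ∀ x : X, LocCoh.IsCohenMacaulayLocalRing (X.presheaf.stalk x))
    (iY : Y ⟶ X) (iZ : Z ⟶ X) [IsClosedImmersion iY] [IsClosedImmersion iZ] (a b : ℕ)
    (hY : RegImm.IsRegularImmersionOfCodim RegImm.Kind.regular a iY)
    (hZ : RegImm.IsRegularImmersionOfCodim RegImm.Kind.regular b iZ)
    (hcodim : ∀ w : ↥(pullback iY iZ), ((a + b : ℕ) : WithBot ℕ∞) ≤
      ringKrullDim (X.presheaf.stalk ((pullback.fst iY iZ ≫ iY).base w))) :
    RegImm.IsRegularImmersionOfCodim RegImm.Kind.regular (a + b) (pullback.fst iY iZ ≫ iY) := by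
  refine ⟨inferInstance, fun w ↦ ?_⟩
  obtain ⟨V, hxV, rs, ss, hrs, hss, hrs', hss', hrs'', hss'', hreg⟩ := exists_lists hCM iY iZ a b hY hZ hcodim
    (pullback.fst iY iZ w) (pullback.snd iY iZ w) (by
      rw [← Scheme.Hom.comp_apply, ← Scheme.Hom.comp_apply, pullback.condition])
  have : IsNoetherianRing Γ(X, V.1) := IsLocallyNoetherian.component_noetherian V
  let := X.presheaf.algebra_section_stalk ⟨iY (pullback.fst iY iZ w), hxV⟩
  have := V.2.isLocalization_stalk ⟨iY (pullback.fst iY iZ w), hxV⟩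
  obtain ⟨f, hf, Hf⟩ := Groth.Agent.Divis.RegSpread.exists_isWeaklyRegular_of_atPrime'
    (V.2.primeIdealOf ⟨iY (pullback.fst iY iZ w), hxV⟩).asIdeal
    (X.presheaf.stalk (iY (pullback.fst iY iZ w))) (rs ++ ss) hreg
  have hu : IsUnit ((X.presheaf.germ V.1 _ hxV).hom f) :=
    IsLocalization.map_units (X.presheaf.stalk (iY (pullback.fst iY iZ w)))
      (⟨f, hf⟩ : (V.2.primeIdealOf ⟨_, hxV⟩).asIdeal.primeCompl)
  have hxf : iY (pullback.fst iY iZ w) ∈ X.basicOpen f := (X.mem_basicOpen _ _ hxV).mpr hu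
  obtain ⟨D, hD, hDf⟩ : ∃ (D : X.Opens) (_ : IsAffineOpen D), D = X.basicOpen f := ⟨_, V.2.basicOpen f, rfl⟩
  have hle : D ≤ V.1 := hDf ▸ X.basicOpen_le f
  have hres : IsUnit ((X.presheaf.map (homOfLE hle).op).hom f) := by
    subst hDf
    exact RingedSpace.isUnit_res_basicOpen _ f
  have hker : (pullback.fst iY iZ ≫ iY).ker.ideal ⟨D, hD⟩ =
      Ideal.ofList ((rs ++ ss).map (X.presheaf.map (homOfLE hle).op).hom) := by
    rw [← (pullback.fst iY iZ ≫ iY).ker.map_ideal (U := ⟨D, hD⟩) (V := V) hle,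
      ker_inter, hrs'', hss'', ← Ideal.ofList_append, Ideal.map_ofList]
    rfl
  have hx' : (pullback.fst iY iZ ≫ iY) w ∈ D := by
    rw [Scheme.Hom.comp_apply, hDf]
    exact hxf
  refine ⟨⟨D, hD⟩, hx', inferInstance,
    (rs ++ ss).map (X.presheaf.map (homOfLE hle).op).hom, by simp [hrs, hss], ?_, ?_⟩
  · refine (isRegular_iff_ne_top _).mpr ⟨?_, ?_⟩
    · have hflat := flat_res V.2 hD hle
      let := (X.presheaf.map (homOfLE hle).op).hom.toAlgebra
      have : Module.Flat Γ(X, V.1) Γ(X, D) := hflat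
      exact Hf _ hres
    · rw [← hker]
      exact ideal_ne_top_of_mem_support (mem_support_ker _ w) (U := ⟨D, hD⟩) hx'
  · rw [← hker, Scheme.Hom.ker_apply]

end K560.InterCodim
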