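import Groth.Agent.Divis.RegImm
import Groth.Agent.RegImm.K560.Stalk
import Mathlib.RingTheory.Localization.Away.AdjoinRoot
import Mathlib.RingTheory.Localization.Algebra
import Mathlib.Algebra.MvPolynomial.Equiv

/-!
# Localizations as quotients of polynomial rings by a regular sequence

`R[1/h] = R[T]/(hT - 1)` with `hT - 1` a non-zero-divisor; a regularly immersed closed subscheme of `Spec A[X_1..X_n]`
is locally `Spec` of a quotient of `A[X_0..X_n]` by a regular sequence.
-/

set_option autoImplicit false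
universe u

open CategoryTheory AlgebraicGeometry Limits
open RingTheory.Sequence Polynomial Groth.Agent.Divis.RegImm

namespace K560.AwayPoly

section Ring

variable {R : Type u} [CommRing R]

/-- `R[T] → R[1/h]`, `T ↦ 1/h`. -/
noncomputable def polyAway (h : R) : R[X] →ₐ[R] Localization.Away h :=
  Polynomial.aeval (IsLocalization.Away.invSelf h)

lemma polyAway_surjective (h : R) : Function.Surjective (polyAway h) := by
  intro x
  obtain ⟨n, a, hx⟩ := IsLocalization.Away.surj h x
  refine ⟨C a * X ^ n, ?_⟩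
  rw [map_mul, map_pow]
  simp only [polyAway, aeval_C, aeval_X]
  rw [← hx, mul_assoc, ← mul_pow, IsLocalization.Away.mul_invSelf, one_pow, mul_one]

lemma ker_polyAway (h : R) : RingHom.ker (polyAway h).toRingHom = Ideal.ofList [C h * X - 1] := by
  have h1 : (Localization.awayEquivAdjoin h).toAlgHom.comp (polyAway h) =
      { AdjoinRoot.mk (C h * X - 1) with commutes' := fun r ↦ rfl } := by
    ext
    simp only [polyAway, AlgHom.comp_apply, aeval_X]
    change (Localization.awayEquivAdjoin h) (IsLocalization.Away.invSelf h) = AdjoinRoot.root (C h * X - 1)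
    have h2 : (Localization.awayEquivAdjoin h).symm (AdjoinRoot.root (C h * X - 1)) =
        IsLocalization.Away.invSelf h := by
      exact AdjoinRoot.liftAlgHom_root (C h * X - 1) (Algebra.ofId R (Localization.Away h))
        (IsLocalization.Away.invSelf h) (by change aeval _ _ = _; simp)
    rw [← h2, AlgEquiv.apply_symm_apply]
  ext x
  have h3 : x ∈ RingHom.ker (polyAway h).toRingHom ↔ AdjoinRoot.mk (C h * X - 1) x = 0 := by
    rw [RingHom.mem_ker]
    have h4 := DFunLike.congr_fun h1 x
    change (Localization.awayEquivAdjoin h) (polyAway h x) = AdjoinRoot.mk (C h * X - 1) x at h4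
    rw [← h4]
    exact (map_eq_zero_iff _ (Localization.awayEquivAdjoin h).injective).symm
  rw [h3, AdjoinRoot.mk_eq_zero, Ideal.ofList_singleton, Ideal.mem_span_singleton]

lemma isSMulRegular_C_mul_X_sub_one (h : R) : IsSMulRegular R[X] (C h * X - 1 : R[X]) := by
  rw [isSMulRegular_iff_right_eq_zero_of_smul]
  intro f hf
  rw [smul_eq_mul, sub_mul, one_mul, sub_eq_zero] at hf
  ext n
  rw [coeff_zero]
  induction n with
  | zero =>
    have h1 := congr(coeff $hf 0)
    rw [mul_assoc, coeff_C_mul, mul_comm X f, mul_coeff_zero, coeff_X_zero, mul_zero, mul_zero] at h1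
    exact h1.symm
  | succ n ih =>
    have h1 := congr(coeff $hf (n + 1))
    rw [mul_assoc, coeff_C_mul, mul_comm X f, coeff_mul_X, ih, mul_zero] at h1
    exact h1.symm

/-- If the kernel of the surjection `φ : R → B` becomes generated by a weakly regular sequence in `R[1/h]`, then
`B[1/h]` is the quotient of `R[T]` by a weakly regular sequence. -/
theorem exists_poly {B : Type u} [CommRing B] (φ : R →+* B) (hφ : Function.Surjective φ) (h : R)
    (l : List (Localization.Away h)) (hl : IsWeaklyRegular (Localization.Away h) l)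
    (hk : (RingHom.ker φ).map (algebraMap R (Localization.Away h)) = Ideal.ofList l) :
    ∃ P : List R[X], IsWeaklyRegular R[X] P ∧
      Function.Surjective ((Localization.awayMap φ h).comp (polyAway h).toRingHom) ∧
      RingHom.ker ((Localization.awayMap φ h).comp (polyAway h).toRingHom) = Ideal.ofList P := by
  obtain ⟨ts, rfl⟩ := Groth.Agent.Divis.RegImm.exists_lift_list (polyAway h).toRingHom (polyAway_surjective h) l
  have hsurj : Function.Surjective (Localization.awayMap φ h) := by
    rw [Localization.awayMap_surjective_iff]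
    intro a
    obtain ⟨b, rfl⟩ := hφ a
    exact ⟨b, 0, by simp⟩
  refine ⟨[C h * X - 1] ++ ts, ?_, hsurj.comp (polyAway_surjective h), ?_⟩
  · refine (Groth.Agent.Divis.RegImm.isWeaklyRegular_append_of_surjective (polyAway h).toRingHom
      (polyAway_surjective h) _ ts (ker_polyAway h)).mpr ⟨?_, hl⟩
    rw [isWeaklyRegular_cons_iff]
    exact ⟨isSMulRegular_C_mul_X_sub_one h, IsWeaklyRegular.nil _ _⟩
  · rw [← Groth.Agent.Divis.RegImm.comap_ofList_map_of_surjective (polyAway h).toRingHom
      (polyAway_surjective h) _ ts (ker_polyAway h), ← hk]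
    have h1 : RingHom.ker (Localization.awayMap φ h) =
        (RingHom.ker φ).map (algebraMap R (Localization.Away h)) :=
      IsLocalization.ker_map (M := Submonoid.powers h) (T := Submonoid.powers (φ h)) (g := φ)
        (Localization.Away (φ h)) (by simp)
    rw [← h1]
    rfl

end Ring

section Scheme

/-- Regular generators near a point of `Spec R`, in terms of localizations of `R`. -/
theorem exists_away {R : CommRingCat.{u}} (I : (Spec R).IdealSheafData) (x : Spec R)
    (h : RegAt I x) : ∃ g : R, g ∉ x.asIdeal ∧ ∃ l : List (Localization.Away g),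
      IsWeaklyRegular (Localization.Away g) l ∧
      ((I.ideal ⟨⊤, isAffineOpen_top (Spec R)⟩).comap (Scheme.ΓSpecIso R).inv.hom).map
        (algebraMap R (Localization.Away g)) = Ideal.ofList l := by
  obtain ⟨U, hzU, hU⟩ := h
  obtain ⟨g₀, hgU, hzg⟩ := (isAffineOpen_top (Spec R)).exists_basicOpen_le ⟨x, hzU⟩ trivial
  let g : R := (Scheme.ΓSpecIso R).hom g₀
  have hg₀ : (Spec R).basicOpen g₀ = PrimeSpectrum.basicOpen g := basicOpen_eq_of_affine' g₀
  let D : (Spec R).Opens := PrimeSpectrum.basicOpen g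
  rw [hg₀] at hgU hzg
  have hD : IsAffineOpen D := by
    change IsAffineOpen (X := Spec R) (PrimeSpectrum.basicOpen g)
    rw [← hg₀]
    exact (isAffineOpen_top (Spec R)).basicOpen g₀
  obtain ⟨l, hl, hl'⟩ := RegOn.mono (V := ⟨D, hD⟩) hU hgU
  let _ : Algebra R Γ(Spec R, D) := inferInstance
  have hloc : IsLocalization.Away g Γ(Spec R, D) :=
    (inferInstance : IsLocalization.Away g Γ(Spec R, (PrimeSpectrum.basicOpen g : (Spec R).Opens)))
  let e : Γ(Spec R, D) ≃ₐ[R] Localization.Away g :=
    IsLocalization.algEquiv (Submonoid.powers g) _ _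
  have h5 : I.ideal ⟨⊤, isAffineOpen_top (Spec R)⟩ =
      Ideal.map (Scheme.ΓSpecIso R).inv.hom
        ((I.ideal ⟨⊤, isAffineOpen_top (Spec R)⟩).comap (Scheme.ΓSpecIso R).inv.hom) :=
    (Ideal.map_comap_of_surjective _
      (ConcreteCategory.bijective_of_isIso (Scheme.ΓSpecIso R).inv).2 _).symm
  have h6 : ((I.ideal ⟨⊤, isAffineOpen_top (Spec R)⟩).comap (Scheme.ΓSpecIso R).inv.hom).map
      (algebraMap R Γ(Spec R, D)) = Ideal.ofList l := by
    rw [← hl', ← I.map_ideal (U := ⟨D, hD⟩) (V := ⟨⊤, isAffineOpen_top (Spec R)⟩)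
      (show D ≤ ⊤ from le_top)]
    conv_rhs => rw [h5, Ideal.map_map]
    rfl
  refine ⟨g, hzg, l.map e.toRingEquiv.toRingHom, isWeaklyRegular_map_of_flat _
    (RingHom.Flat.of_bijective e.bijective) hl, ?_⟩
  rw [← Ideal.map_ofList, ← h6, Ideal.map_map]
  congr 1
  ext r
  exact (e.commutes r).symm

/-- Regular generators of the kernel of a surjection near a point. -/
theorem exists_away_ker {R B : CommRingCat.{u}} (φ : R ⟶ B)
    (h : Mor2.IsRegularClosedImmersion (Spec.map φ)) (q : Spec B) :
    ∃ g : R, φ.hom g ∉ q.asIdeal ∧ ∃ l : List (Localization.Away g),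
      IsWeaklyRegular (Localization.Away g) l ∧
      (RingHom.ker φ.hom).map (algebraMap R (Localization.Away g)) = Ideal.ofList l := by
  rw [isRegularClosedImmersion_iff] at h
  have := h.1
  obtain ⟨g, hg, l, hl, hk⟩ := exists_away (Spec.map φ).ker (Spec.map φ q) (h.2 q)
  refine ⟨g, hg, l, hl, ?_⟩
  rw [← hk]
  congr 1
  have h5 : (Spec.map φ).appTop = (Scheme.ΓSpecIso R).hom ≫ φ ≫ (Scheme.ΓSpecIso B).inv := by
    rw [← Category.assoc, ← Scheme.ΓSpecIso_naturality, Category.assoc, Iso.hom_inv_id, Category.comp_id]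
  have h6 : (Spec.map φ).ker.ideal ⟨⊤, isAffineOpen_top (Spec R)⟩ = RingHom.ker (Spec.map φ).appTop.hom :=
    Scheme.Hom.ker_apply _ _
  ext x
  rw [h6, Ideal.mem_comap, RingHom.mem_ker, RingHom.mem_ker, h5]
  have h7 : ((Scheme.ΓSpecIso R).hom ≫ φ ≫ (Scheme.ΓSpecIso B).inv).hom ((Scheme.ΓSpecIso R).inv.hom x) =
      (Scheme.ΓSpecIso B).inv.hom (φ.hom x) := by
    change (Scheme.ΓSpecIso B).inv.hom (φ.hom ((Scheme.ΓSpecIso R).hom ((Scheme.ΓSpecIso R).inv x))) = _
    rw [Iso.inv_hom_id_apply]
  rw [h7]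
  constructor
  · intro h; rw [h, map_zero]
  · intro h
    exact (ConcreteCategory.bijective_of_isIso (Scheme.ΓSpecIso B).inv).1 (h.trans (map_zero _).symm)

end Scheme

/-- the statement of S18937 for `R = A[X_1, …, X_n]` -/
theorem main (A : Type u) [CommRing A] (n : ℕ) (I : Ideal (MvPolynomial (Fin n) A))
    (h : Mor2.IsRegularClosedImmersion (Spec.map (CommRingCat.ofHom (Ideal.Quotient.mk I))))
    (q : PrimeSpectrum (MvPolynomial (Fin n) A ⧸ I)) :
    ∃ g : MvPolynomial (Fin n) A ⧸ I, g ∉ q.asIdeal ∧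
      ∃ (d : ℕ) (P : Fin d → MvPolynomial (Fin (n + 1)) A),
        RingTheory.Sequence.IsRegular (MvPolynomial (Fin (n + 1)) A) (List.ofFn P) ∧
        Nonempty (Localization.Away g ≃ₐ[A] (MvPolynomial (Fin (n + 1)) A ⧸ Ideal.ofList (List.ofFn P))) := by
  obtain ⟨r, hr, l, hl, hk⟩ := exists_away_ker _ h q
  obtain ⟨P, hP, hs, hker⟩ := exists_poly (Ideal.Quotient.mk I) Ideal.Quotient.mk_surjective r l hl hk
  let e := MvPolynomial.finSuccEquiv A n
  let ψ₀ := ((Localization.awayMap (Ideal.Quotient.mk I) r).comp (polyAway r).toRingHom)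
  let ψ : MvPolynomial (Fin (n + 1)) A →ₐ[A] Localization.Away (Ideal.Quotient.mk I r) :=
    { toRingHom := ψ₀.comp e.toRingEquiv.toRingHom
      commutes' := fun a ↦ by
        change ψ₀ (e (algebraMap A _ a)) = _
        rw [AlgEquiv.commutes]
        change Localization.awayMap (Ideal.Quotient.mk I) r (polyAway r (C (MvPolynomial.C a))) = _
        rw [polyAway, aeval_C]
        change IsLocalization.Away.map _ _ _ _ _ = _
        rw [IsLocalization.Away.map, IsLocalization.map_eq]
        rw [IsScalarTower.algebraMap_apply A (MvPolynomial (Fin n) A ⧸ I)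
          (Localization.Away (Ideal.Quotient.mk I r))]
        rfl }
  have hψs : Function.Surjective ψ := hs.comp e.surjective
  let L : List (MvPolynomial (Fin (n + 1)) A) := P.map e.symm.toRingEquiv.toRingHom
  have hψk : RingHom.ker ψ = Ideal.ofList L := by
    rw [← Ideal.map_ofList, ← hker]
    ext x
    have h1 : (e.symm.toRingEquiv.toRingHom : Polynomial (MvPolynomial (Fin n) A) →+* _) =
      (e.symm.toRingEquiv : Polynomial (MvPolynomial (Fin n) A) →+* _) := rfl
    rw [h1, Ideal.map_comap_of_equiv, Ideal.mem_comap]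
    rfl
  have hLw : IsWeaklyRegular (MvPolynomial (Fin (n + 1)) A) L :=
    isWeaklyRegular_map_of_flat _ (RingHom.Flat.of_bijective e.symm.bijective) hP
  have hnt : Nontrivial (Localization.Away (Ideal.Quotient.mk I r)) := by
    by_contra hn
    rw [not_nontrivial_iff_subsingleton] at hn
    have h1 : (0 : MvPolynomial (Fin n) A ⧸ I) ∈ Submonoid.powers (Ideal.Quotient.mk I r) :=
      (IsLocalization.subsingleton_iff (M := Submonoid.powers (Ideal.Quotient.mk I r))
        (S := Localization.Away (Ideal.Quotient.mk I r))).mp hn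
    obtain ⟨m, hm⟩ := h1
    apply hr
    apply q.2.mem_of_pow_mem m
    change (Ideal.Quotient.mk I r) ^ m ∈ q.asIdeal
    have hm' : (Ideal.Quotient.mk I r) ^ m = 0 := hm
    rw [hm']
    exact zero_mem _
  have hL : IsRegular (MvPolynomial (Fin (n + 1)) A) L := by
    refine (Groth.Agent.Divis.RegImm.isRegular_iff_ne_top _).mpr ⟨hLw, ?_⟩
    rw [← hψk]
    exact RingHom.ker_ne_top _
  refine ⟨Ideal.Quotient.mk I r, hr, L.length, L.get, ?_, ⟨?_⟩⟩
  · rwa [List.ofFn_get]
  · rw [List.ofFn_get]
    exact ((Ideal.quotientEquivAlgOfEq A hψk.symm).trans (Ideal.quotientKerAlgEquivOfSurjective hψs)).symm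

end K560.AwayPoly
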