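import Groth.Agent.Localalg.Depth2
import Groth.Agent.Ega4B.DepthBasic
import Mathlib.RingTheory.KrullDimension.Regular

/-!
# Quotients of Cohen-Macaulay local rings by regular sequences

* `ringKrullDim_quotient_eq_depth`: `dim A/(rs) = depth_A A/(rs)`.
* `ringKrullDim_eq_zero_of_surjective`: `φ : A → B` surjective with kernel generated by a regular sequence of the
  Cohen-Macaulay local ring `A`, and `m_B` associated to `B`; then `dim B = 0`.
-/

set_option autoImplicit false
universe u

open IsLocalRing RingTheory.Sequence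

namespace K560.CMQuot

lemma mem_maximalIdeal_of_isRegular {A : Type u} [CommRing A] [IsLocalRing A] {rs : List A}
    (h : IsRegular A rs) : ∀ r ∈ rs, r ∈ maximalIdeal A := by
  intro r hr
  have h1 : Ideal.ofList rs ≤ maximalIdeal A := by
    apply IsLocalRing.le_maximalIdeal
    intro h'
    apply h.2
    rw [h']
    simp
  exact h1 (Ideal.subset_span hr)

theorem ringKrullDim_quotient_eq_depth {A : Type u} [CommRing A] [hA : LocCoh.IsCohenMacaulayLocalRing A]
    {rs : List A} (h : IsRegular A rs) :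
    ringKrullDim (A ⧸ Ideal.ofList rs) = ((LocCoh.depth A (A ⧸ Ideal.ofList rs) : ℕ∞) : WithBot ℕ∞) := by
  have h1 := Groth.Agent.Ega4B.DepthBasic.depth_quot_ofList_add_length rs (mem_maximalIdeal_of_isRegular h)
    A h.toIsWeaklyRegular
  have h2 : Module.supportDim A A = LocCoh.depth A A := hA.supportDim_eq_depth
  have h3 := ringKrullDim_add_length_eq_ringKrullDim_of_isRegular rs h
  have eq : Ideal.ofList rs • (⊤ : Ideal A) = Ideal.ofList rs := by simp
  rw [eq] at h1
  rw [Module.supportDim_self_eq_ringKrullDim] at h2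
  rw [h2, ← h1] at h3
  have : Nontrivial (A ⧸ Ideal.ofList rs) := by
    apply Ideal.Quotient.nontrivial_iff.mpr
    intro h'
    apply h.2
    rw [h']
    simp
  have : IsLocalRing (A ⧸ Ideal.ofList rs) :=
    IsLocalRing.of_surjective' (Ideal.Quotient.mk (Ideal.ofList rs)) Ideal.Quotient.mk_surjective
  obtain ⟨d, hd⟩ : ∃ d : ℕ∞, ringKrullDim (A ⧸ Ideal.ofList rs) = d :=
    WithBot.ne_bot_iff_exists.mp ringKrullDim_ne_bot |>.imp fun _ h => h.symm
  rw [hd] at h3 ⊢
  have h4 : d + (rs.length : ℕ∞) = LocCoh.depth A (A ⧸ Ideal.ofList rs) + (rs.length : ℕ∞) := by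
    exact_mod_cast h3
  have h5 := (ENat.add_left_injective_of_ne_top (ENat.natCast_ne_top rs.length)) h4
  rw [h5]

theorem ringKrullDim_eq_zero_of_surjective {A B : Type u} [CommRing A] [CommRing B] [IsLocalRing B]
    [hA : LocCoh.IsCohenMacaulayLocalRing A] (φ : A →+* B) (hφ : Function.Surjective φ)
    (rs : List A) (h : IsRegular A rs) (hk : RingHom.ker φ = Ideal.ofList rs)
    (hB : IsAssociatedPrime (maximalIdeal B) B) : ringKrullDim B = 0 := by
  let e : (A ⧸ Ideal.ofList rs) ≃+* B :=
    (Ideal.quotEquivOfEq hk.symm).trans (RingHom.quotientKerEquivOfSurjective hφ)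
  have he : ∀ a, e (Ideal.Quotient.mk _ a) = φ a := fun a ↦ rfl
  rw [← ringKrullDim_eq_of_ringEquiv e, ringKrullDim_quotient_eq_depth h]
  have h0 : LocCoh.depth A (A ⧸ Ideal.ofList rs) = 0 := by
    have : IsNoetherianRing B := isNoetherianRing_of_surjective A B φ hφ
    obtain ⟨-, x, hx⟩ := isAssociatedPrime_iff.mp hB
    obtain ⟨y, rfl⟩ := e.surjective x
    refine Groth.Agent.Localalg.Depth2.idealDepth_eq_zero_of_le_associatedPrime (p := maximalIdeal A)
      (M := A ⧸ Ideal.ofList rs) ?_ le_rfl
    refine isAssociatedPrime_iff.mpr ⟨inferInstance, y, ?_⟩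
    ext a
    have h1 : a ∈ maximalIdeal A ↔ φ a ∈ maximalIdeal B := by
      have : IsLocalHom φ := IsLocalHom.of_surjective φ hφ
      rw [← not_iff_not]
      simp only [mem_maximalIdeal, mem_nonunits_iff, not_not]
      exact (isUnit_map_iff φ a).symm
    rw [h1, hx, Submodule.mem_colon_singleton, Submodule.mem_colon_singleton, Submodule.mem_bot,
      Submodule.mem_bot, smul_eq_mul, ← he, ← map_mul]
    rw [map_eq_zero_iff e e.injective]
    obtain ⟨y, rfl⟩ := Ideal.Quotient.mk_surjective y
    rfl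
  rw [h0]
  rfl

end K560.CMQuot
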