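import Groth.Agent.Models.CMSeq
import Groth.Agent.RegImm.K560.CMQuot

/-!
# Regular sequences in Cohen-Macaulay local rings from heights

* `isRegular_of_height`: `A` Cohen-Macaulay local, `rs` a list in the maximal ideal, `rs.length ≤ ht (rs)`; then `rs`
  is regular.
* `isRegular_atPrime`: the same for the localization at a prime `P` of a ring, the height condition being tested on
  the primes between `(rs)` and `P`.
-/

set_option autoImplicit false
universe u v

open IsLocalRing RingTheory.Sequence

namespace K560.CodimReg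

theorem ringKrullDim_quotient_add_le {S : Type u} [CommRing S] [IsLocalRing S] [IsNoetherianRing S]
    (J : Ideal S) (c : ℕ) (hc : (c : ℕ∞) ≤ J.height) :
    ringKrullDim (S ⧸ J) + c ≤ ringKrullDim S := by
  by_cases hJ : J = ⊤
  · subst hJ
    rw [ringKrullDim_eq_bot_of_subsingleton, WithBot.bot_add]
    exact bot_le
  have hnt : Nontrivial (S ⧸ J) := Ideal.Quotient.nontrivial_iff.mpr hJ
  have hloc : IsLocalRing (S ⧸ J) :=
    IsLocalRing.of_surjective' (Ideal.Quotient.mk J) Ideal.Quotient.mk_surjective
  obtain ⟨n, hn⟩ : ∃ n : ℕ, ringKrullDim (S ⧸ J) = n := by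
    have h1 := ringKrullDim_lt_top (R := S ⧸ J)
    have h2 := ringKrullDim_ne_bot (R := S ⧸ J)
    obtain ⟨m, hm⟩ := WithBot.ne_bot_iff_exists.mp h2
    rw [← hm] at h1
    have h3 : m ≠ ⊤ := by
      rintro rfl
      exact absurd h1 (lt_irrefl _)
    obtain ⟨k, hk⟩ := ENat.ne_top_iff_exists.mp h3
    exact ⟨k, by rw [← hm, ← hk]; rfl⟩
  obtain ⟨q, hq⟩ := Order.le_krullDim_iff.mp hn.ge
  let q' : LTSeries (PrimeSpectrum S) := q.map (PrimeSpectrum.comap (Ideal.Quotient.mk J))
    (RingHom.strictMono_comap_of_surjective Ideal.Quotient.mk_surjective)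
  have h1 : (n : ℕ∞) ≤ Order.coheight q'.head := by
    rw [← hq]
    exact Order.length_le_coheight (p := q') le_rfl
  have h2 : (c : ℕ∞) ≤ Order.height q'.head := by
    have h3 : J ≤ q'.head.asIdeal := by
      intro x hx
      change Ideal.Quotient.mk J x ∈ q.head.asIdeal
      rw [Ideal.Quotient.eq_zero_iff_mem.mpr hx]
      exact zero_mem _
    have h4 := hc.trans (Ideal.height_mono h3)
    rwa [PrimeSpectrum.height_eq_orderHeight] at h4
  rw [hn, ringKrullDim, Order.krullDim_eq_iSup_height_add_coheight_of_nonempty]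
  have h5 : ((n + c : ℕ) : ℕ∞) ≤ Order.height q'.head + Order.coheight q'.head := by
    push_cast
    rw [add_comm]
    exact add_le_add h2 h1
  have h6 := h5.trans (le_iSup (fun a : PrimeSpectrum S => Order.height a + Order.coheight a) _)
  exact_mod_cast h6

theorem isRegular_of_height {A : Type u} [CommRing A] [hA : LocCoh.IsCohenMacaulayLocalRing A]
    (rs : List A) (hmem : ∀ r ∈ rs, r ∈ maximalIdeal A) (hh : (rs.length : ℕ∞) ≤ (Ideal.ofList rs).height) :
    IsRegular A rs := by
  refine (IsLocalRing.isRegular_iff_isWeaklyRegular_of_subset_maximalIdeal hmem).mpr ?_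
  refine Groth.Agent.Models.CMSeq.isWeaklyRegular_of_supportDim_le hA.supportDim_eq_depth rs hmem ?_
  have eq : Ideal.ofList rs • (⊤ : Ideal A) = Ideal.ofList rs := by simp
  rw [eq, Module.supportDim_quotient_eq_ringKrullDim, Module.supportDim_self_eq_ringKrullDim]
  exact ringKrullDim_quotient_add_le _ _ hh

theorem isRegular_atPrime {R : Type u} [CommRing R] (P : Ideal R) [P.IsPrime] {A : Type u} [CommRing A]
    [Algebra R A] [IsLocalization.AtPrime A P] (hA : LocCoh.IsCohenMacaulayLocalRing A)
    (rs : List R) (hP : Ideal.ofList rs ≤ P)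
    (hh : ∀ p : Ideal R, p.IsPrime → Ideal.ofList rs ≤ p → p ≤ P → (rs.length : ℕ∞) ≤ p.height) :
    IsRegular A (rs.map (algebraMap R A)) := by
  refine isRegular_of_height _ ?_ ?_
  · intro r hr
    obtain ⟨s, hs, rfl⟩ := List.mem_map.mp hr
    exact (IsLocalization.AtPrime.to_map_mem_maximal_iff A P s).mpr (hP (Ideal.subset_span hs))
  · rw [List.length_map, Ideal.height_eq_inf_minimalPrimes]
    refine le_iInf₂ fun q hq ↦ ?_
    have hq' : q.IsPrime := hq.1.1
    have h1 : (q.under R).height = q.height := IsLocalization.height_under P.primeCompl q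
    rw [← h1]
    refine hh _ inferInstance ?_ ?_
    · rw [Ideal.under, ← Ideal.map_le_iff_le_comap, Ideal.map_ofList]
      exact hq.1.2
    · have h3 : (maximalIdeal A).comap (algebraMap R A) = P :=
        IsLocalization.AtPrime.under_maximalIdeal A P
      rw [← h3]
      exact Ideal.comap_mono (IsLocalRing.le_maximalIdeal hq'.ne_top)

end K560.CodimReg
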