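import Groth.Agent.Sga67.KosRes
import Groth.Agent.Sga67.KosGlobal
import Groth.Agent.Sga67.ClosedTens
import Groth.Agent.Sga67.ClosedPush
import Groth.Agent.Dcoh.LTMod

/-!
# Tor sheaves of `i_* O_Y` with itself, for a regular closed immersion `i`

* `tensPushIso`: `- ⊗ i_* O_Y ≅ i_* i^*` for a closed immersion `i`.
* `nonempty_HD_LTensorMod_iso`: `H^n(P ⊗^L i_* O_Y) ≅ i_* H^n(i^* P)` for `P` K-flat.
* `nonempty_torSheaf_self_iso`: `Tor_q(i_* O_Y, i_* O_Y) ≅ i_* Λ^q (conormal)`.
-/

set_option autoImplicit false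
universe u
open CategoryTheory CategoryTheory.Limits AlgebraicGeometry
attribute [local instance] HasDerivedCategory.standard

namespace K560.TorSelf

open Groth.Agent Groth.Agent.Sga67 Groth.Agent.PerfC.RelFlatLpull

variable {X Y : Scheme.{u}}

/-- `- ⊗ i_* O_Y ≅ i_* i^*` -/
noncomputable def tensPushIso (i : Y ⟶ X) [IsClosedImmersion i] :
    DCoh.tensorRightMod ((Scheme.Modules.pushforward i).obj (Coh.structureModule Y)) ≅
      Scheme.Modules.pullback i ⋙ Scheme.Modules.pushforward i :=
  (Dcoh.TMod.braidIso _).symm ≪≫ ClosedTens.closedTensIso i (Coh.structureModule Y) ≪≫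
    Functor.isoWhiskerLeft (Scheme.Modules.pullback i)
      (Functor.isoWhiskerRight (Dcoh.TMod.braidIso (Coh.structureModule Y) ≪≫ PerfB.TensUnit.tensorUnit)
        (Scheme.Modules.pushforward i) ≪≫ Functor.leftUnitor _)

instance additive_pushforward (i : Y ⟶ X) : (Scheme.Modules.pushforward i).Additive :=
  (Scheme.Modules.pullbackPushforwardAdjunction i).right_adjoint_additive

/-- the homology of the direct image along a closed immersion of a complex -/
noncomputable def homologyPushIso (i : Y ⟶ X) [IsClosedImmersion i] (C : CochainComplex Y.Modules ℤ) (n : ℤ) :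
    (((Scheme.Modules.pushforward i).mapHomologicalComplex (ComplexShape.up ℤ)).obj C).homology n ≅
      (Scheme.Modules.pushforward i).obj (C.homology n) :=
  haveI := ClosedPush.preservesFiniteColimits_pushforward i
  haveI : PreservesFiniteLimits (Scheme.Modules.pushforward i) := inferInstance
  (C.sc n).mapHomologyIso (Scheme.Modules.pushforward i)

/-- `H^n(P ⊗^L i_* O_Y) ≅ i_* H^n(i^* P)` for `P` K-flat -/
theorem nonempty_HD_LTensorMod_iso (i : Y ⟶ X) [IsClosedImmersion i]
    [DCoh.HasLTensorMod ((Scheme.Modules.pushforward i).obj (Coh.structureModule Y))]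
    (P : CochainComplex X.Modules ℤ) (hP : DCoh.IsKFlat P) (n : ℤ) :
    Nonempty (DCoh.HD ((DCoh.LTensorMod ((Scheme.Modules.pushforward i).obj (Coh.structureModule Y))).obj
      (DCoh.toD X P)) n ≅ (Scheme.Modules.pushforward i).obj
        ((((Scheme.Modules.pullback i).mapHomologicalComplex (ComplexShape.up ℤ)).obj P).homology n)) :=
  ⟨Dcoh.LTMod.homologyIso _ hP n ≪≫
    (HomologicalComplex.homologyFunctor _ _ n).mapIso
      ((NatIso.mapHomologicalComplex (tensPushIso i) (ComplexShape.up ℤ)).app P) ≪≫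
    homologyPushIso i (((Scheme.Modules.pullback i).mapHomologicalComplex (ComplexShape.up ℤ)).obj P) n⟩

/-- `Tor_q(i_* O_Y, i_* O_Y) ≅ i_* Λ^q (conormal)` for a regular closed immersion -/
theorem nonempty_torSheaf_self_iso (i : Y ⟶ X) [IsClosedImmersion i] (hi : Mor2.IsRegularClosedImmersion i)
    [DCoh.HasLTensorMod ((Scheme.Modules.pushforward i).obj (Coh.structureModule Y))]
    (q : ℕ) (Lq : Y.Modules) (hLq : ExtPow.IsExtPow q (Omega.conormal i) Lq) :
    Nonempty (DCoh.HD ((DCoh.LTensorMod ((Scheme.Modules.pushforward i).obj (Coh.structureModule Y))).obj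
      (DCoh.inD X ((Scheme.Modules.pushforward i).obj (Coh.structureModule Y)))) (-(q : ℤ)) ≅
      (Scheme.Modules.pushforward i).obj Lq) := by
  obtain ⟨L, f, hL, hfl, hf⟩ := Dcoh.LeftRes.exists_resolution_of_isLE goodClass_flat
    ((CochainComplex.singleFunctor X.Modules 0).obj
      ((Scheme.Modules.pushforward i).obj (Coh.structureModule Y))) 0
  let C : CochainComplex Y.Modules ℤ :=
    ((Scheme.Modules.pullback i).mapHomologicalComplex (ComplexShape.up ℤ)).obj L
  have hC : C.IsStrictlyLE 0 := by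
    rw [CochainComplex.isStrictlyLE_iff]
    intro j hj
    exact (Scheme.Modules.pullback i).map_isZero (L.isZero_of_isStrictlyLE 0 j hj)
  have e1 : DCoh.toD X L ≅ DCoh.inD X ((Scheme.Modules.pushforward i).obj (Coh.structureModule Y)) :=
    asIso (DerivedCategory.Q.map f) ≪≫
      ((DerivedCategory.singleFunctorIsoCompQ X.Modules 0).app _).symm
  have hKF : DCoh.IsKFlat L := Groth.Agent.S0953.result L 0 hL hfl
  obtain ⟨e2⟩ := nonempty_HD_LTensorMod_iso i L hKF (-(q : ℤ))
  obtain ⟨e3⟩ := KosGlobal.nonempty_iso (KosRes.datOf i L f hL hfl hf)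
    (KosRes.hdOf C hC q (Iso.refl _)) hi hLq
  exact ⟨((DerivedCategory.homologyFunctor X.Modules (-(q : ℤ))).mapIso ((DCoh.LTensorMod
    ((Scheme.Modules.pushforward i).obj (Coh.structureModule Y))).mapIso e1.symm)) ≪≫ e2 ≪≫
    (Scheme.Modules.pushforward i).mapIso (e3 ≪≫ PerfB.TensUnit.unitTensor Lq)⟩

end K560.TorSelf
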