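import Groth.Agent.Cohder.RelPCMon
import Groth.Agent.Dual.H356.LpMon
import Groth.Agent.Dual.H370.PullKill
import Groth.Agent.PerfB.FlatPull
import Groth.Agent.S0017
import Groth.Agent.RegImm.K560.TorSelf

/-!
# Derived tensor products and the derived pull-back along the diagonal

* `nonempty_tens`: `F ⊗^L G ≅ P ⊗ R` for K-flat complexes `P`, `R` representing the modules `F`, `G`.
* `nonempty_lpull_tt`: `LΔ^*(p₁^* P ⊗ p₂^* R) ≅ P ⊗ R`.
* `nonempty_diagonal`: `i₁_*O ⊗^L i₂_*O ≅ LΔ^* (i₁ × i₂)_* O` for closed immersions into a flat scheme over a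
  base over which the second closed subscheme is flat.
-/

set_option autoImplicit false
universe u
open CategoryTheory CategoryTheory.Limits AlgebraicGeometry
attribute [local instance] HasDerivedCategory.standard

namespace K560.DiagTens

open Groth.Agent Groth.Agent.Cohder.RelPCMon Groth.Agent.PerfC.DTens

variable {X Y Z : Scheme.{u}}

/-- The pull-back of complexes. -/
noncomputable abbrev pb (f : X ⟶ Y) : CochainComplex Y.Modules ℤ ⥤ CochainComplex X.Modules ℤ :=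
  (Scheme.Modules.pullback f).mapHomologicalComplex (ComplexShape.up ℤ)

open scoped Groth.Agent.Dcoh.MonCat Groth.Agent.Dual.H356.LpMon in
/-- Pull-back commutes with the tensor product of complexes. -/
theorem nonempty_pb_tt (f : X ⟶ Y) (P N : CochainComplex Y.Modules ℤ) :
    Nonempty ((pb f).obj (tt P N) ≅ tt ((pb f).obj P) ((pb f).obj N)) :=
  ⟨(Functor.Monoidal.μIso (Groth.Agent.Dual.H356.LpMon.pbCx f) P N).symm⟩

/-- Pull-backs of complexes compose. -/
noncomputable def pbComp (f : X ⟶ Y) (g : Y ⟶ Z) : pb g ⋙ pb f ≅ pb (f ≫ g) :=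
  (Groth.Agent.Dual.H337.ProjC.mapComp _ _).symm ≪≫
    NatIso.mapHomologicalComplex (Scheme.Modules.pullbackComp f g) (ComplexShape.up ℤ)

/-- Pull-back along the identity. -/
noncomputable def pbId (P : CochainComplex X.Modules ℤ) : (pb (𝟙 X)).obj P ≅ P :=
  (NatIso.mapHomologicalComplex (Scheme.Modules.pullbackId X) (ComplexShape.up ℤ)).app P ≪≫
    HomologicalComplex.Hom.isoOfComponents (fun _ => Iso.refl _)
      (fun _ _ _ => (Category.id_comp _).trans (Category.comp_id _).symm)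

/-- Pull-back along a section of `p`, of the pull-back along `p`. -/
theorem nonempty_pb_section (Δ : X ⟶ Y) (p : Y ⟶ X) (h : Δ ≫ p = 𝟙 X) (P : CochainComplex X.Modules ℤ) :
    Nonempty ((pb Δ).obj ((pb p).obj P) ≅ P) := by
  have e1 : (pb Δ).obj ((pb p).obj P) ≅ (pb (Δ ≫ p)).obj P := (pbComp Δ p).app P
  rw [h] at e1
  exact ⟨e1 ≪≫ pbId P⟩

/-- `LΔ^*(p₁^* P ⊗ p₂^* R) ≅ P ⊗ R`. -/
theorem nonempty_lpull_tt (Δ : X ⟶ Y) [DCoh.HasLpull Δ] (p₁ p₂ : Y ⟶ X) (h₁ : Δ ≫ p₁ = 𝟙 X)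
    (h₂ : Δ ≫ p₂ = 𝟙 X) (P R : CochainComplex X.Modules ℤ) (hP : DCoh.IsKFlat P) (hR : DCoh.IsKFlat R) :
    Nonempty ((DCoh.Lpull Δ).obj (DerivedCategory.Q.obj (tt ((pb p₁).obj P) ((pb p₂).obj R))) ≅
      DerivedCategory.Q.obj (tt P R)) := by
  have k1 := Dcoh.KFlatInput.isKFlat_pullback p₁ P hP
  have k2 := Dcoh.KFlatInput.isKFlat_pullback p₂ R hR
  have k3 : DCoh.IsKFlat (tt ((pb p₁).obj P) ((pb p₂).obj R)) := Dcoh.ModD.isKFlat_tensor k1 k2
  obtain ⟨e1⟩ := nonempty_pb_tt Δ ((pb p₁).obj P) ((pb p₂).obj R)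
  obtain ⟨e2⟩ := nonempty_pb_section Δ p₁ h₁ P
  obtain ⟨e3⟩ := nonempty_pb_section Δ p₂ h₂ R
  exact ⟨Dcoh.DerPull.lpullIso Δ _ k3 ≪≫ DerivedCategory.Q.mapIso (e1 ≪≫
    (DCoh.tensorCx.mapIso e2).app _ ≪≫ ttRight P e3)⟩

/-- `F ⊗^L G ≅ P ⊗ R` -/
theorem nonempty_tens (F G : X.Modules) [DCoh.HasLTensorMod G] (P R : CochainComplex X.Modules ℤ)
    (hP : DCoh.IsKFlat P) (eP : DerivedCategory.Q.obj P ≅ DCoh.inD X F)
    (eR : DerivedCategory.Q.obj R ≅ DCoh.inD X G) :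
    Nonempty ((DCoh.LTensorMod G).obj (DCoh.inD X F) ≅ DerivedCategory.Q.obj (tt P R)) := by
  have h1 := hasLTensorCx (sgl G)
  have h2 := hasLTensorCx R
  obtain ⟨a⟩ := nonempty_mod G (DCoh.inD X F)
  have e : DerivedCategory.Q.obj (sgl G) ≅ DerivedCategory.Q.obj R :=
    ((DerivedCategory.singleFunctorIsoCompQ X.Modules 0).app G).symm ≪≫ eR.symm
  exact ⟨a ≪≫ (congrCx e).app _ ≪≫ (DCoh.LTensorCx R).mapIso eP.symm ≪≫ cxIso P R hP⟩

/-- A K-flat complex representing a module, with a quasi-isomorphism. -/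
theorem exists_kflat_res (F : X.Modules) : ∃ (P : CochainComplex X.Modules ℤ)
    (w : P ⟶ (CochainComplex.singleFunctor X.Modules 0).obj F), DCoh.IsKFlat P ∧ QuasiIso w := by
  obtain ⟨P, w, hP, hw⟩ := hasRes X ((CochainComplex.singleFunctor X.Modules 0).obj F)
  exact ⟨P, w, hP, hw⟩

/-- The class of a resolution. -/
noncomputable def resIso {F : X.Modules} {P : CochainComplex X.Modules ℤ}
    (w : P ⟶ (CochainComplex.singleFunctor X.Modules 0).obj F) [QuasiIso w] :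
    DerivedCategory.Q.obj P ≅ DCoh.inD X F :=
  asIso (DerivedCategory.Q.map w) ≪≫ ((DerivedCategory.singleFunctorIsoCompQ X.Modules 0).app F).symm

/-- The image of a resolution by an exact functor. -/
noncomputable def resMapIso (T : X.Modules ⥤ Y.Modules) [T.Additive] [PreservesFiniteLimits T]
    [PreservesFiniteColimits T] {F : X.Modules} {P : CochainComplex X.Modules ℤ}
    (w : P ⟶ (CochainComplex.singleFunctor X.Modules 0).obj F) [QuasiIso w] :
    DerivedCategory.Q.obj ((T.mapHomologicalComplex (ComplexShape.up ℤ)).obj P) ≅ DCoh.inD Y (T.obj F) :=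
  haveI : QuasiIso ((T.mapHomologicalComplex (ComplexShape.up ℤ)).map w) := inferInstance
  asIso (DerivedCategory.Q.map ((T.mapHomologicalComplex (ComplexShape.up ℤ)).map w)) ≪≫
    DerivedCategory.Q.mapIso ((HomologicalComplex.singleMapHomologicalComplex T (ComplexShape.up ℤ) 0).app F) ≪≫
    ((DerivedCategory.singleFunctorIsoCompQ Y.Modules 0).app (T.obj F)).symm

section Diagonal

variable {S Y₁ Y₂ : Scheme.{u}} (f : X ⟶ S) (i₁ : Y₁ ⟶ X) (i₂ : Y₂ ⟶ X)

/-- `i₁ × i₂` -/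
noncomputable abbrev prodMap : pullback (i₁ ≫ f) (i₂ ≫ f) ⟶ pullback f f :=
  pullback.map (i₁ ≫ f) (i₂ ≫ f) f f i₁ i₂ (𝟙 S) (Category.comp_id _) (Category.comp_id _)

theorem prodMap_fst : prodMap f i₁ i₂ ≫ pullback.fst f f = pullback.fst _ _ ≫ i₁ := pullback.lift_fst _ _ _

theorem prodMap_snd : prodMap f i₁ i₂ ≫ pullback.snd f f = pullback.snd _ _ ≫ i₂ := pullback.lift_snd _ _ _

/-- `X × Y₂` -/
noncomputable abbrev V₂ : Scheme.{u} := pullback (pullback.snd f f) i₂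

/-- `1 × i₂` -/
noncomputable abbrev j₂ : V₂ f i₂ ⟶ pullback f f := pullback.fst (pullback.snd f f) i₂

/-- The first projection `X × Y₂ ⟶ X`. -/
noncomputable abbrev q₁ : V₂ f i₂ ⟶ X := j₂ f i₂ ≫ pullback.fst f f

/-- `i₁ × 1` -/
noncomputable abbrev a₁ : pullback (i₁ ≫ f) (i₂ ≫ f) ⟶ V₂ f i₂ :=
  pullback.lift (prodMap f i₁ i₂) (pullback.snd _ _) (prodMap_snd f i₁ i₂)

theorem a₁_j₂ : a₁ f i₁ i₂ ≫ j₂ f i₂ = prodMap f i₁ i₂ := pullback.lift_fst _ _ _

theorem isPullback_q₁ : IsPullback (q₁ f i₂) (pullback.snd (pullback.snd f f) i₂) f (i₂ ≫ f) :=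
  ((IsPullback.of_hasPullback (pullback.snd f f) i₂).flip.paste_vert
    (IsPullback.of_hasPullback f f).flip).flip

theorem isPullback_a₁ : IsPullback (pullback.fst (i₁ ≫ f) (i₂ ≫ f)) (a₁ f i₁ i₂) i₁ (q₁ f i₂) := by
  refine (IsPullback.of_right (h₁₂ := pullback.snd (pullback.snd f f) i₂) (v₁₃ := i₂ ≫ f) (h₂₂ := f)
    ?_ ?_ (isPullback_q₁ f i₂).flip).flip
  · have h : a₁ f i₁ i₂ ≫ pullback.snd (pullback.snd f f) i₂ = pullback.snd (i₁ ≫ f) (i₂ ≫ f) :=
      pullback.lift_snd _ _ _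
    rw [h]
    exact (IsPullback.of_hasPullback (i₁ ≫ f) (i₂ ≫ f)).flip
  · rw [← Category.assoc, a₁_j₂, prodMap_fst]

instance additive_pullback (g : X ⟶ Y) : (Scheme.Modules.pullback g).Additive :=
  (Scheme.Modules.pullbackPushforwardAdjunction g).left_adjoint_additive

/-- `i₁_*O ⊗^L i₂_*O ≅ LΔ^* (i₁ × i₂)_* O` -/
theorem nonempty_diagonal [IsClosedImmersion i₁] [IsClosedImmersion i₂] [Flat f] [Flat (i₂ ≫ f)]
    [DCoh.HasLTensorMod ((Scheme.Modules.pushforward i₂).obj (Coh.structureModule Y₂))]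
    [DCoh.HasLpull (pullback.diagonal f)] :
    Nonempty ((DCoh.LTensorMod ((Scheme.Modules.pushforward i₂).obj (Coh.structureModule Y₂))).obj
        (DCoh.inD X ((Scheme.Modules.pushforward i₁).obj (Coh.structureModule Y₁))) ≅
      (DCoh.Lpull (pullback.diagonal f)).obj (DCoh.inD (pullback f f)
        ((Scheme.Modules.pushforward (prodMap f i₁ i₂)).obj
          (Coh.structureModule (pullback (i₁ ≫ f) (i₂ ≫ f)))))) := by
  obtain ⟨P, w, hP, hw⟩ := exists_kflat_res ((Scheme.Modules.pushforward i₁).obj (Coh.structureModule Y₁))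
  obtain ⟨R, w', hR, hw'⟩ := exists_kflat_res ((Scheme.Modules.pushforward i₂).obj (Coh.structureModule Y₂))
  obtain ⟨e1⟩ := nonempty_tens _ _ P R hP (resIso w) (resIso w')
  obtain ⟨e2⟩ := nonempty_lpull_tt (pullback.diagonal f) (pullback.fst f f) (pullback.snd f f)
    (pullback.diagonal_fst f) (pullback.diagonal_snd f) P R hP hR
  -- the tensor product on `X × X`
  have hflat : Flat (q₁ f i₂) :=
    MorphismProperty.of_isPullback (P := @Flat) (isPullback_q₁ f i₂).flip inferInstance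
  have hL := Dcoh.LTMod.hasLTensorMod
    ((Scheme.Modules.pushforward (j₂ f i₂)).obj (Coh.structureModule (V₂ f i₂)))
  obtain ⟨eG⟩ := Dual.H370.PullKill.nonempty_pull_push
    (IsPullback.of_hasPullback (pullback.snd f f) i₂).flip
  have : IsClosedImmersion (a₁ f i₁ i₂) :=
    MorphismProperty.of_isPullback (P := @IsClosedImmersion) (isPullback_a₁ f i₁ i₂) inferInstance
  obtain ⟨eF⟩ := Dual.H370.PullKill.nonempty_pull_push (isPullback_a₁ f i₁ i₂)
  have eP' : DerivedCategory.Q.obj ((pb (pullback.fst f f)).obj P) ≅ DCoh.inD _ _ :=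
    resMapIso (Scheme.Modules.pullback (pullback.fst f f)) w
  have eR' : DerivedCategory.Q.obj ((pb (pullback.snd f f)).obj R) ≅ DCoh.inD _ _ :=
    resMapIso (Scheme.Modules.pullback (pullback.snd f f)) w'
  have kP' := Dcoh.KFlatInput.isKFlat_pullback (pullback.fst f f) P hP
  obtain ⟨e3⟩ := nonempty_tens _ ((Scheme.Modules.pushforward (j₂ f i₂)).obj (Coh.structureModule (V₂ f i₂)))
    _ _ kP' eP' (eR' ≪≫ (DerivedCategory.singleFunctor _ 0).mapIso eG)
  have e4 := Dcoh.LTMod.isoQ ((Scheme.Modules.pushforward (j₂ f i₂)).obj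
    (Coh.structureModule (V₂ f i₂))) kP'
  let β : Scheme.Modules.pullback (pullback.fst f f) ⋙ DCoh.tensorRightMod
      ((Scheme.Modules.pushforward (j₂ f i₂)).obj (Coh.structureModule (V₂ f i₂))) ≅
      Scheme.Modules.pullback (q₁ f i₂) ⋙ Scheme.Modules.pushforward (j₂ f i₂) :=
    Functor.isoWhiskerLeft _ (TorSelf.tensPushIso (j₂ f i₂)) ≪≫ (Functor.associator _ _ _).symm ≪≫
      Functor.isoWhiskerRight (Scheme.Modules.pullbackComp (j₂ f i₂) (pullback.fst f f)) _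
  have := Sga67.ClosedPush.preservesFiniteColimits_pushforward (j₂ f i₂)
  have : PreservesFiniteLimits (Scheme.Modules.pushforward (j₂ f i₂)) := inferInstance
  have e5 : DerivedCategory.Q.obj (((DCoh.tensorRightMod ((Scheme.Modules.pushforward (j₂ f i₂)).obj
      (Coh.structureModule (V₂ f i₂)))).mapHomologicalComplex (ComplexShape.up ℤ)).obj
        ((pb (pullback.fst f f)).obj P)) ≅ DerivedCategory.Q.obj (((Scheme.Modules.pullback (q₁ f i₂) ⋙
          Scheme.Modules.pushforward (j₂ f i₂)).mapHomologicalComplex (ComplexShape.up ℤ)).obj P) :=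
    DerivedCategory.Q.mapIso ((Dual.H337.ProjC.mapComp _ _).symm.app P ≪≫
      (NatIso.mapHomologicalComplex β (ComplexShape.up ℤ)).app P)
  have e6 := resMapIso (Scheme.Modules.pullback (q₁ f i₂) ⋙ Scheme.Modules.pushforward (j₂ f i₂)) w
  have e7 : (Scheme.Modules.pushforward (j₂ f i₂)).obj ((Scheme.Modules.pushforward (a₁ f i₁ i₂)).obj
      (Coh.structureModule _)) ≅ (Scheme.Modules.pushforward (prodMap f i₁ i₂)).obj
        (Coh.structureModule (pullback (i₁ ≫ f) (i₂ ≫ f))) :=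
    (Scheme.Modules.pushforwardComp (a₁ f i₁ i₂) (j₂ f i₂)).app _ ≪≫
      (Scheme.Modules.pushforwardCongr (a₁_j₂ f i₁ i₂)).app _
  exact ⟨e1 ≪≫ e2.symm ≪≫ (DCoh.Lpull (pullback.diagonal f)).mapIso (e3.symm ≪≫
    (DCoh.LTensorMod _).mapIso eP'.symm ≪≫ e4 ≪≫ e5 ≪≫ e6 ≪≫ (DerivedCategory.singleFunctor _ 0).mapIso
      ((Scheme.Modules.pushforward (j₂ f i₂)).mapIso eF ≪≫ e7))⟩

end Diagonal

end K560.DiagTens
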