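import Groth.Agent.RegImm.K560.ExcPush

/-!
# Compatibility of `theta` with changes of charts
-/

set_option autoImplicit false

universe u v w

open CategoryTheory CategoryTheory.Limits AlgebraicGeometry Opposite TopologicalSpace
open scoped TensorProduct
open Groth.Agent Groth.Agent.Sga67 Groth.Agent.Sga67.Sec Groth.Agent.Sga67.LocBasis Groth.Agent.Sga67.KosAlt
  Groth.Agent.Sga67.KosStalk Groth.Agent.Sga67.KosImm Groth.Agent.Sga67.KosConormal Groth.Agent.Sga67.KosTheta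

namespace K560.Exc

open K560.KosTwo K560.ThetaTwo

section Alg

/-- Alternating maps are insensitive to changes of the arguments by elements killing the values. -/
theorem alt_congr_of_kills {A : Type u} [CommRing A] {n k : ℕ} {F : Type v} [AddCommGroup F] [Module A F]
    (𝔞 : Ideal A) (h𝔞 : ∀ a ∈ 𝔞, ∀ y : F, a • y = 0) (z : Alt A n k F) (t t' : Fin k → Fin n → A)
    (h : ∀ i j, t i j - t' i j ∈ 𝔞) : z t = z t' := by
  rw [KosGlobal.alt_apply_eq_sum, KosGlobal.alt_apply_eq_sum]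
  refine Finset.sum_congr rfl fun J _ => ?_
  rw [← sub_eq_zero, ← sub_smul]
  apply h𝔞
  rw [← Ideal.Quotient.mk_eq_mk_iff_sub_mem, KosGlobal.minor, KosGlobal.minor, RingHom.map_det, RingHom.map_det]
  congr 1
  ext q r
  exact (Ideal.Quotient.mk_eq_mk_iff_sub_mem _ _).mpr (h q _)

theorem mulVec_eq {A : Type u} [CommRing A] {n m : ℕ} (M : Matrix (Fin n) (Fin m) A) (v : Fin m → A) (k : Fin n) :
    M.mulVec v k = ∑ q, M k q * v q := rfl

end Alg

variable {X Y Z W : Scheme.{u}}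

/-- Finitely many germs in an ideal come from sections over an affine open. -/
theorem exists_sections_ideal {κ : Type} [Finite κ] (I : X.IdealSheafData) {x : X} (r : κ → X.presheaf.stalk x)
    (hr : ∀ l, r l ∈ IntMult.stalkIdeal I x) (O : X.Opens) (hO : x ∈ O) :
    ∃ (V : X.Opens) (_ : V ≤ O) (hx : x ∈ V) (a : κ → SM (ClSub.idealMod I) V),
      ∀ l, gO X hx (vl I (a l)) = r l := by
  choose W0 hW0 hyW0 b0 hb0 using fun l => exists_of_mem_stalkIdeal I hO (r l) (hr l)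
  obtain ⟨V, hxV, hVO, hV⟩ := exists_common_nbhd O hO W0 hyW0
  refine ⟨V, hVO, hxV, fun l => rs _ (hV l) (b0 l), fun l => ?_⟩
  rw [vl_rs, gO_resO]
  exact hb0 l

theorem exists_sections_fn {κ : Type} [Finite κ] {x : X} (r : κ → X.presheaf.stalk x)
    (O : X.Opens) (hO : x ∈ O) :
    ∃ (V : X.Opens) (_ : V ≤ O) (hx : x ∈ V) (a : κ → Γ(X, V)), ∀ l, gO X hx (a l) = r l := by
  choose W0 hW0 hyW0 b0 hb0 using fun l => (TopCat.Presheaf.exists_le_germ_eq X.presheaf (r l) hO)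
  obtain ⟨V, hxV, hVO, hV⟩ := exists_common_nbhd O hO W0 hyW0
  refine ⟨V, hVO, hxV, fun l => resO X (hV l) (b0 l), fun l => ?_⟩
  rw [gO_resO]
  exact hb0 l

theorem exists_eq_nhd {κ : Type} [Finite κ] {x : X} {V : X.Opens} (hx : x ∈ V) (f g : κ → Γ(X, V))
    (h : ∀ k, gO X hx (f k) = gO X hx (g k)) :
    ∃ (V' : X.Opens) (hV' : V' ≤ V), x ∈ V' ∧ ∀ k, resO X hV' (f k) = resO X hV' (g k) := by
  choose W0 hW0 hyW0 e using fun k => exists_resO_eq hx (h k)
  obtain ⟨V', hxV', hV'V, hV'⟩ := exists_common_nbhd V hx W0 hyW0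
  refine ⟨V', hV'V, hxV', fun k => ?_⟩
  have := congrArg (resO X (hV' k)) (e k)
  rwa [resO_resO, resO_resO] at this

variable {S : Ctx X Y Z W}

/-- The comparison of the classes of two charts. -/
def Cmp (c c' : ECh S) (h : c'.U ≤ c.U) (α : Matrix (Fin c.n) (Fin c'.n) Γ(X, c'.U)) : Prop :=
  ∀ l, rs (E S) (S.w.preimage_mono h) (c.s l) = ∑ k, S.w.app c'.U (α l k) • c'.s k

theorem exists_cmp (c c' : ECh S) (h : c'.U ≤ c.U) : ∃ α, Cmp c c' h α := by
  have h1 : ∀ l, ∃ a : Fin c'.n → Γ(X, c'.U), rs (E S) (S.w.preimage_mono h) (c.s l) =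
      ∑ k, S.w.app c'.U (a k) • c'.s k := by
    intro l
    obtain ⟨a, ha⟩ := (c'.hb (S.w ⁻¹ᵁ c'.U) le_rfl).2 (rs (E S) (S.w.preimage_mono h) (c.s l))
    choose a' ha' using fun k => S.w.app_surjective c'.U c'.hU (a k)
    refine ⟨a', ?_⟩
    have h2 : rs (E S) (S.w.preimage_mono h) (c.s l) = ∑ k, a k • rs (E S) le_rfl (c'.s k) := ha.symm
    rw [h2]
    refine Finset.sum_congr rfl fun k _ => ?_
    have h3 : S.w.app c'.U (a' k) = a k := ha' k
    rw [h3, rs_self]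
  choose a ha using h1
  exact ⟨Matrix.of a, ha⟩

/-- The difference of the functions. -/
noncomputable def dif (c c' : ECh S) (h : c'.U ≤ c.U) (α : Matrix (Fin c.n) (Fin c'.n) Γ(X, c'.U))
    (l : Fin c.n) : Γ(X, c'.U) := resO X h (c.u l) - ∑ k, α l k * c'.u k

theorem dif_isE (c c' : ECh S) (h : c'.U ≤ c.U) (α : Matrix (Fin c.n) (Fin c'.n) Γ(X, c'.U)) (hα : Cmp c c' h α)
    (l : Fin c.n) : ∃ a b, IsE S c'.U a b 0 ∧ vl _ a = dif c c' h α l := by
  have h6 := ((c.hs l).rs h).sub (IsE.sum (fun k => (c'.hs k).smul (α l k)) Finset.univ)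
  rw [hα l, sub_self] at h6
  refine ⟨_, _, h6, ?_⟩
  have h7 : ∀ (s t : SM (ClSub.idealMod S.i.ker) c'.U), vl _ (s - t) = vl _ s - vl _ t := by
    intro s t
    rw [eq_sub_iff_add_eq, ← KosGlobal.vl_add, sub_add_cancel]
  rw [h7, KosGlobal.vl_sum, vl_rs]
  simp only [KosGlobal.vl_smul]
  rfl

theorem dif_mem (c c' : ECh S) (h : c'.U ≤ c.U) (α : Matrix (Fin c.n) (Fin c'.n) Γ(X, c'.U)) (hα : Cmp c c' h α)
    (l : Fin c.n) {x : X} (hx : x ∈ c'.U) :
    gO X hx (dif c c' h α l) ∈ IntMult.stalkIdeal S.j.ker x ∧ ∀ y : W, S.w y = x →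
      gO X hx (dif c c' h α l) ∈ IntMult.stalkIdeal S.w.ker x * IntMult.stalkIdeal S.i.ker x ∧
      gO X hx (dif c c' h α l) ∈ IntMult.stalkIdeal S.w.ker x * IntMult.stalkIdeal S.j.ker x := by
  obtain ⟨a, b, hE, ha⟩ := dif_isE c c' h α hα l
  refine ⟨?_, ?_⟩
  · rw [← ha, hE.1]
    exact gO_vl_mem _ _ _
  · rintro y rfl
    rw [← ha]
    exact (hE.gm_eq_zero_iff y hx).mp (map_zero _)

/-- The local data comparing two charts. -/
theorem exists_local (c c' : ECh S) (h : c'.U ≤ c.U) (α : Matrix (Fin c.n) (Fin c'.n) Γ(X, c'.U))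
    (hα : Cmp c c' h α) {x : X} (hx : x ∈ c'.U) (hxj : x ∈ Set.range S.j) :
    ∃ (V : X.Opens) (hV : V ≤ c'.U), x ∈ V ∧ ∃ (b : ℕ) (g : Fin b → Γ(X, V))
      (β : Matrix (Fin c.n) (Fin b) Γ(X, V)) (β' : Matrix (Fin c'.n) (Fin b) Γ(X, V)),
      (∀ l, S.j.app V (g l) = 0) ∧ (∀ l k, S.i.app V (β l k) = 0) ∧
      ((α.map (resO X hV) * β' + β).mulVec g = fun l => resO X hV (resO X h (c.u l))) ∧
      (β'.mulVec g = fun l => resO X hV (c'.u l)) := by
  obtain ⟨b, g, -, hg⟩ := exists_regular S.hj x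
  choose βr hβr hβr' using fun l => exists_coeff hxj g hg (gO X hx (dif c c' h α l)) (dif_mem c c' h α hα l hx).1
    (dif_mem c c' h α hα l hx).2
  have hu' : ∀ k, gO X hx (c'.u k) ∈ Ideal.span (Set.range g) := by
    intro k
    rw [← hg, c'.u_eq]
    exact gO_vl_mem _ _ _
  choose β' hβ' using fun k => (Submodule.mem_span_range_iff_exists_fun _).mp (hu' k)
  obtain ⟨V₁, hV₁, hxV₁, gs, hgs⟩ := exists_sections_ideal S.j.ker g
    (fun l => by rw [hg]; exact Ideal.subset_span ⟨l, rfl⟩) c'.U hx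
  obtain ⟨V₂, hV₂, hxV₂, βs, hβs⟩ := exists_sections_ideal S.i.ker (fun q : Fin c.n × Fin b => βr q.1 q.2)
    (fun q => hβr q.1 q.2) V₁ hxV₁
  obtain ⟨V₃, hV₃, hxV₃, β's, hβ's⟩ := exists_sections_fn (fun q : Fin c'.n × Fin b => β' q.1 q.2) V₂ hxV₂
  have h31 : V₃ ≤ V₁ := hV₃.trans hV₂
  have h3c : V₃ ≤ c'.U := h31.trans hV₁
  -- equalities of germs
  obtain ⟨V₄, hV₄, hxV₄, e₄⟩ := exists_eq_nhd hxV₃ (fun k : Fin c'.n => ∑ l, β's (k, l) * vl _ (rs _ h31 (gs l)))
    (fun k => resO X h3c (c'.u k)) (by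
      intro k
      rw [map_sum, gO_resO, ← hβ' k]
      refine Finset.sum_congr rfl fun l _ => ?_
      rw [map_mul, hβ's, vl_rs, gO_resO, hgs]
      rfl)
  obtain ⟨V₅, hV₅, hxV₅, e₅⟩ := exists_eq_nhd hxV₃ (fun l : Fin c.n => ∑ q, vl _ (rs _ hV₃ (βs (l, q))) *
      vl _ (rs _ h31 (gs q)))
    (fun l => resO X h3c (dif c c' h α l)) (by
      intro k
      rw [map_sum, gO_resO, hβr' k]
      refine Finset.sum_congr rfl fun l _ => ?_
      rw [map_mul, vl_rs, vl_rs, gO_resO, gO_resO, hgs, hβs])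
  obtain ⟨V, hV, hxV, hV45⟩ := exists_isAffineOpen_mem_and_subset (X := X) (x := x) (U := V₄ ⊓ V₅) ⟨hxV₄, hxV₅⟩
  have hV4 : V ≤ V₄ := fun z hz => (hV45 hz).1
  have hV5 : V ≤ V₅ := fun z hz => (hV45 hz).2
  have hV3 : V ≤ V₃ := hV4.trans hV₄
  refine ⟨V, hV3.trans h3c, hxV, b, fun l => resO X hV3 (vl _ (rs _ h31 (gs l))),
    Matrix.of fun l q => resO X hV3 (vl _ (rs _ hV₃ (βs (l, q)))),
    Matrix.of fun k q => resO X hV3 (β's (k, q)), ?_, ?_, ?_, ?_⟩
  · intro l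
    change S.j.app V (resO X hV3 (vl _ (rs _ h31 (gs l)))) = 0
    rw [← vl_rs]
    exact app_vl S.j hV _
  · intro l k
    rw [Matrix.of_apply, ← vl_rs]
    exact app_vl S.i hV _
  · funext l
    have h1 : ∀ k, (Matrix.of (fun k q => resO X hV3 (β's (k, q)))).mulVec
        (fun l => resO X hV3 (vl _ (rs _ h31 (gs l)))) k = resO X (hV3.trans h3c) (c'.u k) := by
      intro k
      have h2 := congrArg (resO X hV4) (e₄ k)
      rw [resO_resO, resO_resO, resO_resO, map_sum] at h2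
      rw [← h2, mulVec_eq]
      refine Finset.sum_congr rfl fun q _ => ?_
      rw [map_mul]
      rfl
    rw [Matrix.add_mulVec, Pi.add_apply, ← Matrix.mulVec_mulVec]
    have h3 : (Matrix.of (fun k q => resO X hV3 (β's (k, q)))).mulVec
        (fun l => resO X hV3 (vl _ (rs _ h31 (gs l)))) = fun k => resO X (hV3.trans h3c) (c'.u k) := funext h1
    rw [h3]
    have h4 : (Matrix.of (fun l q => resO X hV3 (vl _ (rs _ hV₃ (βs (l, q)))))).mulVec
        (fun l => resO X hV3 (vl _ (rs _ h31 (gs l)))) l = resO X (hV3.trans h3c) (dif c c' h α l) := by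
      have h2 := congrArg (resO X hV5) (e₅ l)
      rw [resO_resO, resO_resO, resO_resO, map_sum] at h2
      rw [← h2, mulVec_eq]
      refine Finset.sum_congr rfl fun q _ => ?_
      rw [map_mul]
      rfl
    rw [h4, dif, map_sub, map_sum]
    have h5 : (α.map (resO X (hV3.trans h3c))).mulVec (fun k => resO X (hV3.trans h3c) (c'.u k)) l =
        ∑ k, resO X (hV3.trans h3c) (α l k * c'.u k) := by
      rw [mulVec_eq]
      refine Finset.sum_congr rfl fun k _ => ?_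
      rw [map_mul]
      rfl
    rw [h5, add_sub_cancel]
  · funext k
    have h2 := congrArg (resO X hV4) (e₄ k)
    rw [resO_resO, resO_resO, resO_resO, map_sum] at h2
    rw [← h2, mulVec_eq]
    refine Finset.sum_congr rfl fun q _ => ?_
    rw [map_mul]
    rfl

variable {p : ℕ} {T : Z.Modules} (D : Dat S.i (Coh.structureModule Y)) (H : HD (KK D S.j) (dKK D S.j) p T)

/-- Change of charts. -/
theorem theta_compat (c c' : ECh S) (h : c'.U ≤ c.U) (α : Matrix (Fin c.n) (Fin c'.n) Γ(X, c'.U))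
    (hα : Cmp c c' h α) (ω : Alt Γ(X, c'.U) c.n p (SM (FF S.i) c'.U)) :
    theta D H (fun l => resO X h (c.u l)) (fun l => app_resO_eq_zero h (c.app_i_u l))
      (fun l => app_resO_eq_zero h (c.app_j_u l)) ω =
    theta D H c'.u c'.app_i_u c'.app_j_u (ω.compLinearMap α.mulVecLin) := by
  refine theta_congr_of_local _ _ _ _ _ _ fun z hz => ?_
  obtain ⟨V, hV, hxV, b, g, β, β', hg, hβ, h₁, h₂⟩ := exists_local c c' h α hα hz ⟨z, rfl⟩
  refine ⟨V, hV, hxV, b, g, α.map (resO X hV) * β' + β, β', hg, h₁, h₂, ?_⟩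
  rw [← bc_compLinearMap (resO X hV) (rs _ hV) (rs_smul _ hV)]
  ext v
  change bc Γ(X, V) (rs _ hV) ω (fun i => (α.map (resO X hV) * β' + β).mulVecLin (v i)) =
    bc Γ(X, V) (rs _ hV) ω (fun i => (α.map (resO X hV)).mulVecLin (β'.mulVecLin (v i)))
  refine alt_congr_of_kills (RingHom.ker (S.i.app V).hom) ?_ _ _ _ ?_
  · intro a ha y
    exact KosTheta.smul_push a y ha
  · intro q l
    have h3 : (α.map (resO X hV) * β' + β).mulVecLin (v q) l -
        (α.map (resO X hV)).mulVecLin (β'.mulVecLin (v q)) l = β.mulVec (v q) l := by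
      simp only [Matrix.mulVecLin_apply]
      rw [Matrix.add_mulVec, Pi.add_apply, ← Matrix.mulVec_mulVec, add_sub_cancel_left]
    have h4 : ∀ k, β l k ∈ RingHom.ker (S.i.app V).hom := fun k => hβ l k
    rw [h3, mulVec_eq]
    exact Ideal.sum_mem _ fun k _ => Ideal.mul_mem_right _ _ (h4 k)

end K560.Exc
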