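import Groth.Agent.RegImm.K560.ExcIso
import Groth.Agent.RegImm.K560.TorSelf
import Groth.Agent.RegImm.K560.Stalk
import Groth.Agent.RegImm.K560.InterCodim

/-!
# Tor sheaves of two regularly immersed closed subschemes with regularly immersed intersection
-/

set_option autoImplicit false
universe u
open CategoryTheory CategoryTheory.Limits AlgebraicGeometry
attribute [local instance] HasDerivedCategory.standard

namespace K560.Exc

open Groth.Agent Groth.Agent.Sga67 Groth.Agent.PerfC.RelFlatLpull K560.TorSelf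

variable {X Y Z W : Scheme.{u}}

theorem nonempty_iso_tor (S : Ctx X Y Z W)
    [DCoh.HasLTensorMod ((Scheme.Modules.pushforward S.j).obj (Coh.structureModule Z))]
    (q : ℕ) (L : W.Modules) (hL : ExtPow.IsExtPow q (E S) L) :
    Nonempty (DCoh.HD ((DCoh.LTensorMod ((Scheme.Modules.pushforward S.j).obj (Coh.structureModule Z))).obj
      (DCoh.inD X ((Scheme.Modules.pushforward S.i).obj (Coh.structureModule Y)))) (-(q : ℤ)) ≅
      (Scheme.Modules.pushforward S.w).obj L) := by
  obtain ⟨P, f, hP, hfl, hf⟩ := Dcoh.LeftRes.exists_resolution_of_isLE goodClass_flat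
    ((CochainComplex.singleFunctor X.Modules 0).obj
      ((Scheme.Modules.pushforward S.i).obj (Coh.structureModule Y))) 0
  let C : CochainComplex Z.Modules ℤ :=
    ((Scheme.Modules.pullback S.j).mapHomologicalComplex (ComplexShape.up ℤ)).obj P
  have hC : C.IsStrictlyLE 0 := by
    rw [CochainComplex.isStrictlyLE_iff]
    intro j hj
    exact (Scheme.Modules.pullback S.j).map_isZero (P.isZero_of_isStrictlyLE 0 j hj)
  have e1 : DCoh.toD X P ≅ DCoh.inD X ((Scheme.Modules.pushforward S.i).obj (Coh.structureModule Y)) :=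
    asIso (DerivedCategory.Q.map f) ≪≫
      ((DerivedCategory.singleFunctorIsoCompQ X.Modules 0).app _).symm
  have hKF : DCoh.IsKFlat P := Groth.Agent.S0953.result P 0 hP hfl
  obtain ⟨e2⟩ := nonempty_HD_LTensorMod_iso S.j P hKF (-(q : ℤ))
  obtain ⟨e3⟩ := nonempty_iso (KosRes.datOf S.i P f hP hfl hf)
    (T := C.homology (-(q : ℤ))) (KosRes.hdOf C hC q (Iso.refl _)) hL
  exact ⟨((DerivedCategory.homologyFunctor X.Modules (-(q : ℤ))).mapIso ((DCoh.LTensorMod
    ((Scheme.Modules.pushforward S.j).obj (Coh.structureModule Z))).mapIso e1.symm)) ≪≫ e2 ≪≫ e3⟩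

end K560.Exc
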