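import Groth.Agent.RegImm.K560.ExcGerm
import Groth.Agent.PerfC.PullRestrict

/-!
# The excess conormal module is finite locally free
-/

set_option autoImplicit false

universe u v w

open CategoryTheory CategoryTheory.Limits AlgebraicGeometry Opposite TopologicalSpace
open scoped TensorProduct
open Groth.Agent Groth.Agent.Sga67 Groth.Agent.Sga67.Sec Groth.Agent.Sga67.LocBasis Groth.Agent.Sga67.KosAlt
  Groth.Agent.Sga67.KosStalk Groth.Agent.Sga67.KosImm Groth.Agent.Sga67.KosConormal Groth.Agent.Sga67.KosTheta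

namespace K560.Exc

variable {X Y Z W : Scheme.{u}}

theorem isFinLocFree_conormal {i : Y ⟶ X} [IsClosedImmersion i] (hi : Mor2.IsRegularClosedImmersion i) :
    FlatMod.IsFinLocFree (Omega.conormal i) := by
  refine isFinLocFree_of_exists fun y => ?_
  obtain ⟨c, hc, -⟩ := exists_chart hi y ⊤ trivial
  exact ⟨c.V, Fin c.l.length, inferInstance, fun j => fN c j, hc, isLocBasis_fN c⟩

theorem isFinLocFree_pc {i : Y ⟶ X} [IsClosedImmersion i] (hi : Mor2.IsRegularClosedImmersion i) (g : W ⟶ Y) :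
    FlatMod.IsFinLocFree (pc i g) :=
  PerfC.PullRestrict.isFinLocFree_pullback g (isFinLocFree_conormal hi)

variable (S : Ctx X Y Z W)

theorem exists_mem_sup {A : Type u} [CommRing A] {K I J : Ideal A} (hK : K = I ⊔ J) {a : A} (h : a ∈ K) :
    ∃ α β, α ∈ I ∧ β ∈ J ∧ α + β = a := by
  rw [hK] at h
  obtain ⟨α, hα, β, hβ, e⟩ := Submodule.mem_sup.mp h
  exact ⟨α, β, hα, hβ, e⟩

instance epi_desc : Epi (coprod.desc S.φY S.φZ) := by
  apply epi_of_locally_surjective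
  intro V s y hy
  obtain ⟨c₀, hc₀⟩ := cwx_surjective S.w y (gm (Omega.conormal S.w) hy (toSM s))
  have h1 : vx S.w.ker (S.w y) c₀ ∈ IntMult.stalkIdeal S.w.ker (S.w y) := by
    rw [← range_vx]
    exact ⟨_, rfl⟩
  obtain ⟨α, β, hα, hβ, hαβ⟩ := exists_mem_sup (K_eq S (S.w y)) h1
  obtain ⟨V₁, -, hV₁, a, ha⟩ := exists_of_mem_stalkIdeal S.i.ker (U := ⊤) trivial α hα
  obtain ⟨V₂, -, hV₂, b, hb⟩ := exists_of_mem_stalkIdeal S.j.ker (U := ⊤) trivial β hβ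
  obtain ⟨O, hO, hyO, hO₁₂⟩ := exists_isAffineOpen_mem_and_subset (X := X) (x := S.w y) (U := V₁ ⊓ V₂)
    ⟨hV₁, hV₂⟩
  have h01 : O ≤ V₁ := fun z hz => (hO₁₂ hz).1
  have h02 : O ≤ V₂ := fun z hz => (hO₁₂ hz).2
  obtain ⟨c₁, hc₁⟩ := exists_vl S.w hO (vl _ (rs _ h01 a)) (app_comp_eq_zero S.hY (app_vl S.i hO _))
  obtain ⟨c₂, hc₂⟩ := exists_vl S.w hO (vl _ (rs _ h02 b)) (app_comp_eq_zero S.hZ (app_vl S.j hO _))
  have e₁ := ap_cs S.hY S.hφY O _ c₁ hc₁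
  have e₂ := ap_cs S.hZ S.hφZ O _ c₂ hc₂
  have h2 : gm _ hyO (c₁ + c₂) = c₀ := by
    apply vx_injective
    rw [map_add, map_add, vx_gm, vx_gm, hc₁, hc₂, vl_rs, vl_rs, gO_resO, gO_resO, ha, hb, hαβ]
  have h3 : gm (Omega.conormal S.w) (show y ∈ S.w ⁻¹ᵁ O from hyO) (cw S.w O (c₁ + c₂)) =
      gm (Omega.conormal S.w) hy (toSM s) := by
    rw [← hc₀, ← h2, cwx_gm]
  let V₃ : W.Opens := S.w ⁻¹ᵁ O ⊓ V
  have hyV₃ : y ∈ V₃ := ⟨hyO, hy⟩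
  have h4 : gm (Omega.conormal S.w) hyV₃ (rs _ inf_le_left (cw S.w O (c₁ + c₂))) =
      gm (Omega.conormal S.w) hyV₃ (rs _ inf_le_right (toSM s)) := by
    rw [gm_rs, gm_rs]
    exact h3
  obtain ⟨V₄, hV₄, hyV₄, e⟩ := gm_eq _ hyV₃ _ _ h4
  let t : SM (pc S.i S.gY ⨿ pc S.j S.gZ) (S.w ⁻¹ᵁ O) :=
    ap coprod.inl _ (cs S.hY O (rs _ h01 a)) + ap coprod.inr _ (cs S.hZ O (rs _ h02 b))
  have ht : ap (coprod.desc S.φY S.φZ) _ t = cw S.w O (c₁ + c₂) := by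
    rw [map_add, ← ap_comp, ← ap_comp, coprod.inl_desc, coprod.inr_desc, map_add, e₁, e₂]
  refine ⟨V₄, hV₄.trans inf_le_right, hyV₄, rs _ (hV₄.trans inf_le_left) t, ?_⟩
  have h5 : ap (coprod.desc S.φY S.φZ) V₄ (rs _ (hV₄.trans inf_le_left) t) = rs _ (hV₄.trans inf_le_right) (toSM s) := by
    rw [ap_rs, ht]
    rw [rs_rs, rs_rs] at e
    exact e
  exact h5

theorem isFinLocFree_E : FlatMod.IsFinLocFree (E S) := by
  refine Dcoh.Spread.isFinLocFree_kernel (coprod.desc S.φY S.φZ) ?_ (isFinLocFree_conormal S.hw)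
  exact Dcoh.FinLocFree.isFinLocFree_of_iso (biprod.isoCoprod _ _)
    (Dcoh.FinLocFree.isFinLocFree_biprod (isFinLocFree_pc S.hi S.gY) (isFinLocFree_pc S.hj S.gZ))

/-- Charts for `E`. -/
structure ECh where
  U : X.Opens
  hU : IsAffineOpen U
  n : ℕ
  a : Fin n → SM (ClSub.idealMod S.i.ker) U
  b : Fin n → SM (ClSub.idealMod S.j.ker) U
  s : Fin n → SM (E S) (S.w ⁻¹ᵁ U)
  hs : ∀ l, IsE S U (a l) (b l) (s l)
  hb : IsLocBasis (M := E S) (U := S.w ⁻¹ᵁ U) (fun l => s l)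

variable {S}

theorem exists_ech_mem (y : W) (O : X.Opens) (hO : S.w y ∈ O) : ∃ c : ECh S, S.w y ∈ c.U ∧ c.U ≤ O := by
  obtain ⟨V, n, hyV, b₀, hb₀⟩ := (isFinLocFree_iff _).mp (isFinLocFree_E S) y
  choose U hUO hU hyU a b s hs hgs using fun l : Fin n => exists_germ_isE (S := S) y
    (gm (E S) hyV (toSM (b₀ l))) hO
  have h1 : ∀ l, ∃ (V' : W.Opens) (h₁ : V' ≤ S.w ⁻¹ᵁ (U l)) (h₂ : V' ≤ V), y ∈ V' ∧
      rs _ h₁ (s l) = rs _ h₂ (toSM (b₀ l)) := by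
    intro l
    have hyl : y ∈ S.w ⁻¹ᵁ (U l) ⊓ V := ⟨hyU l, hyV⟩
    obtain ⟨V', hV', hyV', e⟩ := gm_eq (E S) hyl (rs _ inf_le_left (s l)) (rs _ inf_le_right (toSM (b₀ l))) (by
      rw [gm_rs, gm_rs]
      exact hgs l)
    rw [rs_rs, rs_rs] at e
    exact ⟨V', hV'.trans inf_le_left, hV'.trans inf_le_right, hyV', e⟩
  choose V' h₁ h₂ hyV' e using h1
  choose O' hO' hO'V using fun l => exists_open_preimage (i := S.w) (hyV' l)
  obtain ⟨O₁, hO₁, hO₁V⟩ := exists_open_preimage (i := S.w) hyV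
  obtain ⟨W₀, hyW₀, hW₀O, hW₀⟩ := exists_common_nbhd (O ⊓ O₁) ⟨hO, hO₁⟩ (fun l => U l ⊓ O' l)
    (fun l => ⟨hyU l, hO' l⟩)
  obtain ⟨U₀, hU₀, hyU₀, hU₀W⟩ := exists_isAffineOpen_mem_and_subset (X := X) (x := S.w y) (U := W₀) hyW₀
  have hU₀W' : U₀ ≤ W₀ := hU₀W
  have hle : ∀ l, U₀ ≤ U l := fun l => (hU₀W'.trans (hW₀ l)).trans inf_le_left
  have hle' : ∀ l, U₀ ≤ O' l := fun l => (hU₀W'.trans (hW₀ l)).trans inf_le_right
  have hwV : S.w ⁻¹ᵁ U₀ ≤ V := (S.w.preimage_mono ((hU₀W'.trans hW₀O).trans inf_le_right)).trans hO₁V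
  refine ⟨⟨U₀, hU₀, n, fun l => rs _ (hle l) (a l), fun l => rs _ (hle l) (b l),
    fun l => rs _ (S.w.preimage_mono (hle l)) (s l), fun l => (hs l).rs (hle l), ?_⟩, hyU₀,
    (hU₀W'.trans hW₀O).trans inf_le_left⟩
  have h3 : (fun l => (rs _ (S.w.preimage_mono (hle l)) (s l) : SM (E S) (S.w ⁻¹ᵁ U₀))) =
      fun l => toSM (res (E S) hwV (b₀ l)) := by
    funext l
    have h4 := congrArg (rs (E S) ((S.w.preimage_mono (hle' l)).trans (hO'V l))) (e l)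
    rw [rs_rs, rs_rs] at h4
    exact h4
  rw [h3]
  exact hb₀.restrict hwV

theorem subsingleton_of_le_bot {M : W.Modules} {V : W.Opens} (hV : V ≤ ⊥) (s t : Sec M V) : s = t := by
  apply eq_of_locally
  intro x hx
  exact absurd (hV hx) (by exact fun h => h)

theorem isLocBasis_of_le_bot {M : W.Modules} {V : W.Opens} (hV : V ≤ ⊥) (b : Fin 0 → Sec M V) : IsLocBasis b := by
  intro V' h
  refine ⟨?_, fun s => ⟨0, subsingleton_of_le_bot (h.trans hV) _ _⟩⟩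
  intro a a' _
  exact Subsingleton.elim _ _

theorem exists_ech_zero (x : X) (hx : x ∉ Set.range S.w) (O : X.Opens) (hO : x ∈ O) :
    ∃ c : ECh S, x ∈ c.U ∧ c.U ≤ O ∧ c.n = 0 := by
  let C : X.Opens := ⟨(Set.range S.w)ᶜ, S.w.isClosedEmbedding.isClosed_range.isOpen_compl⟩
  obtain ⟨U₀, hU₀, hxU₀, hU₀W⟩ := exists_isAffineOpen_mem_and_subset (X := X) (x := x) (U := O ⊓ C) ⟨hO, hx⟩
  have hU₀W' : U₀ ≤ O ⊓ C := hU₀W
  have hbot : S.w ⁻¹ᵁ U₀ ≤ ⊥ := by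
    intro y hy
    exact absurd ⟨y, rfl⟩ (hU₀W' hy).2
  exact ⟨⟨U₀, hU₀, 0, fun l => l.elim0, fun l => l.elim0, fun l => l.elim0, fun l => l.elim0,
    isLocBasis_of_le_bot hbot _⟩, hxU₀, hU₀W'.trans inf_le_left, rfl⟩

theorem exists_ech (x : X) (O : X.Opens) (hO : x ∈ O) : ∃ c : ECh S, x ∈ c.U ∧ c.U ≤ O := by
  by_cases hx : x ∈ Set.range S.w
  · obtain ⟨y, rfl⟩ := hx
    exact exists_ech_mem y O hO
  · obtain ⟨c, h₁, h₂, -⟩ := exists_ech_zero x hx O hO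
    exact ⟨c, h₁, h₂⟩

end K560.Exc
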