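import Groth.Agent.RegImm.K560.ExcKer

/-!
# Germs of the excess conormal module
-/

set_option autoImplicit false

universe u v w

open CategoryTheory CategoryTheory.Limits AlgebraicGeometry Opposite TopologicalSpace
open scoped TensorProduct
open Groth.Agent Groth.Agent.Sga67 Groth.Agent.Sga67.Sec Groth.Agent.Sga67.LocBasis Groth.Agent.Sga67.KosAlt
  Groth.Agent.Sga67.KosStalk Groth.Agent.Sga67.KosImm Groth.Agent.Sga67.KosConormal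

namespace K560.Exc

variable {X Y Z W : Scheme.{u}} {S : Ctx X Y Z W}

theorem mem_of_mem_mul {A : Type u} [CommRing A] {I J : Ideal A} {a : A} (h : a ∈ I * J) : a ∈ J :=
  Ideal.mul_le_right h

theorem exists_add_of_mem {A : Type u} [CommRing A] {K I J : Ideal A} (hK : K = I ⊔ J) {a : A} (h : a ∈ K * K) :
    ∃ α β, α ∈ K * I ∧ β ∈ K * J ∧ α + β = a := by
  have h' : a ∈ K * I ⊔ K * J := by
    rw [← Ideal.mul_sup, ← hK]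
    exact h
  obtain ⟨α, hα, β, hβ, e⟩ := Submodule.mem_sup.mp h'
  exact ⟨α, β, hα, hβ, e⟩

/-- Modifying two functions congruent modulo `K²` into one function. -/
theorem exists_modify {V : X.Opens} {y : W} (hy : S.w y ∈ V)
    (a : SM (ClSub.idealMod S.i.ker) V) (b : SM (ClSub.idealMod S.j.ker) V)
    (h : gO X hy (vl S.i.ker a) - gO X hy (vl S.j.ker b) ∈
      IntMult.stalkIdeal S.w.ker (S.w y) * IntMult.stalkIdeal S.w.ker (S.w y)) :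
    ∃ (V' : X.Opens) (hV' : V' ≤ V) (hy' : S.w y ∈ V') (a₂ : SM (ClSub.idealMod S.i.ker) V')
      (b₂ : SM (ClSub.idealMod S.j.ker) V'),
      gm (pc S.i S.gY) (show y ∈ S.w ⁻¹ᵁ V' from hy') (cs S.hY V' a₂) = 0 ∧
      gm (pc S.j S.gZ) (show y ∈ S.w ⁻¹ᵁ V' from hy') (cs S.hZ V' b₂) = 0 ∧
      vl S.i.ker (rs _ hV' a - a₂) = vl S.j.ker (rs _ hV' b + b₂) := by
  obtain ⟨α, β, hα, hβ, hαβ⟩ := exists_add_of_mem (K_eq S (S.w y)) h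
  obtain ⟨V₄, hV₄, hyV₄, a₂, ha₂⟩ := exists_of_mem_stalkIdeal S.i.ker hy α (mem_of_mem_mul hα)
  obtain ⟨V₅, hV₅, hyV₅, b₂, hb₂⟩ := exists_of_mem_stalkIdeal S.j.ker hy β (mem_of_mem_mul hβ)
  have hA2 : gm (pc S.i S.gY) (show y ∈ S.w ⁻¹ᵁ V₄ from hyV₄) (cs S.hY V₄ a₂) = 0 := by
    rw [gm_cs_eq_zero_iff S.hY y hyV₄, ha₂]
    exact hα
  have hB2 : gm (pc S.j S.gZ) (show y ∈ S.w ⁻¹ᵁ V₅ from hyV₅) (cs S.hZ V₅ b₂) = 0 := by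
    rw [gm_cs_eq_zero_iff S.hZ y hyV₅, hb₂]
    exact hβ
  have h64 : V₄ ⊓ V₅ ≤ V₄ := inf_le_left
  have h65 : V₄ ⊓ V₅ ≤ V₅ := inf_le_right
  have hyV₆ : S.w y ∈ V₄ ⊓ V₅ := ⟨hyV₄, hyV₅⟩
  have hab : gO X hyV₆ (vl S.i.ker (rs _ (h64.trans hV₄) a - rs _ h64 a₂)) =
      gO X hyV₆ (vl S.j.ker (rs _ (h64.trans hV₄) b + rs _ h65 b₂)) := by
    rw [← vx_gm, ← vx_gm, map_sub, map_sub, map_add, map_add, vx_gm, vx_gm, vx_gm, vx_gm, vl_rs, vl_rs, vl_rs, vl_rs,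
      gO_resO, gO_resO, gO_resO, gO_resO, ha₂, hb₂, sub_eq_iff_eq_add, add_assoc, add_comm β α, hαβ]
    ring
  obtain ⟨V₇, hV₇, hyV₇, hab'⟩ := exists_resO_eq hyV₆ hab
  refine ⟨V₇, hV₇.trans (h64.trans hV₄), hyV₇, rs _ (hV₇.trans h64) a₂, rs _ (hV₇.trans h65) b₂, ?_, ?_, ?_⟩
  · rw [cs_rs, gm_rs]
    exact hA2
  · rw [cs_rs, gm_rs]
    exact hB2
  · rw [← vl_rs, ← vl_rs, map_sub, map_add, rs_rs, rs_rs, rs_rs, rs_rs] at hab'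
    exact hab'

/-- Germs of `E` are given by functions. -/
theorem exists_germ_isE (y : W) (t : StM (E S) y) {U : X.Opens} (hU : S.w y ∈ U) :
    ∃ (V : X.Opens) (_ : V ≤ U) (_ : IsAffineOpen V) (hV : S.w y ∈ V) (a : SM (ClSub.idealMod S.i.ker) V)
      (b : SM (ClSub.idealMod S.j.ker) V) (s : SM (E S) (S.w ⁻¹ᵁ V)), IsE S V a b s ∧
      gm (E S) (show y ∈ S.w ⁻¹ᵁ V from hV) s = t := by
  obtain ⟨V₁, hV₁, hyV₁, a₁, ha₁⟩ := exists_cs S.hY y (stM (eA S) y t) hU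
  obtain ⟨V₂, hV₂, hyV₂, b₁, hb₁⟩ := exists_cs S.hZ y (- stM (eB S) y t) hU
  obtain ⟨V₃, hV₃, hyV₃, hV₃₁₂⟩ := exists_isAffineOpen_mem_and_subset (X := X) (x := S.w y) (U := V₁ ⊓ V₂)
    ⟨hyV₁, hyV₂⟩
  have h31 : V₃ ≤ V₁ := fun z hz => (hV₃₁₂ hz).1
  have h32 : V₃ ≤ V₂ := fun z hz => (hV₃₁₂ hz).2
  have hgA : gm (pc S.i S.gY) (show y ∈ S.w ⁻¹ᵁ V₃ from hyV₃) (cs S.hY V₃ (rs _ h31 a₁)) = stM (eA S) y t := by
    rw [cs_rs, gm_rs]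
    exact ha₁
  have hgB : gm (pc S.j S.gZ) (show y ∈ S.w ⁻¹ᵁ V₃ from hyV₃) (cs S.hZ V₃ (rs _ h32 b₁)) = - stM (eB S) y t := by
    rw [cs_rs, gm_rs]
    exact hb₁
  have h3 := sub_mem_of_isE hV₃ hyV₃ _ _ t hgA hgB
  obtain ⟨V₇, hV₇, hyV₇, a₂, b₂, ha₂, hb₂, hab⟩ := exists_modify hyV₃ _ _ h3
  obtain ⟨V, hV, hyV, hV7⟩ := exists_isAffineOpen_mem_and_subset (X := X) (x := S.w y) (U := V₇) hyV₇
  have hle7 : V ≤ V₇ := hV7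
  obtain ⟨s, hs⟩ := exists_isE (S := S) hV (rs _ hle7 (rs _ hV₇ (rs _ h31 a₁) - a₂))
    (rs _ hle7 (rs _ hV₇ (rs _ h32 b₁) + b₂)) (by rw [vl_rs, vl_rs, hab])
  refine ⟨V, hle7.trans (hV₇.trans (h31.trans hV₁)), hV, hyV, _, _, s, hs, StE_ext ?_ ?_⟩
  · rw [stM_gm, hs.2.1, cs_rs, gm_rs, map_sub, map_sub]
    have h9 : gm (pc S.i S.gY) (S.w.preimage_mono hle7 (show y ∈ S.w ⁻¹ᵁ V from hyV)) (cs S.hY V₇ a₂) = 0 := ha₂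
    rw [h9, sub_zero, cs_rs, gm_rs]
    exact hgA
  · rw [stM_gm, hs.2.2, cs_rs, map_neg, gm_rs, map_add, map_add]
    have h9 : gm (pc S.j S.gZ) (S.w.preimage_mono hle7 (show y ∈ S.w ⁻¹ᵁ V from hyV)) (cs S.hZ V₇ b₂) = 0 := hb₂
    rw [h9, add_zero, cs_rs, gm_rs]
    have h10 : gm (pc S.j S.gZ) (S.w.preimage_mono hV₇ (S.w.preimage_mono hle7 (show y ∈ S.w ⁻¹ᵁ V from hyV)))
      (cs S.hZ V₃ (rs _ h32 b₁)) = - stM (eB S) y t := hgB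
    rw [h10, neg_neg]

end K560.Exc
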