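import Groth.Agent.RegImm.K560.ExcCompat

/-!
# The isomorphism between the Tor sheaves and the exterior powers of the excess conormal module
-/

set_option autoImplicit false

universe u v w

open CategoryTheory CategoryTheory.Limits AlgebraicGeometry Opposite TopologicalSpace
open scoped TensorProduct
open Groth.Agent Groth.Agent.Sga67 Groth.Agent.Sga67.Sec Groth.Agent.Sga67.LocBasis Groth.Agent.Sga67.KosAlt
  Groth.Agent.Sga67.KosStalk Groth.Agent.Sga67.KosImm Groth.Agent.Sga67.KosConormal Groth.Agent.Sga67.KosTheta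
  Groth.Agent.Sga67.KosGlobal Groth.Agent.Sga67.ExtSheaf

namespace K560.Exc

open K560.KosTwo K560.ThetaTwo

variable {X Y Z W : Scheme.{u}} {S : Ctx X Y Z W}
variable {p : ℕ} {T : Z.Modules} (D : Dat S.i (Coh.structureModule Y)) (H : HD (KK D S.j) (dKK D S.j) p T)

/-- The alternating map with given coefficients. -/
noncomputable def alC (c : ECh S) (G : Set.powersetCard (Fin c.n) p → Γ(X, c.U)) :
    Alt Γ(X, c.U) c.n p (SM (FF S.i) c.U) := ofCoeff (A := Γ(X, c.U)) (fun J => G J • oneF S.i c.U)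

theorem coeff_alC (c : ECh S) (G : Set.powersetCard (Fin c.n) p → Γ(X, c.U)) (J : Set.powersetCard (Fin c.n) p) :
    coeff (alC c G) J = G J • oneF S.i c.U := coeff_ofCoeff _ _

/-- Theta on alternating maps. -/
noncomputable def thA (c : ECh S) : Alt Γ(X, c.U) c.n p (SM (FF S.i) c.U) →+ SM T (S.j ⁻¹ᵁ c.U) where
  toFun ω := theta D H c.u c.app_i_u c.app_j_u ω
  map_zero' := by
    have h := theta_add (D := D) (H := H) c.app_i_u c.app_j_u 0 0
    rw [add_zero] at h
    exact left_eq_add.mp h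
  map_add' ω ω' := theta_add c.app_i_u c.app_j_u ω ω'

theorem thA_smul (c : ECh S) (a : Γ(X, c.U)) (ω : Alt Γ(X, c.U) c.n p (SM (FF S.i) c.U)) :
    thA D H c (a • ω) = S.j.app c.U a • thA D H c ω := theta_smul c.app_i_u c.app_j_u ω a

/-- Theta on families of functions. -/
noncomputable def thC (c : ECh S) : (Set.powersetCard (Fin c.n) p → Γ(X, c.U)) →+ SM T (S.j ⁻¹ᵁ c.U) where
  toFun G := thA D H c (alC c G)
  map_zero' := by
    have : alC (p := p) c 0 = 0 := by
      apply ext_coeff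
      intro J
      rw [coeff_alC, coeff_zero, Pi.zero_apply, zero_smul]
    rw [this, map_zero]
  map_add' G G' := by
    have : alC (p := p) c (G + G') = alC c G + alC c G' := by
      apply ext_coeff
      intro J
      rw [coeff_alC, coeff_add, coeff_alC, coeff_alC, Pi.add_apply, add_smul]
    rw [this, map_add]

theorem thC_apply (c : ECh S) (G : Set.powersetCard (Fin c.n) p → Γ(X, c.U)) :
    thC D H c G = thA D H c (alC c G) := rfl

theorem thC_smul (c : ECh S) (a : Γ(X, c.U)) (G : Set.powersetCard (Fin c.n) p → Γ(X, c.U)) :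
    thC D H c (a • G) = S.j.app c.U a • thC D H c G := by
  rw [thC_apply, thC_apply, ← thA_smul]
  congr 1
  apply ext_coeff
  intro J
  rw [coeff_alC, coeff_smul, coeff_alC, Pi.smul_apply, smul_eq_mul, mul_smul]

theorem thC_eq_zero_of_j (c : ECh S) (G : Set.powersetCard (Fin c.n) p → Γ(X, c.U))
    (hG : ∀ J, S.j.app c.U (G J) = 0) : thC D H c G = 0 := by
  classical
  have h1 : G = ∑ J, G J • (Pi.single J (1 : Γ(X, c.U)) : Set.powersetCard (Fin c.n) p → Γ(X, c.U)) := by
    funext K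
    rw [Finset.sum_apply]
    simp [Pi.single_apply]
  rw [h1, map_sum]
  refine Finset.sum_eq_zero fun J _ => ?_
  rw [thC_smul, hG, zero_smul]

theorem thC_eq_zero_of_i (c : ECh S) (G : Set.powersetCard (Fin c.n) p → Γ(X, c.U))
    (hG : ∀ J, S.i.app c.U (G J) = 0) : thC D H c G = 0 := by
  have h1 : alC c G = 0 := by
    apply ext_coeff
    intro J
    rw [coeff_alC, coeff_zero, smul_oneF_eq_zero_iff]
    exact hG J
  rw [thC_apply, h1, map_zero]

theorem exists_add_of_app_w (c : ECh S) (a : Γ(X, c.U)) (ha : S.w.app c.U a = 0) :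
    ∃ b d, a = b + d ∧ S.i.app c.U b = 0 ∧ S.j.app c.U d = 0 := by
  have h1 : a ∈ S.w.ker.ideal ⟨c.U, c.hU⟩ := by
    rw [Scheme.Hom.ker_apply]
    exact ha
  rw [S.hK] at h1
  obtain ⟨b, hb, d, hd, e⟩ := Submodule.mem_sup.mp h1
  rw [Scheme.Hom.ker_apply] at hb hd
  exact ⟨b, d, e.symm, hb, hd⟩

theorem thC_eq_zero (c : ECh S) (G : Set.powersetCard (Fin c.n) p → Γ(X, c.U))
    (hG : ∀ J, S.w.app c.U (G J) = 0) : thC D H c G = 0 := by
  choose b d e hb hd using fun J => exists_add_of_app_w c (G J) (hG J)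
  have h1 : G = b + d := funext e
  rw [h1, map_add, thC_eq_zero_of_i D H c b hb, thC_eq_zero_of_j D H c d hd, add_zero]

theorem thC_congr (c : ECh S) (G G' : Set.powersetCard (Fin c.n) p → Γ(X, c.U))
    (hG : ∀ J, S.w.app c.U (G J) = S.w.app c.U (G' J)) : thC D H c G = thC D H c G' := by
  rw [← sub_eq_zero, ← map_sub]
  refine thC_eq_zero D H c _ fun J => ?_
  rw [Pi.sub_apply, map_sub, hG, sub_self]

/-- Restriction to a smaller chart. -/
theorem rs_thA (c c' : ECh S) (O : X.Opens) (hO : O ≤ c.U) (h : c'.U ≤ O)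
    (α : Matrix (Fin c.n) (Fin c'.n) Γ(X, c'.U)) (hα : Cmp c c' (h.trans hO) α)
    (ω : Alt Γ(X, O) c.n p (SM (FF S.i) O)) :
    rs T (S.j.preimage_mono h) (theta D H (fun l => resO X hO (c.u l)) (fun l => app_resO_eq_zero hO (c.app_i_u l))
      (fun l => app_resO_eq_zero hO (c.app_j_u l)) ω) =
      thA D H c' ((bc Γ(X, c'.U) (rs _ h) ω).compLinearMap α.mulVecLin) := by
  rw [← theta_res h (fun l => app_resO_eq_zero hO (c.app_i_u l)) (fun l => app_resO_eq_zero hO (c.app_j_u l))]
  refine Eq.trans ?_ (theta_compat D H c c' (h.trans hO) α hα _)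
  congr 1
  funext l
  exact resO_resO _ _ _

theorem rs_thA' (c c' : ECh S) (h : c'.U ≤ c.U) (α : Matrix (Fin c.n) (Fin c'.n) Γ(X, c'.U)) (hα : Cmp c c' h α)
    (ω : Alt Γ(X, c.U) c.n p (SM (FF S.i) c.U)) :
    rs T (S.j.preimage_mono h) (thA D H c ω) =
      thA D H c' ((bc Γ(X, c'.U) (rs _ h) ω).compLinearMap α.mulVecLin) := by
  have h1 := theta_res (D := D) (H := H) h c.app_i_u c.app_j_u ω
  exact h1.symm.trans (theta_compat D H c c' h α hα _)

/-- The coefficients over a smaller chart. -/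
noncomputable def subst (c c' : ECh S) (h : c'.U ≤ c.U) (α : Matrix (Fin c.n) (Fin c'.n) Γ(X, c'.U))
    (G : Set.powersetCard (Fin c.n) p → Γ(X, c.U)) (K : Set.powersetCard (Fin c'.n) p) : Γ(X, c'.U) :=
  ∑ J : Set.powersetCard (Fin c.n) p, resO X h (G J) *
    (Matrix.of fun q r => α (Set.powersetCard.ofFinEmbEquiv.symm J r)
      (Set.powersetCard.ofFinEmbEquiv.symm K q)).det

theorem rs_thC (c c' : ECh S) (h : c'.U ≤ c.U) (α : Matrix (Fin c.n) (Fin c'.n) Γ(X, c'.U)) (hα : Cmp c c' h α)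
    (G : Set.powersetCard (Fin c.n) p → Γ(X, c.U)) :
    rs T (S.j.preimage_mono h) (thC D H c G) = thC D H c' (subst c c' h α G) := by
  rw [thC_apply, thC_apply, rs_thA' D H c c' h α hα]
  congr 1
  apply ext_coeff
  intro K
  rw [coeff_alC, coeff_compLinearMap, subst, Finset.sum_smul]
  refine Finset.sum_congr rfl fun J _ => ?_
  rw [coeff_bc, coeff_alC, rs_smul, rs_oneF, mul_comm, mul_smul]

variable {L : W.Modules} (φ : Phi p (E S) L)

/-- The affine open of `W` given by a chart. -/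
def ECh.aff (c : ECh S) : W.affineOpens := ⟨S.w ⁻¹ᵁ c.U, c.hU.preimage S.w⟩

/-- The basis over a chart. -/
noncomputable def ECh.bas (c : ECh S) : Module.Basis (Fin c.n) Γ(W, c.aff.1) (Sec (E S) c.aff.1) :=
  c.hb.basis le_rfl

theorem ECh.bas_apply (c : ECh S) (l : Fin c.n) : c.bas l = c.s l := by
  refine (IsLocBasis.basis_apply _ _ _).trans ?_
  exact res_self _ _ _

theorem res_bas (c c' : ECh S) (h : c'.U ≤ c.U) (α : Matrix (Fin c.n) (Fin c'.n) Γ(X, c'.U)) (hα : Cmp c c' h α)
    (l : Fin c.n) : res (E S) (U := c.aff.1) (V := c'.aff.1) (S.w.preimage_mono h) (c.bas l) =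
      ∑ k, (show Γ(W, c'.aff.1) from S.w.app c'.U (α l k)) • c'.bas k := by
  simp only [ECh.bas_apply]
  exact hα l

/-- Lifts of the coordinates. -/
noncomputable def lif (c : ECh S) (s : Sec L c.aff.1) (J : Set.powersetCard (Fin c.n) p) : Γ(X, c.U) :=
  (S.w.app_surjective c.U c.hU (crd φ c.aff c.bas s J)).choose

theorem app_lif (c : ECh S) (s : Sec L c.aff.1) (J : Set.powersetCard (Fin c.n) p) :
    S.w.app c.U (lif φ c s J) = crd φ c.aff c.bas s J :=
  (S.w.app_surjective c.U c.hU (crd φ c.aff c.bas s J)).choose_spec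

theorem thC_eq_of_lift (c : ECh S) (s : Sec L c.aff.1) (G : Set.powersetCard (Fin c.n) p → Γ(X, c.U))
    (hG : ∀ J, S.w.app c.U (G J) = crd φ c.aff c.bas s J) : thC D H c (lif φ c s) = thC D H c G :=
  thC_congr D H c _ _ fun J => (app_lif φ c s J).trans (hG J).symm

/-- The map over a chart. -/
noncomputable def lm (c : ECh S) : Sec ((Scheme.Modules.pushforward S.w).obj L) c.U →ₗ[Γ(X, c.U)]
    Sec ((Scheme.Modules.pushforward S.j).obj T) c.U where
  toFun s := thC D H c (lif φ c (show Sec L c.aff.1 from s))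
  map_add' s s' := by
    refine (thC_eq_of_lift D H φ c _ (lif φ c (show Sec L c.aff.1 from s) + lif φ c (show Sec L c.aff.1 from s')) ?_).trans
      (map_add _ _ _)
    intro J
    rw [Pi.add_apply, map_add, app_lif, app_lif]
    exact (congrFun (map_add (crd φ c.aff c.bas) (show Sec L c.aff.1 from s) (show Sec L c.aff.1 from s')) J).symm
  map_smul' a s := by
    refine (thC_eq_of_lift D H φ c _ (a • lif φ c (show Sec L c.aff.1 from s)) ?_).trans
      (thC_smul D H c a _)
    intro J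
    rw [Pi.smul_apply, smul_eq_mul, map_mul, app_lif]
    exact (congrFun (map_smul (crd φ c.aff c.bas) (show Γ(W, c.aff.1) from S.w.app c.U a)
      (show Sec L c.aff.1 from s)) J).symm

theorem lm_apply (c : ECh S) (s : Sec L c.aff.1) :
    lm D H φ c s = thC D H c (lif φ c s) := rfl

theorem map_det_of {U : X.Opens} (β : Fin p → Fin p → Γ(X, U)) :
    S.w.app U (Matrix.of fun q r => β r q).det = (Matrix.of fun r q => (S.w.app U (β r q))).det := by
  have h1 := RingHom.map_det (S.w.app U).hom (Matrix.of fun q r => β r q)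
  refine Eq.trans h1 ?_
  rw [← Matrix.det_transpose]
  rfl

theorem lm_res_aux (hφ : PhiComp φ) (c c' : ECh S) (h : c'.U ≤ c.U) (s : Sec L c.aff.1) :
    thC D H c' (lif φ c' (res L (U := c.aff.1) (V := c'.aff.1) (S.w.preimage_mono h) s)) =
      rs T (S.j.preimage_mono h) (thC D H c (lif φ c s)) := by
  obtain ⟨α, hα⟩ := exists_cmp c c' h
  refine Eq.trans ?_ (rs_thC D H c c' h α hα (lif φ c s)).symm
  refine thC_eq_of_lift D H φ c' (res L (U := c.aff.1) (V := c'.aff.1) (S.w.preimage_mono h) s) _ fun K => ?_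
  rw [crd_res φ hφ (V := c.aff) (V' := c'.aff) (S.w.preimage_mono h) c.bas c'.bas
    (fun j k => (show Γ(W, c'.aff.1) from S.w.app c'.U (α j k))) (res_bas c c' h α hα) s K]
  rw [subst, map_sum]
  refine Finset.sum_congr rfl fun J _ => ?_
  rw [map_mul, app_resO, app_lif, map_det_of]
  rfl

theorem lm_res (hφ : PhiComp φ) (c c' : ECh S) (h : c'.U ≤ c.U)
    (s : Sec ((Scheme.Modules.pushforward S.w).obj L) c.U) :
    lm D H φ c' (res _ h s) = res _ h (lm D H φ c s) := lm_res_aux D H φ hφ c c' h s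

/-- The charts give a basis of the topology of `X`. -/
theorem isBasis_ech (S : Ctx X Y Z W) : Opens.IsBasis (Set.range (fun c : ECh S => c.U)) := by
  rw [Opens.isBasis_iff_nbhd]
  intro V x hx
  obtain ⟨c, hc, hcO⟩ := exists_ech (S := S) x V hx
  exact ⟨_, ⟨c, rfl⟩, hc, hcO⟩

theorem exists_hom (hφ : PhiComp φ) :
    ∃ Θ : (Scheme.Modules.pushforward S.w).obj L ⟶ (Scheme.Modules.pushforward S.j).obj T,
      ∀ (c : ECh S) (s : Sec ((Scheme.Modules.pushforward S.w).obj L) c.U), appS Θ c.U s = lm D H φ c s :=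
  exists_hom_of_basis' (isBasis_ech S) _ _ (fun c => lm D H φ c) (fun c c' h s => lm_res D H φ hφ c c' h s)

end K560.Exc
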