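import Groth.Agent.RegImm.K560.ExcGlobal

/-!
# The comparison map is an isomorphism
-/

set_option autoImplicit false

universe u v w

open CategoryTheory CategoryTheory.Limits AlgebraicGeometry Opposite TopologicalSpace
open scoped TensorProduct
open Groth.Agent Groth.Agent.Sga67 Groth.Agent.Sga67.Sec Groth.Agent.Sga67.LocBasis Groth.Agent.Sga67.KosAlt
  Groth.Agent.Sga67.KosStalk Groth.Agent.Sga67.KosImm Groth.Agent.Sga67.KosConormal Groth.Agent.Sga67.KosTheta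
  Groth.Agent.Sga67.KosGlobal Groth.Agent.Sga67.ExtSheaf

namespace K560.Exc

open K560.KosTwo K560.ThetaTwo

variable {X Y Z W : Scheme.{u}} {S : Ctx X Y Z W}

theorem good_of_mem' (c : ECh S) {x : X} (hx : x ∈ c.U) (hw : x ∈ Set.range S.w) :
    Good S x (fun l => gO X hx (c.u l)) := by
  obtain ⟨y, rfl⟩ := hw
  exact good_of_mem c y hx

theorem i_le_w (S : Ctx X Y Z W) (x : X) : IntMult.stalkIdeal S.i.ker x ≤ IntMult.stalkIdeal S.w.ker x := by
  rw [K_eq]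
  exact le_sup_left

variable {p : ℕ} {T : Z.Modules} (D : Dat S.i (Coh.structureModule Y)) (H : HD (KK D S.j) (dKK D S.j) p T)

theorem gO_mem_of_thC_eq_zero (c : ECh S) (G : Set.powersetCard (Fin c.n) p → Γ(X, c.U)) (h : thC D H c G = 0)
    (J : Set.powersetCard (Fin c.n) p) (z : Z) (hz : S.j z ∈ c.U) (hw : S.j z ∈ Set.range S.w) :
    gO X hz (G J) ∈ IntMult.stalkIdeal S.w.ker (S.j z) := by
  obtain ⟨a, b, d, e', T', hg, hJ, hI, hβ⟩ := good_of_mem' c hz hw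
  have h1 := mem_of_theta_eq_zero (D := D) (H := H) c.app_i_u c.app_j_u hz T' hg hβ
    (by rw [← hJ, CycA.StalkIdeal.stalkIdeal_ker]) (piF S.i (S.j z)) (piF_surjective S.i _)
    (fun r => by rw [piF_eq_zero_iff, ofList_ofFn, hI]) (alC c G) h J
  rw [coeff_alC, gm_smul, ← piF_apply] at h1
  exact mem_of_piF_mem S.i _ _ (i_le_w S _) _ h1

theorem app_w_eq_zero (c : ECh S) (G : Set.powersetCard (Fin c.n) p → Γ(X, c.U)) (h : thC D H c G = 0)
    (J : Set.powersetCard (Fin c.n) p) : S.w.app c.U (G J) = 0 := by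
  refine TopCat.Presheaf.section_ext W.sheaf (S.w ⁻¹ᵁ c.U) _ _ fun y hy => ?_
  have hzy : S.j (S.gZ y) = S.w y := by
    rw [← S.hZ]
    rfl
  have h1 : ∀ (x : X) (hx : x ∈ c.U), S.w y = x → gO X hx (G J) ∈ IntMult.stalkIdeal S.w.ker x := by
    intro x hx hyx
    have h2 : ∀ (x : X) (hx : x ∈ c.U), S.j (S.gZ y) = x → gO X hx (G J) ∈ IntMult.stalkIdeal S.w.ker x := by
      rintro x hx rfl
      exact gO_mem_of_thC_eq_zero D H c G h J (S.gZ y) hx ⟨y, hzy.symm⟩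
    exact h2 x hx (hzy.trans hyx)
  have h3 := h1 (S.w y) hy rfl
  rw [CycA.StalkIdeal.stalkIdeal_ker S.w y] at h3
  have hy' : S.w y ∈ c.U := hy
  have h4 : S.w.stalkMap y (gO X hy' (G J)) = 0 := h3
  rw [stalkMap_gO] at h4
  change gO W (show y ∈ S.w ⁻¹ᵁ c.U from hy) (S.w.app c.U (G J)) = gO W (show y ∈ S.w ⁻¹ᵁ c.U from hy) 0
  rw [map_zero]
  exact h4

variable {L : W.Modules} (φ : Phi p (E S) L)

theorem eq_zero_of_lm (c : ECh S) (s : Sec L c.aff.1) (h : thC D H c (lif φ c s) = 0) : s = 0 := by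
  rw [sum_crd φ c.aff c.bas s]
  refine Finset.sum_eq_zero fun J _ => ?_
  rw [← app_lif]
  have h1 := app_w_eq_zero D H c _ h J
  have h2 : (S.w.app c.U (lif φ c s J) : Γ(W, c.aff.1)) = 0 := h1
  rw [h2]
  exact zero_smul _ _

/-- Every family of functions comes from a section. -/
theorem exists_lif (c : ECh S) (G : Set.powersetCard (Fin c.n) p → Γ(X, c.U)) :
    ∃ s : Sec L c.aff.1, thC D H c (lif φ c s) = thC D H c G := by
  classical
  refine ⟨∑ J, (show Γ(W, c.aff.1) from S.w.app c.U (G J)) • bs φ c.aff c.bas J, ?_⟩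
  refine thC_eq_of_lift D H φ c _ G fun K => ?_
  rw [map_sum, Finset.sum_apply, Finset.sum_eq_single K]
  · rw [map_smul, Pi.smul_apply, crd_bs, if_pos rfl, smul_eq_mul, mul_one]
  · intro J _ hJ
    rw [map_smul, Pi.smul_apply, crd_bs, if_neg hJ, smul_zero]
  · simp

/-- Alternating forms have coefficients coming from functions. -/
theorem exists_alC (c : ECh S) (ω : Alt Γ(X, c.U) c.n p (SM (FF S.i) c.U)) : ∃ G, alC c G = ω := by
  choose G hG using fun J => exists_smul_oneF S.i c.hU (coeff ω J)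
  refine ⟨G, ?_⟩
  apply ext_coeff
  intro J
  rw [coeff_alC, hG]

/-- Local surjectivity at a good point. -/
theorem exists_local_lift (c : ECh S) (z : Z) (hz : S.j z ∈ c.U) (hG : Good S (S.j z) (fun l => gO X hz (c.u l)))
    {V : Z.Opens} (τ : SM T V) (hy : z ∈ V) :
    ∃ (c' : ECh S) (_ : c'.U ≤ c.U) (hV : S.j ⁻¹ᵁ c'.U ≤ V), S.j z ∈ c'.U ∧
      ∃ G : Set.powersetCard (Fin c'.n) p → Γ(X, c'.U), thC D H c' G = rs T hV τ := by
  obtain ⟨a, b, d, e', T', hg, hJ, hI, hβ⟩ := hG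
  obtain ⟨O, hO, hOV, hzO, ω, hω⟩ := exists_theta_eq (D := D) (H := H) c.app_i_u c.app_j_u hz T' hg hβ
    (by rw [← hJ, CycA.StalkIdeal.stalkIdeal_ker]) (piF S.i (S.j z)) (piF_surjective S.i _)
    (fun r => by rw [piF_eq_zero_iff, ofList_ofFn, hI]) τ hy
  obtain ⟨c', hc', hc'O⟩ := exists_ech (S := S) (S.j z) O hzO
  obtain ⟨α, hα⟩ := exists_cmp c c' (hc'O.trans hO)
  have h1 := rs_thA D H c c' O hO hc'O α hα ω
  rw [hω, rs_rs] at h1
  obtain ⟨G, hG⟩ := exists_alC c' ((bc Γ(X, c'.U) (KosStalk.rs _ hc'O) ω).compLinearMap α.mulVecLin)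
  refine ⟨c', hc'O.trans hO, (S.j.preimage_mono hc'O).trans hOV, hc', G, ?_⟩
  rw [thC_apply, hG, ← h1]

theorem exists_good (z : Z) (O : X.Opens) (hO : S.j z ∈ O) :
    ∃ (c : ECh S) (hz : S.j z ∈ c.U), c.U ≤ O ∧ Good S (S.j z) (fun l => gO X hz (c.u l)) := by
  by_cases hw : S.j z ∈ Set.range S.w
  · obtain ⟨c, hc, hcO⟩ := exists_ech (S := S) (S.j z) O hO
    exact ⟨c, hc, hcO, good_of_mem' c hc hw⟩
  · obtain ⟨c, hc, hcO, hn⟩ := exists_ech_zero (S := S) (S.j z) hw O hO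
    exact ⟨c, hc, hcO, good_zero (fun h => hw (mem_range_w h ⟨z, rfl⟩)) hn _⟩

theorem isIso_hom (Θ : (Scheme.Modules.pushforward S.w).obj L ⟶ (Scheme.Modules.pushforward S.j).obj T)
    (hΘ : ∀ (c : ECh S) (s : Sec ((Scheme.Modules.pushforward S.w).obj L) c.U), appS Θ c.U s = lm D H φ c s) :
    IsIso Θ := by
  have h1 : Mono Θ := by
    apply mono_of_locally_injective
    intro x O hx
    obtain ⟨c, hc, hcO⟩ := exists_ech (S := S) x O hx
    refine ⟨c.U, hcO, hc, fun s hs => ?_⟩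
    rw [hΘ] at hs
    exact eq_zero_of_lm D H φ c s hs
  have h2 : Epi Θ := by
    apply epi_of_locally_surjective
    intro V τ x hx
    by_cases hj : x ∈ Set.range S.j
    · obtain ⟨z, rfl⟩ := hj
      obtain ⟨c, hz, hcV, hG⟩ := exists_good z V hx
      obtain ⟨c', hc'c, hc'V, hc', G, hG⟩ := exists_local_lift D H c z hz hG (V := S.j ⁻¹ᵁ V)
        (show SM T (S.j ⁻¹ᵁ V) from τ) hx
      obtain ⟨s, hs⟩ := exists_lif D H φ c' G
      refine ⟨c'.U, hc'c.trans hcV, hc', s, ?_⟩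
      exact (hΘ c' s).trans (hs.trans hG)
    · let C : X.Opens := ⟨(Set.range S.j)ᶜ, S.j.isClosedEmbedding.isClosed_range.isOpen_compl⟩
      refine ⟨V ⊓ C, inf_le_left, ⟨hx, hj⟩, 0, ?_⟩
      have hbot : S.j ⁻¹ᵁ (V ⊓ C) ≤ ⊥ := by
        intro y hy
        exact absurd ⟨y, rfl⟩ hy.2
      exact subsingleton_of_le_bot (M := T) hbot _ _
  exact isIso_of_mono_of_epi Θ

include D H in
/-- **The Tor sheaf is the exterior power of the excess conormal module.** -/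
theorem nonempty_iso (hL : ExtPow.IsExtPow p (E S) L) :
    Nonempty ((Scheme.Modules.pushforward S.j).obj T ≅ (Scheme.Modules.pushforward S.w).obj L) := by
  obtain ⟨φ, hφ⟩ := exists_phi hL
  obtain ⟨Θ, hΘ⟩ := exists_hom D H φ hφ
  have := isIso_hom D H φ Θ hΘ
  exact ⟨(asIso Θ).symm⟩

end K560.Exc
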