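import Groth.Agent.RegImm.K560.ExcStalk
import Groth.Agent.Dcoh.Spread
import Groth.Agent.Dcoh.FinLocFree

/-!
# The excess conormal module

`Ctx`: closed immersions `i : Y ⟶ X`, `j : Z ⟶ X`, `w : W ⟶ X` with `W = Y ∩ Z` and the maps of conormal modules.
`E S`: the kernel of `C_{Y/X}|_W ⊕ C_{Z/X}|_W → C_{W/X}`.
-/

set_option autoImplicit false

universe u v w

open CategoryTheory CategoryTheory.Limits AlgebraicGeometry Opposite TopologicalSpace
open scoped TensorProduct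
open Groth.Agent Groth.Agent.Sga67 Groth.Agent.Sga67.Sec Groth.Agent.Sga67.LocBasis Groth.Agent.Sga67.KosAlt
  Groth.Agent.Sga67.KosStalk Groth.Agent.Sga67.KosImm Groth.Agent.Sga67.KosConormal

namespace K560.Exc

/-- The context. -/
structure Ctx (X Y Z W : Scheme.{u}) where
  i : Y ⟶ X
  j : Z ⟶ X
  gY : W ⟶ Y
  gZ : W ⟶ Z
  w : W ⟶ X
  hY : gY ≫ i = w
  hZ : gZ ≫ j = w
  ci : IsClosedImmersion i
  cj : IsClosedImmersion j
  cgY : IsClosedImmersion gY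
  cgZ : IsClosedImmersion gZ
  cw : IsClosedImmersion w
  hi : Mor2.IsRegularClosedImmersion i
  hj : Mor2.IsRegularClosedImmersion j
  hw : Mor2.IsRegularClosedImmersion w
  hK : ∀ U : X.affineOpens, w.ker.ideal U = i.ker.ideal U ⊔ j.ker.ideal U
  φY : pc i gY ⟶ Omega.conormal w
  φZ : pc j gZ ⟶ Omega.conormal w
  hφY : OmegaSh.IsConormalMap w i (𝟙 X) gY φY
  hφZ : OmegaSh.IsConormalMap w j (𝟙 X) gZ φZ

attribute [instance] Ctx.ci Ctx.cj Ctx.cgY Ctx.cgZ Ctx.cw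

variable {X Y Z W : Scheme.{u}}

section Cat

variable {A B C : W.Modules} (f : A ⟶ C) (g : B ⟶ C)

/-- The projection. -/
noncomputable def pA : kernel (coprod.desc f g) ⟶ A := kernel.ι _ ≫ coprod.desc (𝟙 _) 0

/-- The projection. -/
noncomputable def pB : kernel (coprod.desc f g) ⟶ B := kernel.ι _ ≫ coprod.desc 0 (𝟙 _)

theorem coprod_dec (A B : W.Modules) : coprod.desc (𝟙 A) (0 : B ⟶ A) ≫ coprod.inl + coprod.desc (0 : A ⟶ B) (𝟙 B) ≫ coprod.inr =
    𝟙 (A ⨿ B) := by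
  apply coprod.hom_ext
  · rw [Preadditive.comp_add, ← Category.assoc, ← Category.assoc, coprod.inl_desc, coprod.inl_desc]
    simp
  · rw [Preadditive.comp_add, ← Category.assoc, ← Category.assoc, coprod.inr_desc, coprod.inr_desc]
    simp

theorem ker_dec : kernel.ι (coprod.desc f g) = pA f g ≫ coprod.inl + pB f g ≫ coprod.inr := by
  conv_lhs => rw [← Category.comp_id (kernel.ι (coprod.desc f g)), ← coprod_dec, Preadditive.comp_add]
  rw [pA, pB, Category.assoc, Category.assoc]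

theorem ker_cond : pA f g ≫ f + pB f g ≫ g = 0 := by
  have h := kernel.condition (coprod.desc f g)
  rw [ker_dec, Preadditive.add_comp, Category.assoc, Category.assoc, coprod.inl_desc, coprod.inr_desc] at h
  exact h

theorem ap_add {M N : W.Modules} (f g : M ⟶ N) (V : W.Opens) (s : SM M V) :
    ap (f + g) V s = ap f V s + ap g V s := rfl

theorem ker_ext (V : W.Opens) (s s' : SM (kernel (coprod.desc f g)) V) (h₁ : ap (pA f g) V s = ap (pA f g) V s')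
    (h₂ : ap (pB f g) V s = ap (pB f g) V s') : s = s' := by
  apply injective_of_mono (kernel.ι (coprod.desc f g)) V
  change ap (kernel.ι (coprod.desc f g)) V s = ap (kernel.ι (coprod.desc f g)) V s'
  rw [ker_dec, ap_add, ap_add, ap_comp, ap_comp, ap_comp, ap_comp, h₁, h₂]

theorem exists_ker (V : W.Opens) (a : SM A V) (b : SM B V) (h : ap f V a + ap g V b = 0) :
    ∃ s : SM (kernel (coprod.desc f g)) V, ap (pA f g) V s = a ∧ ap (pB f g) V s = b := by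
  let t : SM (A ⨿ B) V := ap coprod.inl V a + ap coprod.inr V b
  have ht : ap (coprod.desc f g) V t = 0 := by
    rw [map_add, ← ap_comp, ← ap_comp, coprod.inl_desc, coprod.inr_desc, h]
  have hk : (ShortComplex.mk (kernel.ι (coprod.desc f g)) (coprod.desc f g) (kernel.condition _)).Exact :=
    ShortComplex.exact_kernel _
  obtain ⟨s, hs⟩ := exists_of_appS_eq_zero hk t ht
  have hs' : ap (kernel.ι (coprod.desc f g)) V (toSM s) = t := hs
  refine ⟨toSM s, ?_, ?_⟩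
  · rw [pA, ap_comp, hs', map_add, ← ap_comp, ← ap_comp, coprod.inl_desc, coprod.inr_desc]
    simp only [ap_zero, add_zero]
    rfl
  · rw [pB, ap_comp, hs', map_add, ← ap_comp, ← ap_comp, coprod.inl_desc, coprod.inr_desc]
    simp only [ap_zero, zero_add]
    rfl

theorem ap_cond (V : W.Opens) (s : SM (kernel (coprod.desc f g)) V) :
    ap f V (ap (pA f g) V s) + ap g V (ap (pB f g) V s) = 0 := by
  rw [← ap_comp, ← ap_comp, ← ap_add, ker_cond, ap_zero]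

end Cat

/-- Functions in the ideal of a closed immersion restrict to zero. -/
theorem app_vl (i : Y ⟶ X) [IsClosedImmersion i] {U : X.Opens} (hU : IsAffineOpen U)
    (a : SM (ClSub.idealMod i.ker) U) : i.app U (vl i.ker a) = 0 := by
  have h : vl i.ker a ∈ i.ker.ideal ⟨U, hU⟩ := PerfA.IdealModule.val_mem i.ker ⟨U, hU⟩ a
  rw [Scheme.Hom.ker_apply] at h
  exact h

/-- Functions restricting to zero are in the ideal of a closed immersion. -/
theorem exists_vl (i : Y ⟶ X) [IsClosedImmersion i] {U : X.Opens} (hU : IsAffineOpen U) (z : Γ(X, U))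
    (hz : i.app U z = 0) : ∃ a : SM (ClSub.idealMod i.ker) U, vl i.ker a = z := by
  refine PerfA.IdealModule.exists_val_eq i.ker ⟨U, hU⟩ (a := z) ?_
  rw [Scheme.Hom.ker_apply]
  exact hz

theorem app_comp_eq_zero {i : Y ⟶ X} {g : W ⟶ Y} {w : W ⟶ X} (h : g ≫ i = w) {U : X.Opens} {z : Γ(X, U)}
    (hz : i.app U z = 0) : w.app U z = 0 := by
  subst h
  rw [Scheme.Hom.comp_app]
  change g.app (i ⁻¹ᵁ U) (i.app U z) = 0
  rw [hz, map_zero]

variable (S : Ctx X Y Z W)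

/-- The excess conormal module. -/
noncomputable def E : W.Modules := kernel (coprod.desc S.φY S.φZ)

/-- The first component. -/
noncomputable def eA : E S ⟶ pc S.i S.gY := pA S.φY S.φZ

/-- The second component. -/
noncomputable def eB : E S ⟶ pc S.j S.gZ := pB S.φY S.φZ

variable {S}

theorem E_ext {V : W.Opens} {s s' : SM (E S) V} (h₁ : ap (eA S) V s = ap (eA S) V s')
    (h₂ : ap (eB S) V s = ap (eB S) V s') : s = s' := ker_ext _ _ _ _ _ h₁ h₂

theorem exists_E {V : W.Opens} (a : SM (pc S.i S.gY) V) (b : SM (pc S.j S.gZ) V)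
    (h : ap S.φY V a + ap S.φZ V b = 0) :
    ∃ s : SM (E S) V, ap (eA S) V s = a ∧ ap (eB S) V s = b := exists_ker _ _ _ _ _ h

theorem E_cond {V : W.Opens} (s : SM (E S) V) : ap S.φY V (ap (eA S) V s) + ap S.φZ V (ap (eB S) V s) = 0 :=
  ap_cond _ _ _ _

theorem StE_eq_zero {y : W} {t : StM (E S) y} (h₁ : stM (eA S) y t = 0) (h₂ : stM (eB S) y t = 0) : t = 0 := by
  obtain ⟨U, -, hU, s, rfl⟩ := exists_gm (E S) (U := ⊤) (Opens.mem_top y) t
  rw [stM_gm] at h₁ h₂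
  obtain ⟨V, hV, hyV, e₁⟩ := gm_eq_zero _ hU _ h₁
  obtain ⟨V', hV', hyV', e₂⟩ := gm_eq_zero _ hU _ h₂
  have h3 : rs (E S) (inf_le_left.trans hV : V ⊓ V' ≤ U) s = 0 := by
    apply E_ext
    · rw [ap_rs, map_zero, ← rs_rs _ hV inf_le_left, e₁, map_zero]
    · rw [ap_rs, map_zero, ← rs_rs _ hV' inf_le_right, e₂, map_zero]
  rw [← gm_rs (E S) (inf_le_left.trans hV : V ⊓ V' ≤ U) ⟨hyV, hyV'⟩, h3, map_zero]

theorem StE_ext {y : W} {t t' : StM (E S) y} (h₁ : stM (eA S) y t = stM (eA S) y t')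
    (h₂ : stM (eB S) y t = stM (eB S) y t') : t = t' := by
  refine sub_eq_zero.mp (StE_eq_zero ?_ ?_)
  · rw [map_sub, h₁, sub_self]
  · rw [map_sub, h₂, sub_self]

variable (S)

/-- A section of `E` given by a function vanishing on `Y` and `Z`. -/
def IsE (U : X.Opens) (a : SM (ClSub.idealMod S.i.ker) U) (b : SM (ClSub.idealMod S.j.ker) U)
    (s : SM (E S) (S.w ⁻¹ᵁ U)) : Prop :=
  vl _ a = vl _ b ∧ ap (eA S) _ s = cs S.hY U a ∧ ap (eB S) _ s = - cs S.hZ U b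

variable {S}

theorem IsE.unique {U : X.Opens} {a : SM (ClSub.idealMod S.i.ker) U} {b : SM (ClSub.idealMod S.j.ker) U}
    {s s' : SM (E S) (S.w ⁻¹ᵁ U)} (h : IsE S U a b s) (h' : IsE S U a b s') : s = s' :=
  E_ext (h.2.1.trans h'.2.1.symm) (h.2.2.trans h'.2.2.symm)

theorem IsE.rs {U V : X.Opens} {a : SM (ClSub.idealMod S.i.ker) U} {b : SM (ClSub.idealMod S.j.ker) U}
    {s : SM (E S) (S.w ⁻¹ᵁ U)} (h : IsE S U a b s) (hV : V ≤ U) :
    IsE S V (rs _ hV a) (rs _ hV b) (rs _ (S.w.preimage_mono hV) s) := by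
  refine ⟨?_, ?_, ?_⟩
  · rw [vl_rs, vl_rs, h.1]
  · rw [ap_rs, h.2.1, cs_rs]
  · rw [ap_rs, h.2.2, cs_rs, map_neg]

theorem IsE.add {U : X.Opens} {a a' : SM (ClSub.idealMod S.i.ker) U} {b b' : SM (ClSub.idealMod S.j.ker) U}
    {s s' : SM (E S) (S.w ⁻¹ᵁ U)} (h : IsE S U a b s) (h' : IsE S U a' b' s') :
    IsE S U (a + a') (b + b') (s + s') := by
  refine ⟨?_, ?_, ?_⟩
  · rw [KosGlobal.vl_add, KosGlobal.vl_add, h.1, h'.1]
  · rw [map_add, map_add, h.2.1, h'.2.1]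
  · rw [map_add, map_add, h.2.2, h'.2.2, neg_add]

theorem IsE.zero (U : X.Opens) : IsE S U 0 0 0 := by
  refine ⟨?_, ?_, ?_⟩
  · rw [vl_zero, vl_zero]
  · rw [map_zero, map_zero]
  · rw [map_zero, map_zero, neg_zero]

theorem IsE.smul {U : X.Opens} {a : SM (ClSub.idealMod S.i.ker) U} {b : SM (ClSub.idealMod S.j.ker) U}
    {s : SM (E S) (S.w ⁻¹ᵁ U)} (h : IsE S U a b s) (r : Γ(X, U)) :
    IsE S U (r • a) (r • b) (S.w.app U r • s) := by
  refine ⟨?_, ?_, ?_⟩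
  · rw [KosGlobal.vl_smul, KosGlobal.vl_smul, h.1]
  · rw [map_smul, cs_smul, h.2.1]
  · rw [map_smul, cs_smul, h.2.2, smul_neg]

theorem IsE.sum {U : X.Opens} {n : ℕ} {a : Fin n → SM (ClSub.idealMod S.i.ker) U}
    {b : Fin n → SM (ClSub.idealMod S.j.ker) U} {s : Fin n → SM (E S) (S.w ⁻¹ᵁ U)}
    (h : ∀ l, IsE S U (a l) (b l) (s l)) (t : Finset (Fin n)) :
    IsE S U (∑ l ∈ t, a l) (∑ l ∈ t, b l) (∑ l ∈ t, s l) := by
  classical
  induction t using Finset.induction_on with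
  | empty => simp only [Finset.sum_empty]; exact IsE.zero U
  | insert l t hl ih =>
    rw [Finset.sum_insert hl, Finset.sum_insert hl, Finset.sum_insert hl]
    exact (h l).add ih

theorem IsE.sub {U : X.Opens} {a a' : SM (ClSub.idealMod S.i.ker) U} {b b' : SM (ClSub.idealMod S.j.ker) U}
    {s s' : SM (E S) (S.w ⁻¹ᵁ U)} (h : IsE S U a b s) (h' : IsE S U a' b' s') :
    IsE S U (a - a') (b - b') (s - s') := by
  have h1 := h.add (h'.smul (-1))
  have h2 : S.w.app U (-1) • s' = - s' := by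
    rw [map_neg, map_one, neg_smul, one_smul]
  rw [h2, neg_smul, one_smul, neg_smul, one_smul, ← sub_eq_add_neg, ← sub_eq_add_neg, ← sub_eq_add_neg] at h1
  exact h1

theorem exists_isE {U : X.Opens} (hU : IsAffineOpen U) (a : SM (ClSub.idealMod S.i.ker) U)
    (b : SM (ClSub.idealMod S.j.ker) U) (h : vl _ a = vl _ b) : ∃ s, IsE S U a b s := by
  obtain ⟨c, hc⟩ := exists_vl S.w hU (vl _ a) (app_comp_eq_zero S.hY (app_vl S.i hU a))
  obtain ⟨s, hs₁, hs₂⟩ := exists_E (cs S.hY U a) (- cs S.hZ U b) (by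
    rw [map_neg, ap_cs S.hY S.hφY U a c hc, ap_cs S.hZ S.hφZ U b c (hc.trans h), add_neg_cancel])
  exact ⟨s, h, hs₁, hs₂⟩

theorem K_eq (S : Ctx X Y Z W) (x : X) : IntMult.stalkIdeal S.w.ker x =
    IntMult.stalkIdeal S.i.ker x ⊔ IntMult.stalkIdeal S.j.ker x := by
  obtain ⟨U, hU, hx, -⟩ := exists_isAffineOpen_mem_and_subset (X := X) (x := x) (U := ⊤) trivial
  rw [CycA.StalkIdeal.stalkIdeal_eq_map _ x ⟨U, hU⟩ hx, CycA.StalkIdeal.stalkIdeal_eq_map _ x ⟨U, hU⟩ hx,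
    CycA.StalkIdeal.stalkIdeal_eq_map _ x ⟨U, hU⟩ hx, S.hK, Ideal.map_sup]

/-- The kernel of the germs of `E`. -/
theorem IsE.gm_eq_zero_iff {U : X.Opens} {a : SM (ClSub.idealMod S.i.ker) U} {b : SM (ClSub.idealMod S.j.ker) U}
    {s : SM (E S) (S.w ⁻¹ᵁ U)} (h : IsE S U a b s) (y : W) (hy : S.w y ∈ U) :
    gm (E S) (show y ∈ S.w ⁻¹ᵁ U from hy) s = 0 ↔
      gO X hy (vl _ a) ∈ IntMult.stalkIdeal S.w.ker (S.w y) * IntMult.stalkIdeal S.i.ker (S.w y) ∧
      gO X hy (vl _ a) ∈ IntMult.stalkIdeal S.w.ker (S.w y) * IntMult.stalkIdeal S.j.ker (S.w y) := by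
  have hA := gm_cs_eq_zero_iff S.hY y hy a
  have hB := gm_cs_eq_zero_iff S.hZ y hy b
  rw [← h.1] at hB
  rw [← hA, ← hB, ← h.2.1]
  have hB' : gm (pc S.j S.gZ) (show y ∈ S.w ⁻¹ᵁ U from hy) (cs S.hZ U b) =
      - gm (pc S.j S.gZ) (show y ∈ S.w ⁻¹ᵁ U from hy) (ap (eB S) _ s) := by
    rw [h.2.2, map_neg, neg_neg]
  rw [hB', neg_eq_zero, ← stM_gm, ← stM_gm]
  constructor
  · intro h0
    rw [h0, map_zero, map_zero]
    exact ⟨rfl, rfl⟩
  · rintro ⟨h₁, h₂⟩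
    exact StE_eq_zero h₁ h₂

/-- Elements of the ideal of the stalk come from sections. -/
theorem exists_of_mem_stalkIdeal (I : X.IdealSheafData) {x : X} {U : X.Opens} (hx : x ∈ U) (r : X.presheaf.stalk x)
    (hr : r ∈ IntMult.stalkIdeal I x) : ∃ (V : X.Opens) (_ : V ≤ U) (hV : x ∈ V) (a : SM (ClSub.idealMod I) V),
      gO X hV (vl I a) = r := by
  rw [← range_vx] at hr
  obtain ⟨t, rfl⟩ := hr
  obtain ⟨V, hVU, hV, a, rfl⟩ := exists_gm _ hx t
  exact ⟨V, hVU, hV, a, (vx_gm I hV a).symm⟩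

theorem exists_resO_eq {U : X.Opens} {x : X} (hx : x ∈ U) {a b : Γ(X, U)} (h : gO X hx a = gO X hx b) :
    ∃ (V : X.Opens) (hV : V ≤ U), x ∈ V ∧ resO X hV a = resO X hV b := by
  obtain ⟨V, hxV, i₁, i₂, e⟩ := TopCat.Presheaf.germ_eq X.presheaf x hx hx a b h
  exact ⟨V, leOfHom i₁, hxV, e⟩

theorem sub_mem_of_isE {V : X.Opens} (hV : IsAffineOpen V) {y : W} (hy : S.w y ∈ V)
    (a : SM (ClSub.idealMod S.i.ker) V) (b : SM (ClSub.idealMod S.j.ker) V) (t : StM (E S) y)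
    (ha : gm (pc S.i S.gY) (show y ∈ S.w ⁻¹ᵁ V from hy) (cs S.hY V a) = stM (eA S) y t)
    (hb : gm (pc S.j S.gZ) (show y ∈ S.w ⁻¹ᵁ V from hy) (cs S.hZ V b) = - stM (eB S) y t) :
    gO X hy (vl S.i.ker a) - gO X hy (vl S.j.ker b) ∈
      IntMult.stalkIdeal S.w.ker (S.w y) * IntMult.stalkIdeal S.w.ker (S.w y) := by
  obtain ⟨c₁, hc₁⟩ := exists_vl S.w hV (vl _ a) (app_comp_eq_zero S.hY (app_vl S.i hV _))
  obtain ⟨c₂, hc₂⟩ := exists_vl S.w hV (vl _ b) (app_comp_eq_zero S.hZ (app_vl S.j hV _))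
  have e₁ := ap_cs S.hY S.hφY V _ c₁ hc₁
  have e₂ := ap_cs S.hZ S.hφZ V _ c₂ hc₂
  have h0 : stM S.φY y (stM (eA S) y t) + stM S.φZ y (stM (eB S) y t) = 0 := by
    obtain ⟨O, -, hO, s, rfl⟩ := exists_gm (E S) (U := ⊤) (Opens.mem_top y) t
    rw [stM_gm, stM_gm, stM_gm, stM_gm, ← map_add, E_cond, map_zero]
  have g1 : gm (Omega.conormal S.w) (show y ∈ S.w ⁻¹ᵁ V from hy) (cw S.w V c₁) =
      stM S.φY y (stM (eA S) y t) := by
    rw [← ha, ← e₁]
    exact (stM_gm _ _ _).symm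
  have g2 : gm (Omega.conormal S.w) (show y ∈ S.w ⁻¹ᵁ V from hy) (cw S.w V c₂) =
      - stM S.φZ y (stM (eB S) y t) := by
    rw [← map_neg, ← hb, ← e₂]
    exact (stM_gm _ _ _).symm
  have h1 : cwx S.w y (gm _ hy c₁ - gm _ hy c₂) = 0 := by
    rw [map_sub, cwx_gm, cwx_gm, g1, g2, sub_neg_eq_add, h0]
  have h2 := cwx_ker S.w y _ h1
  rw [← vx_mem_mul_iff, map_sub, vx_gm, vx_gm, hc₁, hc₂] at h2
  exact h2

end K560.Exc
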