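import Groth.Agent.RegImm.K560.KosTwo2

/-!
# Zigzags for relations
-/

set_option autoImplicit false

universe u v w

namespace K560.KosTwo

open Groth.Agent.Sga67.KosAlt

section

variable {A : Type u} [CommRing A] {n : ℕ} {E : ℕ → Type v} [∀ q, AddCommGroup (E q)] [∀ q, Module A (E q)]
  {d : ∀ q, E (q + 1) →ₗ[A] E q} {g : Fin n → A} {F : Type v} [AddCommGroup F] [Module A F] (ε : E 0 →ₗ[A] F)

/-- The end of a zigzag whose top is a boundary is a Koszul boundary. -/
theorem exists_boundary_of_zig (hεd' : ∀ e, ε (d 0 e) = 0) (hdd' : ∀ q e, d q (d (q + 1) e) = 0)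
    (hK : ∀ q k (z : Alt A n (k + 1) (E q)), z.curryLeft g = 0 → ∃ w : Alt A n (k + 2) (E q), w.curryLeft g = z)
    {p : ℕ} {z : ∀ q k, Alt A n k (E q)} (hz : IsZig d g p z)
    (h0 : ∃ (a : Alt A n 0 (E (p + 1))) (b : Alt A n 1 (E p)), z p 0 = (d p).compAlternatingMap a + b.curryLeft g) :
    ∃ w : Alt A n (p + 1) F, ε.compAlternatingMap (z 0 p) = w.curryLeft g := by
  have key : ∀ k q, q + k = p → ∃ (a : Alt A n k (E (q + 1))) (b : Alt A n (k + 1) (E q)),
      z q k = (d q).compAlternatingMap a + b.curryLeft g := by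
    intro k
    induction k with
    | zero =>
      intro q hq
      have : q = p := by omega
      subst this
      exact h0
    | succ k ih =>
      intro q hq
      obtain ⟨a, b, hab⟩ := ih (q + 1) (by omega)
      have h1 := hz q k (by omega)
      have h2 : (z q (k + 1) - (d q).compAlternatingMap b).curryLeft g = 0 := by
        have h3 : (z q (k + 1) - (d q).compAlternatingMap b).curryLeft g =
            (z q (k + 1)).curryLeft g - (d q).compAlternatingMap (b.curryLeft g) := by
          ext v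
          simp
        have h4 : (d q).compAlternatingMap ((d (q + 1)).compAlternatingMap a + b.curryLeft g) =
            (d q).compAlternatingMap (b.curryLeft g) := by
          ext v
          simp [hdd']
        rw [h3, ← h1, hab, h4, sub_self]
      obtain ⟨w, hw⟩ := hK q k _ h2
      exact ⟨b, w, by rw [hw]; abel⟩
  obtain ⟨a, b, hab⟩ := key p 0 (by omega)
  refine ⟨ε.compAlternatingMap b, ?_⟩
  rw [hab]
  ext v
  simp [hεd']

theorem curryLeft_mem' (K : Ideal A) {k : ℕ} (z : Alt A n (k + 1) F) (v : Fin n → A) (hv : ∀ j, v j ∈ K)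
    (t : Fin k → Fin n → A) : (z.curryLeft v) t ∈ K • (⊤ : Submodule A F) := by
  rw [curryLeft_eq_sum]
  have : ∀ (s : Finset (Fin n)), (∑ j ∈ s, v j • z.curryLeft (Pi.basisFun A (Fin n) j)) t ∈
      K • (⊤ : Submodule A F) := by
    intro s
    classical
    induction s using Finset.induction_on with
    | empty => simp
    | insert j s hj ih =>
      rw [Finset.sum_insert hj, AlternatingMap.add_apply]
      exact Submodule.add_mem _ (Submodule.smul_mem_smul (hv j) trivial) ih
  exact this _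

end

namespace Setup

variable {A : Type u} [CommRing A] {K : Ideal A} {a b c e e' : ℕ} (S : Setup A K a b c e e')
  {F : Type u} [AddCommGroup F] [Module A F] (π : A →ₗ[A] F) (hπ : Function.Surjective π)
  (hk : ∀ r, π r = 0 ↔ r ∈ Ideal.ofList (List.ofFn S.f))
  {E : ℕ → Type u} [∀ q, AddCommGroup (E q)] [∀ q, Module A (E q)]
  {d : ∀ q, E (q + 1) →ₗ[A] E q} (ε : E 0 →ₗ[A] F)
  (hε : Function.Surjective ε)
  (hεd : ∀ e, ε e = 0 → ∃ e', d 0 e' = e) (hεd' : ∀ e, ε (d 0 e) = 0)
  (hdd : ∀ q e, d q e = 0 → ∃ e', d (q + 1) e' = e)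
  (hdd' : ∀ q e, d q (d (q + 1) e) = 0)
  (hK : ∀ q k (z : Alt A b (k + 1) (E q)), z.curryLeft S.g = 0 →
    ∃ w : Alt A b (k + 2) (E q), w.curryLeft S.g = z)

include hπ hk hεd' hdd' hK in
/-- injectivity -/
theorem mem_of_zig {p : ℕ} {z : ∀ q k, Alt A e k (E q)} (hz : IsZig d (S.β S.g) p z)
    (h0 : ∃ (a : Alt A b 0 (E (p + 1))) (b' : Alt A b 1 (E p)),
      (z p 0).compLinearMap S.β = (d p).compAlternatingMap a + b'.curryLeft S.g) (t : Fin p → Fin e → A) :
    ε (z 0 p t) ∈ K • (⊤ : Submodule A F) := by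
  have hz' : IsZig d S.g p (fun q k => (z q k).compLinearMap S.β) := hz.compLinearMap _ _ rfl
  obtain ⟨w, hw⟩ := exists_boundary_of_zig ε hεd' hdd' hK hz' h0
  cases p with
  | zero =>
    have h1 : ε (z 0 0 t) = (w.curryLeft S.g) (fun i => Fin.elim0 i) := by
      rw [← hw, LinearMap.compAlternatingMap_apply, AlternatingMap.compLinearMap_apply]
      congr 2
      funext i
      exact Fin.elim0 i
    rw [h1]
    exact curryLeft_mem' K w S.g S.gK _
  | succ k =>
    exact S.mem_of_boundary π hπ hk k (ε.compAlternatingMap (z 0 (k + 1))) w hw.symm t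

/-- A correction term. -/
def corr {k : ℕ} (w : Alt A b (k + 1) (E 0)) : ∀ q k', Alt A b k' (E q)
  | 0 => fun k' => if h : k' = k + 1 then h ▸ w else 0
  | _ + 1 => fun _ => 0

theorem corr_zero {k : ℕ} (w : Alt A b (k + 1) (E 0)) : corr (E := E) w 0 (k + 1) = w := by
  simp [corr]

theorem isZig_corr {k : ℕ} (g : Fin b → A) (w : Alt A b (k + 2) (E 0)) :
    IsZig d g (k + 1) (corr (E := E) (w.curryLeft g)) := by
  intro q k' h
  cases q with
  | zero =>
    have : k' = k := by omega
    subst this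
    rw [corr_zero, AlternatingMap.curryLeft_same]
    ext
    simp [corr]
  | succ q =>
    ext
    simp [corr]

include hπ hk hε hεd hεd' hdd hdd' hK in
/-- surjectivity -/
theorem exists_zig_top {p : ℕ} (s : E p) (hs : ∀ q (h : q + 1 = p), ∃ w : Alt A b 1 (E q),
      w.curryLeft S.g = (d q).compAlternatingMap (h ▸ AlternatingMap.constOfIsEmpty A (Fin b → A) (Fin 0) s)) :
    ∃ z : ∀ q k, Alt A e k (E q), IsZig d (S.β S.g) p z ∧
      ∃ (a : Alt A b 0 (E (p + 1))) (b' : Alt A b 1 (E p)),
        AlternatingMap.constOfIsEmpty A (Fin b → A) (Fin 0) s =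
          (z p 0).compLinearMap S.β + (d p).compAlternatingMap a + b'.curryLeft S.g := by
  cases p with
  | zero =>
    refine ⟨fun q k => match q, k with
      | 0, 0 => AlternatingMap.constOfIsEmpty A (Fin e → A) (Fin 0) s
      | _, _ => 0, ?_, 0, 0, ?_⟩
    · intro q k h
      omega
    · ext
      simp
  | succ k =>
    obtain ⟨z₁, hz₁, hz₁'⟩ := exists_zig_of_top hdd' hK _ hs
    have hcyc : (ε.compAlternatingMap (z₁ 0 (k + 1))).curryLeft S.g = 0 := by
      rw [AlternatingMap.curryLeft_compAlternatingMap, ← hz₁ 0 k (by omega)]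
      ext
      simp [hεd']
    obtain ⟨ω, w, hω⟩ := S.exists_of_cycle π hπ hk k _ hcyc
    obtain ⟨z₂, hz₂, hz₂'⟩ := exists_zig (g := S.β S.g) ε hε hεd hdd (by
      intro j x
      rw [S.hβγ]
      have h1 : S.γ S.f j = ∑ i, S.f i * S.γ (Pi.basisFun A (Fin a) i) j := by
        have h2 : S.f = ∑ i, S.f i • Pi.basisFun A (Fin a) i := by
          have h := (Pi.basisFun A (Fin a)).sum_repr S.f
          simp only [Pi.basisFun_repr] at h
          exact h.symm
        conv_lhs => rw [h2]
        rw [map_sum, Finset.sum_apply]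
        refine Finset.sum_congr rfl fun i _ => ?_
        rw [map_smul]
        rfl
      rw [h1, Finset.sum_smul]
      refine Finset.sum_eq_zero fun i _ => ?_
      rw [mul_comm, mul_smul, S.kills π hπ hk, smul_zero]) (k + 1) ω
    obtain ⟨w₀, hw₀⟩ := exists_comp_eq_of_surjective ε hε w
    have hz₃ := (hz₁.sub (hz₂.compLinearMap S.β S.g rfl)).sub (isZig_corr (d := d) S.g w₀)
    have h0 : ε.compAlternatingMap (z₁ 0 (k + 1) - (z₂ 0 (k + 1)).compLinearMap S.β -
        corr (E := E) (w₀.curryLeft S.g) 0 (k + 1)) = 0 := by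
      rw [corr_zero]
      have h1 : ε.compAlternatingMap (z₁ 0 (k + 1) - (z₂ 0 (k + 1)).compLinearMap S.β - w₀.curryLeft S.g) =
        ε.compAlternatingMap (z₁ 0 (k + 1)) - (ε.compAlternatingMap (z₂ 0 (k + 1))).compLinearMap S.β -
          (ε.compAlternatingMap w₀).curryLeft S.g := by
        ext v
        simp
      rw [h1, hω, hz₂', hw₀]
      abel
    obtain ⟨a', b', hab⟩ := zig_boundary ε hεd hdd hz₃ h0 (k + 1) 0 (by omega)
    refine ⟨z₂, hz₂, a', b', ?_⟩
    have h2 : corr (E := E) (w₀.curryLeft S.g) (k + 1) 0 = 0 := rfl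
    rw [h2, sub_zero, sub_eq_iff_eq_add] at hab
    rw [← hz₁', hab]
    abel

end Setup

end K560.KosTwo
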