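import Groth.Agent.RegImm.K560.ThetaTwo
import Groth.Agent.RegImm.K560.KosTwoZig

/-!
# Local injectivity and surjectivity of `theta`
-/

set_option autoImplicit false

universe u v w

open CategoryTheory CategoryTheory.Limits AlgebraicGeometry Opposite TopologicalSpace
open scoped TensorProduct
open Groth.Agent Groth.Agent.Sga67 Groth.Agent.Sga67.Sec Groth.Agent.Sga67.LocBasis Groth.Agent.Sga67.KosAlt
  Groth.Agent.Sga67.KosStalk Groth.Agent.Sga67.KosImm Groth.Agent.Sga67.KosTheta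

namespace K560.ThetaTwo

open K560.KosTwo

variable {X Y Z : Scheme.{u}} {i : Y ⟶ X} {M : Y.Modules} {D : Dat i M} {j : Z ⟶ X} {p : ℕ} {T : Z.Modules}
  {H : HD (KK D j) (dKK D j) p T}

/-- Koszul exactness on the stalks of flat modules. -/
theorem koszul_exact {x : X} {P : X.Modules} (hP : FlatMod.IsFlat P) {b : ℕ} (g : Fin b → X.presheaf.stalk x)
    (hg : RingTheory.Sequence.IsWeaklyRegular (X.presheaf.stalk x) (List.ofFn g)) (k : ℕ)
    (z : Alt (X.presheaf.stalk x) b (k + 1) (StM P x)) (hz : z.curryLeft g = 0) :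
    ∃ w : Alt (X.presheaf.stalk x) b (k + 2) (StM P x), w.curryLeft g = z := by
  refine Chart.exists_curryLeft_eq' _ _ ?_ k z hz
  have h1 : Module.Flat (X.presheaf.stalk x) (StM P x) := hP x
  have h2 := hg.isWeaklyRegular_lTensor (M₂ := StM P x)
  exact ((TensorProduct.rid (X.presheaf.stalk x) (StM P x)).isWeaklyRegular_congr _).mp h2

section

variable {n : ℕ} {U : X.Opens} {u : Fin n → Γ(X, U)} (hui : ∀ l, i.app U (u l) = 0)
  (huj : ∀ l, j.app U (u l) = 0) [IsClosedImmersion j] {y : Z} (hx : j y ∈ U)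
  {K : Ideal (X.presheaf.stalk (j y))} {a b c e' : ℕ} (S : Setup (X.presheaf.stalk (j y)) K a b c n e')
  (hgreg : RingTheory.Sequence.IsWeaklyRegular (X.presheaf.stalk (j y)) (List.ofFn S.g))
  (hS : S.β S.g = fun l => gO X hx (u l))
  (hker : RingHom.ker (j.stalkMap y).hom = Ideal.span (Set.range S.g))
  (π : X.presheaf.stalk (j y) →ₗ[X.presheaf.stalk (j y)] StM ((Scheme.Modules.pushforward i).obj M) (j y))
  (hπ : Function.Surjective π) (hk : ∀ r, π r = 0 ↔ r ∈ Ideal.ofList (List.ofFn S.f))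

include hker in
theorem cn_eq_zero' (P : X.Modules) (e : StM P (j y)) (he : cn j P y e = 0) :
    ∃ b' : Fin b → StM P (j y), e = ∑ l, S.g l • b' l := by
  have h := cn_ker j P y e he
  rw [hker] at h
  exact exists_sum_of_mem_span _ _ h

include hgreg hS hker hπ hk in
theorem mem_of_theta_eq_zero
    (ω : Alt Γ(X, U) n p (SM ((Scheme.Modules.pushforward i).obj M) U))
    (h0 : theta D H u hui huj ω = 0) (J : Set.powersetCard (Fin n) p) :
    gm _ hx (coeff ω J) ∈ K • (⊤ : Submodule (X.presheaf.stalk (j y))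
      (StM ((Scheme.Modules.pushforward i).obj M) (j y))) := by
  obtain ⟨W, hW, hyW, z, hz, hε, hcl⟩ := exists_rel_theta D H u hui huj ω hx
  rw [h0, map_zero] at hcl
  obtain ⟨V, hV, hyV, b₁, hb₁⟩ := hcl.exists_boundary y hyW
  -- germs
  obtain ⟨e, he⟩ := cn_surjective j (D.P (p + 1)) y (gm (KK D j (p + 1)) hyV b₁)
  have h1 : cn j (D.P p) y (gm (D.P p) hyW (ev0 (z p 0)) - stM (D.d p) (j y) e) = 0 := by
    rw [map_sub, cn_gm, cn_stM, he]
    have h2 : gm (KK D j p) hyV (ap (dKK D j p) V b₁) =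
        gm (KK D j p) hyV (rs _ hV (et j (D.P p) W (ev0 (z p 0)))) := by
      rw [hb₁]
    have h3 := (gm_rs (KK D j p) hV hyV (et j (D.P p) W (ev0 (z p 0)))).symm.trans h2.symm
    have h4 := h3.trans (stM_gm (dKK D j p) hyV b₁).symm
    exact sub_eq_zero.mpr h4
  obtain ⟨b', hb'⟩ := cn_eq_zero' S hker _ _ h1
  obtain ⟨w, hw⟩ := exists_alt_one b' S.g
  have hzx := isZig_gm hz hyW
  have hgg : (fun l => gO X hyW (resO X hW (u l))) = S.β S.g := by
    rw [hS]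
    funext l
    rw [gO_resO]
  rw [hgg] at hzx
  have h3 := S.mem_of_zig π hπ hk (E := fun q => StM (D.P q) (j y)) (d := fun q => stM (D.d q) (j y))
    (stM D.ε (j y))
    (fun e => stM_comp_zero (D.d 0) D.ε D.dε (j y) e)
    (fun q e => stM_comp_zero (D.d (q + 1)) (D.d q) (D.dd q) (j y) e)
    (fun q k z hz => koszul_exact (D.flat q) S.g hgreg k z hz) hzx
    ⟨AlternatingMap.constOfIsEmpty _ _ _ e, w, by
      apply ext_ev0
      have h5 : ev0 ((bc (X.presheaf.stalk (j y)) (gm (D.P p) hyW) (z p 0)).compLinearMap S.β) =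
          gm (D.P p) hyW (ev0 (z p 0)) := by
        rw [← ev0_bc (A' := X.presheaf.stalk (j y))]
        exact ev0_eq _ _
      refine h5.trans ?_
      change gm (D.P p) hyW (ev0 (z p 0)) = stM (D.d p) (j y) e + ev0 (w.curryLeft S.g)
      rw [hw, ← hb', add_sub_cancel]⟩ (tup _ J)
  have h4 : stM D.ε (j y) ((bc (X.presheaf.stalk (j y)) (gm (D.P 0) hyW) (z 0 p)) (tup _ J)) =
      gm _ hx (coeff ω J) := by
    have h5 : (bc (X.presheaf.stalk (j y)) (gm (D.P 0) hyW) (z 0 p)) (tup _ J) =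
        gm (D.P 0) hyW (coeff (z 0 p) J) := coeff_bc _ _ _
    rw [h5, stM_gm, ← coeff_comp, hε, coeff_bc, gm_rs]
  rw [← h4]
  exact h3

include hgreg hS hker hπ hk hui huj in
theorem exists_theta_eq {V : Z.Opens} (τ : SM T V) (hy : y ∈ V) :
    ∃ (W : X.Opens) (hW : W ≤ U) (hWV : j ⁻¹ᵁ W ≤ V), j y ∈ W ∧
      ∃ ω : Alt Γ(X, W) n p (SM ((Scheme.Modules.pushforward i).obj M) W),
        theta D H (fun l => resO X hW (u l)) (fun l => app_resO_eq_zero hW (hui l))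
          (fun l => app_resO_eq_zero hW (huj l)) ω = rs T hWV τ := by
  obtain ⟨V₁, hV₁, hyV₁, c₁, hc₁⟩ := exists_cl_locally (H := H) τ y hy
  obtain ⟨e, he⟩ := cn_surjective j (D.P p) y (gm (KK D j p) hyV₁ c₁)
  have := D.epi
  -- the zigzag at the stalk
  obtain ⟨W₀, hW₀, hyW₀, s, rfl⟩ := exists_gm (D.P p) hx e
  obtain ⟨zx, hzx, a', b', hab⟩ := S.exists_zig_top π hπ hk (E := fun q => StM (D.P q) (j y))
    (d := fun q => stM (D.d q) (j y)) (stM D.ε (j y)) (stM_surjective D.ε (j y))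
    (fun e he => stM_exact D.ex0 (j y) e he)
    (fun e => stM_comp_zero (D.d 0) D.ε D.dε (j y) e)
    (fun q e he => stM_exact (D.ex q) (j y) e he)
    (fun q e => stM_comp_zero (D.d (q + 1)) (D.d q) (D.dd q) (j y) e)
    (fun q k z hz => koszul_exact (D.flat q) S.g hgreg k z hz) (p := p)
    (gm (D.P p) hyW₀ s) (by
      intro q hq
      subst hq
      have h2 : cn j (D.P q) y (stM (D.d q) (j y) (gm (D.P (q + 1)) hyW₀ s)) = 0 := by
        rw [cn_stM, he]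
        refine (stM_gm (dKK D j q) hyV₁ _).trans ?_
        have : ap (dKK D j q) V₁ c₁ = 0 := hc₁.isCyc
        rw [this, map_zero]
        rfl
      obtain ⟨b', hb'⟩ := cn_eq_zero' S hker _ _ h2
      obtain ⟨w, hw⟩ := exists_alt_one b' S.g
      refine ⟨w, ?_⟩
      apply ext_ev0
      rw [hw, ← hb']
      rfl)
  have hgg : (fun l => gO X hx (u l)) = S.β S.g := hS.symm
  obtain ⟨W₂, hW₂, hyW₂, z, hz, hzz⟩ := exists_zig_nhd hx u zx (by rw [hgg]; exact hzx)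
  have h5 : gm (D.P p) hyW₀ s = gm (D.P p) hyW₂ (ev0 (z p 0)) + stM (D.d p) (j y) (ev0 a') +
      ∑ l, S.g l • ev0 (b'.curryLeft (Pi.basisFun _ _ l)) := by
    have h6 := congrArg ev0 hab
    have h7 : ev0 (AlternatingMap.constOfIsEmpty (X.presheaf.stalk (j y)) (Fin b → X.presheaf.stalk (j y))
      (Fin 0) (gm (D.P p) hyW₀ s)) = gm (D.P p) hyW₀ s := rfl
    rw [h7] at h6
    rw [h6]
    have h8 : ∀ (α β γ : Alt (X.presheaf.stalk (j y)) b 0 (StM (D.P p) (j y))),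
      ev0 (α + β + γ) = ev0 α + ev0 β + ev0 γ := fun _ _ _ => rfl
    rw [h8, ev0_curryLeft]
    congr 2
    rw [← ev0_bc (A' := X.presheaf.stalk (j y)), hzz p 0 le_rfl (Nat.zero_le _)]
    exact (ev0_eq (zx p 0) _)
  -- the class of the zigzag
  obtain ⟨τ', hτ'⟩ := exists_cl (H := H) (isCyc_et D (fun l => app_resO_eq_zero hW₂ (huj l)) hz)
  obtain ⟨V₃, hV₃, hyV₃, α, hα⟩ := exists_gm (KK D j (p + 1)) (show y ∈ V₁ from hyV₁)
    (cn j (D.P (p + 1)) y (ev0 a'))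
  have h6 : gm (KK D j p) hyV₁ c₁ = gm (KK D j p) (show y ∈ j ⁻¹ᵁ W₂ from hyW₂) (et j (D.P p) W₂ (ev0 (z p 0))) +
      gm (KK D j p) hyV₃ (ap (dKK D j p) V₃ α) := by
    rw [← he, h5, map_add, map_add, map_sum, Finset.sum_eq_zero (fun l _ => ?_), add_zero]
    · rw [cn_gm, cn_stM]
      congr 1
      have h8 := stM_gm (dKK D j p) hyV₃ α
      rw [hα] at h8
      exact h8
    · rw [cn_smul]
      have h9 : S.g l ∈ RingHom.ker (j.stalkMap y).hom := by
        rw [hker]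
        exact Ideal.subset_span ⟨l, rfl⟩
      have h10 : j.stalkMap y (S.g l) = 0 := h9
      rw [h10, zero_smul]
  let V₄ : Z.Opens := V₃ ⊓ j ⁻¹ᵁ W₂
  have hV₄₁ : V₄ ≤ V₁ := inf_le_left.trans hV₃
  have hV₄₂ : V₄ ≤ j ⁻¹ᵁ W₂ := inf_le_right
  have hyV₄ : y ∈ V₄ := ⟨hyV₃, hyW₂⟩
  have h7 : gm (KK D j p) hyV₄ (rs _ hV₄₁ c₁) = gm (KK D j p) hyV₄
      (rs (KK D j p) hV₄₂ (et j (D.P p) W₂ (ev0 (z p 0))) +
        ap (dKK D j p) V₄ (rs (KK D j (p + 1)) inf_le_left α) : SM (KK D j p) V₄) := by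
    rw [gm_rs, h6, map_add]
    have h8 := gm_rs (KK D j p) hV₄₂ hyV₄ (et j (D.P p) W₂ (ev0 (z p 0)))
    have h9 : gm (KK D j p) hyV₄ (ap (dKK D j p) V₄ (rs _ inf_le_left α)) =
        gm (KK D j p) hyV₃ (ap (dKK D j p) V₃ α) := by
      rw [ap_rs, gm_rs]
    rw [h9]
    exact congrArg₂ (· + ·) h8.symm rfl
  obtain ⟨V₅, hV₅, hyV₅, h8⟩ := gm_eq _ hyV₄ _ _ h7
  have h9 : rs T (hV₅.trans hV₄₂) τ' = rs T ((hV₅.trans hV₄₁).trans hV₁) τ := by
    have c1 := (hc₁.rs hV₄₁).rs hV₅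
    rw [h8] at c1
    have c2 := ((hτ'.rs hV₄₂).add (cl_boundary (H := H) (rs _ (inf_le_left : V₄ ≤ V₃) α))).rs hV₅
    have c3 := c2.unique c1
    rw [add_zero, rs_rs, rs_rs, rs_rs] at c3
    exact c3
  obtain ⟨O, hO, hOV₅⟩ := exists_open_preimage (i := j) hyV₅
  let W₃ : X.Opens := W₂ ⊓ O
  have hW₃ : W₃ ≤ W₂ := inf_le_left
  have hW₃V : j ⁻¹ᵁ W₃ ≤ V₅ := (j.preimage_mono inf_le_right).trans hOV₅
  refine ⟨W₃, hW₃.trans hW₂, (hW₃V.trans ((hV₅.trans hV₄₁).trans hV₁)), ⟨hyW₂, hO⟩,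
    bc Γ(X, W₃) (KosStalk.rs _ hW₃) ((ap D.ε W₂).compAlternatingMap (z 0 p)), ?_⟩
  apply theta_eq
  intro y' hy'
  refine ⟨W₃, le_rfl, hy', fun q k => bc Γ(X, W₃) (KosStalk.rs (D.P q) hW₃) (z q k), ?_, ?_, ?_⟩
  · have := isZig_rs hz hW₃
    simpa only [resO_resO] using this
  · rw [bc_bc _ _ (KosStalk.rs _ hW₃) (fun e => rs_rs _ hW₃ le_rfl e)]
    exact bc_comp (KosStalk.rs (D.P 0) hW₃) (KosStalk.rs _ hW₃) (ap D.ε W₂) (ap D.ε W₃) (fun e => ap_rs D.ε hW₃ e) _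
  · have h6 := hτ'.rs (j.preimage_mono hW₃)
    have h7 : et j (D.P p) W₃ (ev0 (bc Γ(X, W₃) (KosStalk.rs (D.P p) hW₃) (z p 0))) =
        rs (KK D j p) (j.preimage_mono hW₃) (et j (D.P p) W₂ (ev0 (z p 0))) := by
      rw [ev0_bc]
      exact et_rs j (D.P p) hW₃ (ev0 (z p 0))
    have h8 : rs T (j.preimage_mono le_rfl) (rs T (hW₃V.trans ((hV₅.trans hV₄₁).trans hV₁)) τ) =
        rs T (j.preimage_mono hW₃) τ' := by
      rw [rs_rs]
      have h10 := congrArg (rs T hW₃V) h9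
      rw [rs_rs, rs_rs] at h10
      exact h10.symm
    rw [h7, h8]
    exact h6

end

end K560.ThetaTwo
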