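import Groth.Agent.RegImm.K560.ExcSetup
import Groth.Agent.RegImm.K560.ThetaLoc

/-!
# The stalks of the push-forward of the structure module of a closed subscheme
-/

set_option autoImplicit false

universe u v w

open CategoryTheory CategoryTheory.Limits AlgebraicGeometry Opposite TopologicalSpace
open scoped TensorProduct
open Groth.Agent Groth.Agent.Sga67 Groth.Agent.Sga67.Sec Groth.Agent.Sga67.LocBasis Groth.Agent.Sga67.KosAlt
  Groth.Agent.Sga67.KosStalk Groth.Agent.Sga67.KosImm Groth.Agent.Sga67.KosConormal Groth.Agent.Sga67.KosTheta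

namespace K560.Exc

variable {X Y : Scheme.{u}} (i : Y ⟶ X)

/-- The push-forward of the structure module. -/
noncomputable abbrev FF : X.Modules := (Scheme.Modules.pushforward i).obj (Coh.structureModule Y)

/-- The unit section. -/
noncomputable def oneF (U : X.Opens) : SM (FF i) U := one Y (i ⁻¹ᵁ U)

theorem smul_oneF {U : X.Opens} (a : Γ(X, U)) : a • oneF i U = (show SM (FF i) U from (i.app U a • one Y (i ⁻¹ᵁ U))) := rfl

theorem rs_oneF {U V : X.Opens} (h : V ≤ U) : rs (FF i) h (oneF i U) = oneF i V := res_one Y (i.preimage_mono h)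

theorem smul_oneF_eq_zero_iff {U : X.Opens} (a : Γ(X, U)) : a • oneF i U = 0 ↔ i.app U a = 0 := by
  constructor
  · intro h
    have h1 : i.app U a • one Y (i ⁻¹ᵁ U) = 0 := h
    rw [smul_one] at h1
    exact h1
  · intro h
    exact KosTheta.smul_push a _ h

theorem exists_smul_oneF [IsClosedImmersion i] {U : X.Opens} (hU : IsAffineOpen U) (s : SM (FF i) U) :
    ∃ a : Γ(X, U), a • oneF i U = s := by
  obtain ⟨a, ha⟩ := i.app_surjective U hU (show Γ(Y, i ⁻¹ᵁ U) from s)
  refine ⟨a, ?_⟩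
  have h1 : i.app U a • one Y (i ⁻¹ᵁ U) = s := by
    rw [smul_one]
    exact ha
  exact h1

/-- The local ring maps onto the stalk. -/
noncomputable def piF (x : X) : X.presheaf.stalk x →ₗ[X.presheaf.stalk x] StM (FF i) x :=
  LinearMap.toSpanSingleton _ _ (gm (FF i) (U := ⊤) (Opens.mem_top x) (oneF i ⊤))

theorem piF_apply (x : X) {U : X.Opens} (hx : x ∈ U) (r : X.presheaf.stalk x) :
    piF i x r = r • gm (FF i) hx (oneF i U) := by
  have h1 : gm (FF i) (U := ⊤) (Opens.mem_top x) (oneF i ⊤) = gm (FF i) hx (oneF i U) := by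
    rw [← gm_rs (FF i) (le_top : U ≤ ⊤) hx, rs_oneF]
  rw [piF, LinearMap.toSpanSingleton_apply, h1]

theorem piF_surjective [IsClosedImmersion i] (x : X) : Function.Surjective (piF i x) := by
  intro t
  obtain ⟨V, -, hV, s, rfl⟩ := exists_gm (FF i) (U := ⊤) (Opens.mem_top x) t
  obtain ⟨V', hV', hxV', hV'V⟩ := exists_isAffineOpen_mem_and_subset (X := X) (x := x) (U := V) hV
  have hle : V' ≤ V := hV'V
  obtain ⟨a, ha⟩ := exists_smul_oneF i hV' (rs _ hle s)
  refine ⟨gO X hxV' a, ?_⟩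
  rw [piF_apply i x hxV', ← gm_smul, ha, gm_rs]

theorem piF_eq_zero_iff [IsClosedImmersion i] (x : X) (r : X.presheaf.stalk x) :
    piF i x r = 0 ↔ r ∈ IntMult.stalkIdeal i.ker x := by
  constructor
  · intro h
    obtain ⟨V, -, hx, r', hr'⟩ := TopCat.Presheaf.exists_le_germ_eq X.presheaf r (V := ⊤) (Opens.mem_top x)
    have hr'' : gO X hx r' = r := hr'
    rw [piF_apply i x hx, ← hr'', ← gm_smul] at h
    obtain ⟨V₁, hV₁, hxV₁, e⟩ := gm_eq_zero _ hx _ h
    obtain ⟨V₂, hV₂, hxV₂, hV₂₁⟩ := exists_isAffineOpen_mem_and_subset (X := X) (x := x) (U := V₁) hxV₁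
    have hle : V₂ ≤ V₁ := hV₂₁
    have e' := congrArg (rs (FF i) hle) e
    rw [rs_rs, rs_smul, rs_oneF, map_zero, smul_oneF_eq_zero_iff] at e'
    obtain ⟨a, ha⟩ := exists_vl i hV₂ _ e'
    rw [← hr'', ← gO_resO (hle.trans hV₁) hxV₂, ← ha]
    exact gO_vl_mem i.ker hxV₂ a
  · intro h
    obtain ⟨V, -, hV, a, rfl⟩ := exists_of_mem_stalkIdeal i.ker (U := ⊤) (Opens.mem_top x) r h
    obtain ⟨V₂, hV₂, hxV₂, hV₂₁⟩ := exists_isAffineOpen_mem_and_subset (X := X) (x := x) (U := V) hV
    have hle : V₂ ≤ V := hV₂₁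
    rw [piF_apply i x hxV₂, ← gO_resO hle hxV₂, ← gm_smul, ← vl_rs, (smul_oneF_eq_zero_iff i _).mpr (app_vl i hV₂ _),
      map_zero]

/-- The germ of `a • 1` is in `K F` if and only if the germ of `a` is in `K` for `K` containing the ideal of `Y`. -/
theorem mem_of_piF_mem [IsClosedImmersion i] (x : X) (K : Ideal (X.presheaf.stalk x))
    (hK : IntMult.stalkIdeal i.ker x ≤ K) (r : X.presheaf.stalk x)
    (h : piF i x r ∈ K • (⊤ : Submodule (X.presheaf.stalk x) (StM (FF i) x))) : r ∈ K := by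
  have h1 : K • (⊤ : Submodule (X.presheaf.stalk x) (StM (FF i) x)) = Submodule.map (piF i x) K := by
    have h2 : (⊤ : Submodule (X.presheaf.stalk x) (StM (FF i) x)) = Submodule.map (piF i x) ⊤ := by
      rw [Submodule.map_top, LinearMap.range_eq_top.mpr (piF_surjective i x)]
    rw [h2, ← Submodule.map_smul'', smul_eq_mul, Ideal.mul_top]
  rw [h1] at h
  obtain ⟨k, hk, e⟩ := h
  have h3 : piF i x (r - k) = 0 := by rw [map_sub, e, sub_self]
  have h4 := hK ((piF_eq_zero_iff i x _).mp h3)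
  have h5 := K.add_mem h4 hk
  rwa [sub_add_cancel] at h5

end K560.Exc
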