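import Groth.Agent.RegImm.K560.KosSetup

/-!
# `K I ∩ K J ⊆ I J` for `I`, `J`, `K = I + J` generated by regular sequences
-/

set_option autoImplicit false

universe u v w

namespace K560.KosTwo

open Groth.Agent.Sga67.KosAlt Groth.Agent.Sga67.KosImm

theorem exists_coeff_of_mem {A : Type u} [CommRing A] [IsLocalRing A] {a b c : ℕ} (f : Fin a → A) (g : Fin b → A)
    (x : Fin c → A) 
    (hx : RingTheory.Sequence.IsWeaklyRegular A (List.ofFn x)) (K : Ideal A)
    (hK : K = Ideal.span (Set.range x)) (hK' : K ≠ ⊤)
    (hs : Ideal.span (Set.range f) ⊔ Ideal.span (Set.range g) = K)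
    (r : A) (hr₁ : r ∈ K * Ideal.span (Set.range f)) (hr₂ : r ∈ K * Ideal.span (Set.range g)) :
    ∃ β : Fin b → A, (∀ j, β j ∈ Ideal.span (Set.range f)) ∧ r = ∑ j, β j * g j := by
  obtain ⟨e', N, hN⟩ := exists_equiv (Fin.append f g) x hx (hK ▸ hK') (by rw [span_append, hs, hK])
  obtain ⟨γ, hγ, hγr⟩ := mem_mul_span hr₁
  obtain ⟨β, hβ, hβr⟩ := mem_mul_span hr₂
  -- the one form
  let L : (Fin (a + b) → A) →ₗ[A] A := (Pi.basisFun A (Fin (a + b))).constr A (Fin.append (-γ) β)
  have hL : ∀ v, L v = ∑ j, v j * (Fin.append (-γ) β) j := by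
    intro v
    simp only [L, Module.Basis.constr_apply_fintype, Pi.basisFun_equivFun, LinearEquiv.refl_apply, smul_eq_mul]
  have hLR : ∀ y, L (inR A a b y) = ∑ j, β j * y j := by
    intro y
    rw [hL, Fin.sum_univ_add]
    simp only [inR_apply, Fin.append_left, Fin.append_right, Pi.zero_apply, zero_mul, Finset.sum_const_zero, zero_add]
    exact Finset.sum_congr rfl fun j _ => mul_comm _ _
  have hLL : ∀ y, L (inL A a b y) = - ∑ j, γ j * y j := by
    intro y
    rw [hL, Fin.sum_univ_add]
    simp only [inL_apply, Fin.append_left, Fin.append_right, Pi.zero_apply, zero_mul, Finset.sum_const_zero, add_zero,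
      Pi.neg_apply, mul_neg, Finset.sum_neg_distrib]
    congr 1
    exact Finset.sum_congr rfl fun j _ => mul_comm _ _
  have hLv : L (Fin.append f g) = 0 := by
    rw [append_eq, map_add, hLL, hLR, ← hγr, ← hβr, neg_add_cancel]
  have hLK : ∀ y, L y ∈ K := by
    intro y
    rw [hL]
    refine Ideal.sum_mem _ fun j _ => Ideal.mul_mem_left _ _ ?_
    induction j using Fin.addCases with
    | left j => rw [Fin.append_left]; exact Submodule.neg_mem _ (hγ j)
    | right j => rw [Fin.append_right]; exact hβ j
  let z : Alt A (a + b) 1 A := AlternatingMap.ofSubsingleton A _ _ (0 : Fin 1) L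
  have hz : ∀ v, z v = L (v 0) := fun v => rfl
  have hz0 : (z.compLinearMap N.toLinearMap).curryLeft (Fin.append x 0) = 0 := by
    ext v
    rw [AlternatingMap.curryLeft_apply_apply]
    change L (N (Fin.append x 0)) = 0
    rw [hN, hLv]
  obtain ⟨w, hw⟩ := exists_curryLeft_eq_of_restrict c (c + e') (Fin.append x 0) A (by omega)
    (by rw [ofFn_append_take]; exact hx) 0 (z.compLinearMap N.toLinearMap) hz0 (by
      intro y _
      rw [ofFn_append_take, Setup.smul_top_self, ofList_ofFn, ← hK]
      exact hLK _)
  let W : Alt A (a + b) 2 A := w.compLinearMap N.symm.toLinearMap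
  have hW : ∀ y, W ![Fin.append f g, y] = L y := by
    intro y
    have h1 : w.curryLeft (Fin.append x 0) ![N.symm y] = L y := by
      rw [hw]
      change L (N (N.symm y)) = L y
      rw [LinearEquiv.apply_symm_apply]
    rw [← h1]
    change w (fun i => N.symm (![Fin.append f g, y] i)) = w (Matrix.vecCons (Fin.append x 0) ![N.symm y])
    congr 1
    funext i
    induction i using Fin.cases with
    | zero =>
      change N.symm (Fin.append f g) = Fin.append x 0
      rw [← hN, LinearEquiv.symm_apply_apply]
    | succ i =>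
      have : i = 0 := Subsingleton.elim _ _
      subst this
      rfl
  let Wf : (Fin (a + b) → A) →ₗ[A] A :=
    (AlternatingMap.ofSubsingleton A (Fin (a + b) → A) A (0 : Fin 1)).symm (W.curryLeft (inL A a b f))
  have hWf : ∀ y, Wf y = (W.curryLeft (inL A a b f)) ![y] := fun y => by
    have h1 : (![y] : Fin 1 → Fin (a + b) → A) = fun _ => y := by
      funext i
      have : i = 0 := Subsingleton.elim _ _
      subst this
      rfl
    rw [h1]
    rfl
  refine ⟨fun j => Wf (inR A a b (Pi.basisFun A _ j)), ?_, ?_⟩
  · intro j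
    change Wf _ ∈ _
    rw [hWf]
    refine curryLeft_mem _ W (inL A a b f) ?_ _
    intro l
    rw [inL_apply]
    induction l using Fin.addCases with
    | left j => rw [Fin.append_left]; exact Ideal.subset_span ⟨j, rfl⟩
    | right j => rw [Fin.append_right]; exact Submodule.zero_mem _
  · have h1 : r = Wf (inR A a b g) := by
      have h2 : r = L (inR A a b g) := by rw [hLR]; exact hβr
      rw [h2, ← hW, hWf]
      have h3 : W ![Fin.append f g, inR A a b g] = (W.curryLeft (Fin.append f g)) ![inR A a b g] := rfl
      rw [h3, append_eq, map_add, AlternatingMap.add_apply]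
      have h4 : (W.curryLeft (inR A a b g)) ![inR A a b g] = 0 := by
        have h5 : (W.curryLeft (inR A a b g)) ![inR A a b g] = W ![inR A a b g, inR A a b g] := rfl
        rw [h5]
        exact W.map_eq_zero_of_eq _ (i := 0) (j := 1) rfl (by decide)
      rw [h4, add_zero]
    rw [h1]
    exact linear_eq_sum (Wf ∘ₗ inR A a b) g

end K560.KosTwo
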