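import Groth.Agent.RegImm.K560.ExcFree
import Groth.Agent.RegImm.K560.KosMul

/-!
# The algebraic set-up at the stalks
-/

set_option autoImplicit false

universe u v w

open CategoryTheory CategoryTheory.Limits AlgebraicGeometry Opposite TopologicalSpace
open scoped TensorProduct
open Groth.Agent Groth.Agent.Sga67 Groth.Agent.Sga67.Sec Groth.Agent.Sga67.LocBasis Groth.Agent.Sga67.KosAlt
  Groth.Agent.Sga67.KosStalk Groth.Agent.Sga67.KosImm Groth.Agent.Sga67.KosConormal Groth.Agent.Sga67.KosTheta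

namespace K560.Exc

open K560.KosTwo

variable {X Y Z W : Scheme.{u}}

theorem range_eq_support (i : Y ⟶ X) [IsClosedImmersion i] : (i.ker.support : Set X) = Set.range i := by
  rw [Scheme.Hom.support_ker, i.isClosedEmbedding.isClosed_range.closure_eq]

theorem stalkIdeal_ne_top_iff (i : Y ⟶ X) [IsClosedImmersion i] (x : X) :
    IntMult.stalkIdeal i.ker x ≠ ⊤ ↔ x ∈ Set.range i := by
  rw [CycA.StalkIdeal.stalkIdeal_ne_top_iff, ← range_eq_support]
  rfl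

/-- The stalk of the ideal of a regular closed immersion is generated by a weakly regular sequence. -/
theorem exists_regular {i : Y ⟶ X} [IsClosedImmersion i] (hi : Mor2.IsRegularClosedImmersion i) (x : X) :
    ∃ (a : ℕ) (f : Fin a → X.presheaf.stalk x),
      RingTheory.Sequence.IsWeaklyRegular (X.presheaf.stalk x) (List.ofFn f) ∧
      IntMult.stalkIdeal i.ker x = Ideal.span (Set.range f) := by
  by_cases hx : x ∈ Set.range i
  · obtain ⟨y, rfl⟩ := hx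
    obtain ⟨c, hc, -⟩ := exists_chart hi y ⊤ trivial
    refine ⟨c.l.length, fun j => gO X hc (c.f j), ?_, ?_⟩
    · have h : List.ofFn (fun j => gO X hc (c.f j)) = c.l.map (gO X hc) := by
        have h1 : List.ofFn (fun j => gO X hc (c.f j)) = List.map (gO X hc) (List.ofFn c.l.get) := by
          rw [List.map_ofFn]
          rfl
        rw [h1, List.ofFn_get]
      rw [h]
      exact c.isWeaklyRegular_stalk hc
    · rw [CycA.StalkIdeal.stalkIdeal_ker i y]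
      exact c.ker_stalkMap hc
  · refine ⟨1, fun _ => 1, ?_, ?_⟩
    · rw [List.ofFn_succ, List.ofFn_zero, RingTheory.Sequence.isWeaklyRegular_cons_iff]
      refine ⟨?_, RingTheory.Sequence.IsWeaklyRegular.nil _ _⟩
      intro a b h
      simpa using h
    · have h1 : IntMult.stalkIdeal i.ker x = ⊤ := by
        by_contra h
        exact hx ((stalkIdeal_ne_top_iff i x).mp h)
      rw [h1]
      have h2 : (1 : X.presheaf.stalk x) ∈ Ideal.span (Set.range (fun _ : Fin 1 => (1 : X.presheaf.stalk x))) :=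
        Ideal.subset_span ⟨0, rfl⟩
      exact ((Ideal.eq_top_iff_one _).mpr h2).symm

variable {S : Ctx X Y Z W}

/-- The points of `W` are those of `Y ∩ Z`. -/
theorem mem_range_w {x : X} (hi : x ∈ Set.range S.i) (hj : x ∈ Set.range S.j) : x ∈ Set.range S.w := by
  rw [← stalkIdeal_ne_top_iff] at hi hj ⊢
  rw [K_eq]
  intro h
  have h1 := sup_le (IsLocalRing.le_maximalIdeal hi) (IsLocalRing.le_maximalIdeal hj)
  rw [h] at h1
  exact (IsLocalRing.maximalIdeal.isMaximal (X.presheaf.stalk x)).ne_top (top_le_iff.1 h1)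

namespace ECh

variable (c : ECh S)

/-- The functions of a chart. -/
noncomputable def u (l : Fin c.n) : Γ(X, c.U) := vl _ (c.a l)

theorem u_eq (l : Fin c.n) : c.u l = vl _ (c.b l) := (c.hs l).1

theorem app_i_u (l : Fin c.n) : S.i.app c.U (c.u l) = 0 := app_vl S.i c.hU _

theorem app_j_u (l : Fin c.n) : S.j.app c.U (c.u l) = 0 := by
  rw [u_eq]
  exact app_vl S.j c.hU _

/-- Combinations. -/
theorem isE_comb {V : X.Opens} (h : V ≤ c.U) (r : Fin c.n → Γ(X, V)) :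
    IsE S V (∑ l, r l • rs _ h (c.a l)) (∑ l, r l • rs _ h (c.b l))
      (∑ l, S.w.app V (r l) • rs _ (S.w.preimage_mono h) (c.s l)) :=
  IsE.sum (fun l => ((c.hs l).rs h).smul (r l)) _

theorem gO_comb {V : X.Opens} (h : V ≤ c.U) (r : Fin c.n → Γ(X, V)) {x : X} (hx : x ∈ V) :
    gO X hx (vl _ (∑ l, r l • rs _ h (c.a l))) = ∑ l, gO X hx (r l) * gO X (h hx) (c.u l) := by
  rw [KosGlobal.vl_sum, map_sum]
  refine Finset.sum_congr rfl fun l _ => ?_
  rw [KosGlobal.vl_smul, map_mul, vl_rs, gO_resO]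
  rfl

theorem gm_comb {V : X.Opens} (h : V ≤ c.U) (r : Fin c.n → Γ(X, V)) {y : W} (hy : S.w y ∈ V) :
    gm (E S) (show y ∈ S.w ⁻¹ᵁ V from hy) (∑ l, S.w.app V (r l) • rs _ (S.w.preimage_mono h) (c.s l)) =
      ∑ l, S.w.stalkMap y (gO X hy (r l)) • gm (E S) (show y ∈ S.w ⁻¹ᵁ c.U from h hy) (c.s l) := by
  rw [map_sum]
  refine Finset.sum_congr rfl fun l _ => ?_
  rw [gm_smul, gm_rs, stalkMap_gO]

end ECh

/-- Finitely many germs of functions are defined on an affine open. -/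
theorem exists_sections {n : ℕ} {x : X} (r : Fin n → X.presheaf.stalk x) (O : X.Opens) (hO : x ∈ O) :
    ∃ (V : X.Opens) (_ : V ≤ O) (_ : IsAffineOpen V) (hx : x ∈ V) (r' : Fin n → Γ(X, V)), ∀ l, gO X hx (r' l) = r l := by
  choose W0 hW0 hyW0 b0 hb0 using fun l => (TopCat.Presheaf.exists_le_germ_eq X.presheaf (r l) hO)
  obtain ⟨V₀, hxV₀, hV₀O, hV₀⟩ := exists_common_nbhd O hO W0 hyW0
  obtain ⟨V, hV, hxV, hVV₀⟩ := exists_isAffineOpen_mem_and_subset (X := X) (x := x) (U := V₀) hxV₀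
  have hVV₀' : V ≤ V₀ := hVV₀
  refine ⟨V, hVV₀'.trans hV₀O, hV, hxV, fun l => resO X (hVV₀'.trans (hV₀ l)) (b0 l), fun l => ?_⟩
  rw [gO_resO]
  exact hb0 l

namespace ECh

variable (c : ECh S)

/-- The germs of a local basis are independent. -/
theorem eq_zero_of_sum_gm {y : W} (hy : S.w y ∈ c.U) (r : Fin c.n → W.presheaf.stalk y)
    (h : ∑ l, r l • gm (E S) (show y ∈ S.w ⁻¹ᵁ c.U from hy) (c.s l) = 0) (l : Fin c.n) : r l = 0 := by
  obtain ⟨V, hVU, -, hyV, r', hr'⟩ := exists_sections r (S.w ⁻¹ᵁ c.U) hy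
  have h1 : gm (E S) hyV (∑ l, r' l • rs _ hVU (c.s l)) = 0 := by
    rw [map_sum, ← h]
    refine Finset.sum_congr rfl fun l _ => ?_
    rw [gm_smul, gm_rs, hr']
  obtain ⟨V', hV', hyV', e⟩ := gm_eq_zero _ hyV _ h1
  have h2 : comb (M := E S) (U := S.w ⁻¹ᵁ c.U) (fun l => c.s l) (hV'.trans hVU) (fun l => resO W hV' (r' l)) = 0 := by
    have h3 : (∑ l, resO W hV' (r' l) • rs (E S) (hV'.trans hVU) (c.s l)) = 0 := by
      rw [← e, map_sum]
      refine Finset.sum_congr rfl fun l _ => ?_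
      rw [rs_smul, rs_rs]
    exact h3
  have h3 := (c.hb V' (hV'.trans hVU)).1 (h2.trans (map_zero _).symm)
  rw [← hr' l, ← gO_resO hV' hyV']
  have h4 := congrFun h3 l
  have h5 : resO W hV' (r' l) = 0 := h4
  rw [h5, map_zero]

/-- The germs of a local basis generate. -/
theorem exists_sum_gm {y : W} (hy : S.w y ∈ c.U) (t : StM (E S) y) :
    ∃ r : Fin c.n → W.presheaf.stalk y, t = ∑ l, r l • gm (E S) (show y ∈ S.w ⁻¹ᵁ c.U from hy) (c.s l) := by
  obtain ⟨V, hVU, hyV, s, rfl⟩ := exists_gm (E S) (show y ∈ S.w ⁻¹ᵁ c.U from hy) t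
  obtain ⟨a, ha⟩ := (c.hb V hVU).2 s
  refine ⟨fun l => gO W hyV (a l), ?_⟩
  have h1 : s = ∑ l, a l • rs (E S) hVU (c.s l) := ha.symm
  rw [h1, map_sum]
  refine Finset.sum_congr rfl fun l _ => ?_
  rw [gm_smul, gm_rs]

theorem mem_iff {y : W} (hy : S.w y ∈ c.U) (r : Fin c.n → X.presheaf.stalk (S.w y)) :
    (∑ l, r l * gO X hy (c.u l) ∈ IntMult.stalkIdeal S.w.ker (S.w y) * IntMult.stalkIdeal S.i.ker (S.w y) ∧
      ∑ l, r l * gO X hy (c.u l) ∈ IntMult.stalkIdeal S.w.ker (S.w y) * IntMult.stalkIdeal S.j.ker (S.w y)) ↔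
      ∑ l, S.w.stalkMap y (r l) • gm (E S) (show y ∈ S.w ⁻¹ᵁ c.U from hy) (c.s l) = 0 := by
  obtain ⟨V, hVU, -, hyV, r', hr'⟩ := exists_sections r c.U hy
  have h1 := (c.isE_comb hVU r').gm_eq_zero_iff y hyV
  rw [c.gm_comb hVU r' hyV, c.gO_comb hVU r' hyV] at h1
  simp only [hr'] at h1
  exact h1.symm

theorem span_germ {y : W} (hy : S.w y ∈ c.U) (z : X.presheaf.stalk (S.w y))
    (h₁ : z ∈ IntMult.stalkIdeal S.i.ker (S.w y)) (h₂ : z ∈ IntMult.stalkIdeal S.j.ker (S.w y)) :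
    ∃ ν : Fin c.n → X.presheaf.stalk (S.w y),
      z - ∑ l, ν l * gO X hy (c.u l) ∈ IntMult.stalkIdeal S.w.ker (S.w y) * IntMult.stalkIdeal S.i.ker (S.w y) ∧
      z - ∑ l, ν l * gO X hy (c.u l) ∈ IntMult.stalkIdeal S.w.ker (S.w y) * IntMult.stalkIdeal S.j.ker (S.w y) := by
  obtain ⟨V₁, hV₁, hyV₁, a₀, ha₀⟩ := exists_of_mem_stalkIdeal S.i.ker hy z h₁
  obtain ⟨V₂, hV₂, hyV₂, b₀, hb₀⟩ := exists_of_mem_stalkIdeal S.j.ker hy z h₂
  have h3 : gO X (show S.w y ∈ V₁ ⊓ V₂ from ⟨hyV₁, hyV₂⟩) (vl _ (rs _ inf_le_left a₀)) =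
      gO X (show S.w y ∈ V₁ ⊓ V₂ from ⟨hyV₁, hyV₂⟩) (vl _ (rs _ inf_le_right b₀)) := by
    rw [vl_rs, vl_rs, gO_resO, gO_resO, ha₀, hb₀]
  obtain ⟨V₃, hV₃, hyV₃, e⟩ := exists_resO_eq _ h3
  obtain ⟨V₄, hV₄, hyV₄, hV₄₃⟩ := exists_isAffineOpen_mem_and_subset (X := X) (x := S.w y) (U := V₃) hyV₃
  have h43 : V₄ ≤ V₃ := hV₄₃
  obtain ⟨s₀, hs₀⟩ := exists_isE (S := S) hV₄ (rs _ ((h43.trans hV₃).trans inf_le_left) a₀)
    (rs _ ((h43.trans hV₃).trans inf_le_right) b₀) (by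
      have e' := congrArg (resO X h43) e
      rw [← vl_rs, ← vl_rs, ← vl_rs, ← vl_rs, rs_rs, rs_rs, rs_rs, rs_rs] at e'
      exact e')
  obtain ⟨ρ, hρ⟩ := c.exists_sum_gm hy (gm (E S) (show y ∈ S.w ⁻¹ᵁ V₄ from hyV₄) s₀)
  choose ν hν using fun l => S.w.stalkMap_surjective y (ρ l)
  obtain ⟨V₅, hV₅, -, hyV₅, ν', hν'⟩ := exists_sections ν (V₄ ⊓ c.U) ⟨hyV₄, hy⟩
  have h54 : V₅ ≤ V₄ := hV₅.trans inf_le_left
  have h5c : V₅ ≤ c.U := hV₅.trans inf_le_right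
  have h6 := (hs₀.rs h54).sub (c.isE_comb h5c ν')
  have h7 := (h6.gm_eq_zero_iff y hyV₅).mp (by
    rw [map_sub, gm_rs, c.gm_comb h5c ν' hyV₅, hρ]
    simp only [hν']
    have : ∀ l, S.w.stalkMap y (ν l) = ρ l := hν
    simp only [this, sub_self])
  have h8 : gO X hyV₅ (vl _ (rs _ h54 (rs _ ((h43.trans hV₃).trans inf_le_left) a₀) -
      ∑ l, ν' l • rs _ h5c (c.a l))) = z - ∑ l, ν l * gO X hy (c.u l) := by
    rw [← vx_gm, map_sub, map_sub, vx_gm, vx_gm, c.gO_comb h5c ν' hyV₅, vl_rs, vl_rs, gO_resO, gO_resO, ha₀]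
    simp only [hν']
  rw [h8] at h7
  exact ⟨ν, h7⟩

end ECh

/-- The data at a point. -/
def Good (S : Ctx X Y Z W) (x : X) {n : ℕ} (u : Fin n → X.presheaf.stalk x) : Prop :=
  ∃ (a b d e' : ℕ) (T : Setup (X.presheaf.stalk x) (IntMult.stalkIdeal S.w.ker x) a b d n e'),
    RingTheory.Sequence.IsWeaklyRegular (X.presheaf.stalk x) (List.ofFn T.g) ∧
    IntMult.stalkIdeal S.j.ker x = Ideal.span (Set.range T.g) ∧
    IntMult.stalkIdeal S.i.ker x = Ideal.span (Set.range T.f) ∧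
    T.β T.g = u

theorem good_of_mem (c : ECh S) (y : W) (hy : S.w y ∈ c.U) : Good S (S.w y) (fun l => gO X hy (c.u l)) := by
  obtain ⟨a, f, hf, hf'⟩ := exists_regular S.hi (S.w y)
  obtain ⟨b, g, hg, hg'⟩ := exists_regular S.hj (S.w y)
  obtain ⟨d, x, hx, hx'⟩ := exists_regular S.hw (S.w y)
  obtain ⟨e', T, hT₁, hT₂, hT₃⟩ := exists_setup f g x hf hg hx (IntMult.stalkIdeal S.w.ker (S.w y)) hx'
    ((stalkIdeal_ne_top_iff S.w _).mpr ⟨y, rfl⟩) (by rw [← hf', ← hg', K_eq]) (fun l => gO X hy (c.u l))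
    (fun l => by rw [← hf']; exact gO_vl_mem _ _ _)
    (fun l => by rw [← hg', c.u_eq]; exact gO_vl_mem _ _ _)
    (fun z hz₁ hz₂ => by
      rw [← hf'] at hz₁ ⊢
      rw [← hg'] at hz₂ ⊢
      exact c.span_germ hy z hz₁ hz₂)
    (fun r hr₁ hr₂ l => by
      rw [← hf'] at hr₁
      rw [← hg'] at hr₂
      have h1 := (c.mem_iff hy r).mp ⟨hr₁, hr₂⟩
      have h2 := c.eq_zero_of_sum_gm hy _ h1 l
      rw [CycA.StalkIdeal.stalkIdeal_ker S.w y]
      exact h2)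
  refine ⟨a, b, d, e', T, ?_, ?_, ?_, ?_⟩
  · rw [hT₂]; exact hg
  · rw [hT₂]; exact hg'
  · rw [hT₁]; exact hf'
  · rw [hT₂]; exact hT₃

theorem good_zero {x : X} (hx : x ∉ Set.range S.i) {n : ℕ} (hn : n = 0) (u : Fin n → X.presheaf.stalk x) :
    Good S x u := by
  subst hn
  have h1 : IntMult.stalkIdeal S.i.ker x = ⊤ := by
    by_contra h
    exact hx ((stalkIdeal_ne_top_iff S.i x).mp h)
  have h2 : IntMult.stalkIdeal S.w.ker x = ⊤ := by rw [K_eq, h1, top_sup_eq]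
  obtain ⟨b, g, hg, hg'⟩ := exists_regular S.hj x
  obtain ⟨T, hT₁, hT₂⟩ := exists_setup_top g
  unfold Good
  rw [h2]
  refine ⟨1, b, 1, b, T, ?_, ?_, ?_, funext fun l => l.elim0⟩
  · rw [hT₂]; exact hg
  · rw [hT₂]; exact hg'
  · rw [hT₁, h1]
    have h2 : (1 : X.presheaf.stalk x) ∈ Ideal.span (Set.range (fun _ : Fin 1 => (1 : X.presheaf.stalk x))) :=
      Ideal.subset_span ⟨0, rfl⟩
    exact ((Ideal.eq_top_iff_one _).mpr h2).symm

/-- The differences of functions with the same class are combinations of the generators of `J` with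
coefficients in `I`. -/
theorem exists_coeff {x : X} (hx : x ∈ Set.range S.j) {b : ℕ} (g : Fin b → X.presheaf.stalk x)
    (hg : IntMult.stalkIdeal S.j.ker x = Ideal.span (Set.range g)) (r : X.presheaf.stalk x)
    (hr : r ∈ IntMult.stalkIdeal S.j.ker x)
    (h : ∀ y : W, S.w y = x → r ∈ IntMult.stalkIdeal S.w.ker x * IntMult.stalkIdeal S.i.ker x ∧
      r ∈ IntMult.stalkIdeal S.w.ker x * IntMult.stalkIdeal S.j.ker x) :
    ∃ β : Fin b → X.presheaf.stalk x, (∀ j, β j ∈ IntMult.stalkIdeal S.i.ker x) ∧ r = ∑ j, β j * g j := by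
  by_cases hw : x ∈ Set.range S.w
  · obtain ⟨y, hy⟩ := hw
    obtain ⟨h₁, h₂⟩ := h y hy
    obtain ⟨a, f, hf, hf'⟩ := exists_regular S.hi x
    obtain ⟨d, x', hx', hx''⟩ := exists_regular S.hw x
    rw [hf'] at h₁ ⊢
    rw [hg] at h₂
    exact exists_coeff_of_mem f g x' hx' (IntMult.stalkIdeal S.w.ker x) hx''
      ((stalkIdeal_ne_top_iff S.w x).mpr ⟨y, hy⟩) (by rw [← hf', ← hg, K_eq]) r h₁ h₂
  · have h1 : IntMult.stalkIdeal S.i.ker x = ⊤ := by
      by_contra h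
      exact hw (mem_range_w ((stalkIdeal_ne_top_iff S.i x).mp h) hx)
    rw [hg] at hr
    obtain ⟨β, hβ⟩ := (Submodule.mem_span_range_iff_exists_fun _).mp hr
    exact ⟨β, fun j => by rw [h1]; trivial, hβ.symm⟩

end K560.Exc
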