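import Groth.Agent.Sga67.KosGlobal
import Groth.Prelude.Def_Omega3

/-!
# Stalks of pull-backs of conormal modules
-/

set_option autoImplicit false

universe u v w

open CategoryTheory CategoryTheory.Limits AlgebraicGeometry Opposite TopologicalSpace
open scoped TensorProduct
open Groth.Agent Groth.Agent.Sga67 Groth.Agent.Sga67.Sec Groth.Agent.Sga67.LocBasis Groth.Agent.Sga67.KosAlt
  Groth.Agent.Sga67.KosStalk Groth.Agent.Sga67.KosImm Groth.Agent.Sga67.KosConormal

namespace K560.Exc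

section Ideal

variable {X : Scheme.{u}} (I : X.IdealSheafData)

/-- The image of the stalk of the ideal module. -/
theorem range_vx (x : X) : LinearMap.range (vx I x) = IntMult.stalkIdeal I x := by
  obtain ⟨U, hU, hx, -⟩ := exists_isAffineOpen_mem_and_subset (X := X) (x := x) (U := ⊤) trivial
  have h0 := CycA.StalkIdeal.stalkIdeal_eq_map I x ⟨U, hU⟩ hx
  apply le_antisymm
  · rintro _ ⟨t, rfl⟩
    rw [h0]
    exact vx_mem I x ⟨U, hU⟩ hx t
  · rw [h0, Ideal.map_le_iff_le_comap]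
    intro a ha
    obtain ⟨s, hs⟩ := PerfA.IdealModule.exists_val_eq I ⟨U, hU⟩ ha
    refine ⟨gm (ClSub.idealMod I) hx (show SM (ClSub.idealMod I) U from s), ?_⟩
    refine (vx_gm I hx (show SM (ClSub.idealMod I) U from s)).trans ?_
    exact congrArg (gO X hx) hs

theorem vx_mem_mul_iff (x : X) (K : Ideal (X.presheaf.stalk x)) (t : StM (ClSub.idealMod I) x) :
    vx I x t ∈ K * IntMult.stalkIdeal I x ↔ t ∈ K • (⊤ : Submodule (X.presheaf.stalk x) (StM (ClSub.idealMod I) x)) := by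
  have h1 : (K • (⊤ : Submodule (X.presheaf.stalk x) (StM (ClSub.idealMod I) x))).map (vx I x) =
      K * IntMult.stalkIdeal I x := by
    rw [Submodule.map_smul'', Submodule.map_top, range_vx]
    rfl
  rw [← h1]
  constructor
  · rintro ⟨t', ht', e⟩
    rwa [← vx_injective I x e]
  · intro ht
    exact ⟨t, ht, rfl⟩

theorem gO_vl_mem {U : X.Opens} {x : X} (hx : x ∈ U) (s : SM (ClSub.idealMod I) U) :
    gO X hx (vl I s) ∈ IntMult.stalkIdeal I x := by
  rw [← vx_gm, ← range_vx]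
  exact ⟨_, rfl⟩

end Ideal

section Wrapped

variable {X Y W : Scheme.{u}} (i : Y ⟶ X) (g : W ⟶ Y)

/-- The class of a section of the ideal of `i` in the conormal module. -/
noncomputable def cw (U : X.Opens) : SM (ClSub.idealMod i.ker) U →+ SM (Omega.conormal i) (i ⁻¹ᵁ U) :=
  et i (ClSub.idealMod i.ker) U

theorem cw_smul {U : X.Opens} (a : Γ(X, U)) (s : SM (ClSub.idealMod i.ker) U) :
    cw i U (a • s) = i.app U a • cw i U s := et_smul _ _ _ _

theorem cw_rs {U V : X.Opens} (h : V ≤ U) (s : SM (ClSub.idealMod i.ker) U) :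
    cw i V (rs _ h s) = rs _ (i.preimage_mono h) (cw i U s) := et_rs _ _ _ _

/-- The class of a germ of the ideal of `i` in the stalk of conormal module. -/
noncomputable def cwx (y : Y) : StM (ClSub.idealMod i.ker) (i y) →+ StM (Omega.conormal i) y :=
  cn i (ClSub.idealMod i.ker) y

theorem cwx_gm (y : Y) {U : X.Opens} (hU : i y ∈ U) (s : SM (ClSub.idealMod i.ker) U) :
    cwx i y (gm _ hU s) = gm (Omega.conormal i) (show y ∈ i ⁻¹ᵁ U from hU) (cw i U s) := cn_gm _ _ _ _ _

theorem cwx_smul (y : Y) (a : X.presheaf.stalk (i y)) (e : StM (ClSub.idealMod i.ker) (i y)) :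
    cwx i y (a • e) = i.stalkMap y a • cwx i y e := cn_smul _ _ _ _ _

theorem cwx_surjective [IsClosedImmersion i] (y : Y) : Function.Surjective (cwx i y) := cn_surjective _ _ _

theorem cwx_ker [IsClosedImmersion i] (y : Y) (e : StM (ClSub.idealMod i.ker) (i y)) (he : cwx i y e = 0) :
    e ∈ IntMult.stalkIdeal i.ker (i y) •
      (⊤ : Submodule (X.presheaf.stalk (i y)) (StM (ClSub.idealMod i.ker) (i y))) := by
  rw [CycA.StalkIdeal.stalkIdeal_ker i y]
  exact cn_ker _ _ _ _ he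

/-- The pulled back conormal module. -/
noncomputable def pc : W.Modules := (Scheme.Modules.pullback g).obj (Omega.conormal i)

/-- The pull back of a section. -/
noncomputable def pg (V : Y.Opens) : SM (Omega.conormal i) V →+ SM (pc i g) (g ⁻¹ᵁ V) :=
  et g (Omega.conormal i) V

theorem pg_smul {V : Y.Opens} (a : Γ(Y, V)) (s : SM (Omega.conormal i) V) :
    pg i g V (a • s) = g.app V a • pg i g V s := et_smul _ _ _ _

theorem pg_rs {U V : Y.Opens} (h : V ≤ U) (s : SM (Omega.conormal i) U) :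
    pg i g V (rs _ h s) = rs _ (g.preimage_mono h) (pg i g U s) := et_rs _ _ _ _

/-- The pull back of a germ. -/
noncomputable def pgx (y : W) : StM (Omega.conormal i) (g y) →+ StM (pc i g) y :=
  cn g (Omega.conormal i) y

theorem pgx_gm (y : W) {U : Y.Opens} (hU : g y ∈ U) (s : SM (Omega.conormal i) U) :
    pgx i g y (gm _ hU s) = gm (pc i g) (show y ∈ g ⁻¹ᵁ U from hU) (pg i g U s) := cn_gm _ _ _ _ _

theorem pgx_smul (y : W) (a : Y.presheaf.stalk (g y)) (e : StM (Omega.conormal i) (g y)) :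
    pgx i g y (a • e) = g.stalkMap y a • pgx i g y e := cn_smul _ _ _ _ _

theorem pgx_surjective [IsClosedImmersion g] (y : W) : Function.Surjective (pgx i g y) := cn_surjective _ _ _

theorem pgx_ker [IsClosedImmersion g] (y : W) (e : StM (Omega.conormal i) (g y)) (he : pgx i g y e = 0) :
    e ∈ (RingHom.ker (g.stalkMap y).hom : Ideal (Y.presheaf.stalk (g y))) •
      (⊤ : Submodule (Y.presheaf.stalk (g y)) (StM (Omega.conormal i) (g y))) :=
  cn_ker _ _ _ _ he

end Wrapped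

section Comp

variable {X Y W : Scheme.{u}} {i : Y ⟶ X} {g : W ⟶ Y}

/-- The ideal of `W` in the local ring of `X`. -/
noncomputable def kid (i : Y ⟶ X) (g : W ⟶ Y) (y : W) : Ideal (X.presheaf.stalk (i (g y))) :=
  RingHom.ker ((g.stalkMap y).hom.comp (i.stalkMap (g y)).hom)

theorem mem_kid (y : W) (k : X.presheaf.stalk (i (g y))) :
    k ∈ kid i g y ↔ g.stalkMap y (i.stalkMap (g y) k) = 0 := Iff.rfl

theorem kid_eq [IsClosedImmersion i] [IsClosedImmersion g] (y : W) :
    kid i g y = IntMult.stalkIdeal (g ≫ i).ker (i (g y)) := by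
  have h1 := CycA.StalkIdeal.stalkIdeal_ker (g ≫ i) y
  refine Eq.trans ?_ h1.symm
  unfold kid
  rw [Scheme.Hom.stalkMap_comp]
  rfl

theorem pgx_cwx_eq_zero_iff [IsClosedImmersion i] [IsClosedImmersion g] (y : W)
    (t : StM (ClSub.idealMod i.ker) (i (g y))) :
    pgx i g y (cwx i (g y) t) = 0 ↔
      t ∈ kid i g y • (⊤ : Submodule (X.presheaf.stalk (i (g y))) (StM (ClSub.idealMod i.ker) (i (g y)))) := by
  constructor
  · intro h0
    have h1 := pgx_ker i g y _ h0
    have h2 : ∃ m ∈ kid i g y • (⊤ : Submodule (X.presheaf.stalk (i (g y))) (StM (ClSub.idealMod i.ker) (i (g y)))),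
        cwx i (g y) m = cwx i (g y) t := by
      refine Submodule.smul_induction_on (p := fun b => ∃ m ∈ kid i g y •
        (⊤ : Submodule (X.presheaf.stalk (i (g y))) (StM (ClSub.idealMod i.ker) (i (g y)))),
        cwx i (g y) m = b) h1 ?_ ?_
      · intro κ hκ b _
        obtain ⟨k, rfl⟩ := i.stalkMap_surjective (g y) κ
        obtain ⟨m, rfl⟩ := cwx_surjective i (g y) b
        exact ⟨k • m, Submodule.smul_mem_smul hκ trivial, cwx_smul _ _ _ _⟩
      · rintro b b' ⟨m, hm, rfl⟩ ⟨m', hm', rfl⟩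
        exact ⟨m + m', Submodule.add_mem _ hm hm', map_add _ _ _⟩
    obtain ⟨m, hm, e⟩ := h2
    have h3 := cwx_ker i (g y) (t - m) (by rw [map_sub, e, sub_self])
    have h4 : IntMult.stalkIdeal i.ker (i (g y)) ≤ kid i g y := by
      rw [CycA.StalkIdeal.stalkIdeal_ker i (g y)]
      intro k hk
      rw [mem_kid]
      have h5 : i.stalkMap (g y) k = 0 := hk
      rw [h5, map_zero]
    have h5 := Submodule.smul_mono_left (N := (⊤ : Submodule (X.presheaf.stalk (i (g y)))
      (StM (ClSub.idealMod i.ker) (i (g y))))) h4 h3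
    rw [← sub_add_cancel t m]
    exact Submodule.add_mem _ h5 hm
  · intro h0
    refine Submodule.smul_induction_on (p := fun t => pgx i g y (cwx i (g y) t) = 0) h0 ?_ ?_
    · intro k hk m _
      rw [cwx_smul, pgx_smul, (mem_kid y k).mp hk, zero_smul]
    · intro b b' hb hb'
      rw [map_add, map_add, hb, hb', add_zero]

end Comp

variable {X Y W : Scheme.{u}} {i : Y ⟶ X} {g : W ⟶ Y} {w : W ⟶ X} (h : g ≫ i = w)

include h in
theorem le_pre (U : X.Opens) : w ⁻¹ᵁ U ≤ g ⁻¹ᵁ (i ⁻¹ᵁ U) := by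
  subst h
  exact le_rfl

include h in
theorem pre_le (U : X.Opens) : g ⁻¹ᵁ (i ⁻¹ᵁ U) ≤ w ⁻¹ᵁ U := by
  subst h
  exact le_rfl

/-- The class of a section of the ideal in the pulled back conormal module. -/
noncomputable def cs (U : X.Opens) : SM (ClSub.idealMod i.ker) U →+ SM (pc i g) (w ⁻¹ᵁ U) :=
  (rs (pc i g) (le_pre h U)).comp ((pg i g (i ⁻¹ᵁ U)).comp (cw i U))

theorem cs_apply (U : X.Opens) (s : SM (ClSub.idealMod i.ker) U) :
    cs h U s = rs (pc i g) (le_pre h U) (pg i g (i ⁻¹ᵁ U) (cw i U s)) := rfl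

theorem cs_smul (U : X.Opens) (a : Γ(X, U)) (s : SM (ClSub.idealMod i.ker) U) :
    cs h U (a • s) = w.app U a • cs h U s := by
  subst h
  rw [cs_apply, cs_apply, cw_smul, pg_smul, rs_smul]
  congr 1
  exact resO_self _ _

theorem cs_rs {U V : X.Opens} (hV : V ≤ U) (s : SM (ClSub.idealMod i.ker) U) :
    cs h V (rs _ hV s) = rs _ (w.preimage_mono hV) (cs h U s) := by
  rw [cs_apply, cs_apply, cw_rs, pg_rs, rs_rs, rs_rs]

section Stalks

variable [IsClosedImmersion i] [IsClosedImmersion g]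

/-- Every germ is the class of a section of the ideal. -/
theorem exists_cs (y : W) (t : StM (pc i g) y) {U : X.Opens} (hU : w y ∈ U) :
    ∃ (V : X.Opens) (_ : V ≤ U) (hV : w y ∈ V) (s : SM (ClSub.idealMod i.ker) V),
      gm (pc i g) (show y ∈ w ⁻¹ᵁ V from hV) (cs h V s) = t := by
  subst h
  obtain ⟨t₁, rfl⟩ := pgx_surjective i g y t
  obtain ⟨t₂, rfl⟩ := cwx_surjective i (g y) t₁
  obtain ⟨V, hVU, hyV, s, rfl⟩ := exists_gm (ClSub.idealMod i.ker) (show i (g y) ∈ U from hU) t₂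
  refine ⟨V, hVU, hyV, s, ?_⟩
  rw [cwx_gm, pgx_gm, cs_apply]
  exact gm_rs _ _ _ _

/-- The vanishing of the class in the pulled back conormal module. -/
theorem gm_cs_eq_zero_iff (y : W) {U : X.Opens} (hU : w y ∈ U) (s : SM (ClSub.idealMod i.ker) U) :
    gm (pc i g) (show y ∈ w ⁻¹ᵁ U from hU) (cs h U s) = 0 ↔
      gO X hU (vl i.ker s) ∈ IntMult.stalkIdeal w.ker (w y) * IntMult.stalkIdeal i.ker (w y) := by
  subst h
  have hU' : i (g y) ∈ U := hU
  have h1 : gm (pc i g) (show y ∈ (g ≫ i) ⁻¹ᵁ U from hU) (cs rfl U s) =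
      pgx i g y (cwx i (g y) (gm _ hU' s)) := by
    rw [cs_apply]
    refine (gm_rs _ _ _ _).trans ?_
    rw [cwx_gm, pgx_gm]
  have h2 : gO X hU' (vl i.ker s) ∈ IntMult.stalkIdeal (g ≫ i).ker (i (g y)) * IntMult.stalkIdeal i.ker (i (g y)) ↔
      gm (pc i g) (show y ∈ (g ≫ i) ⁻¹ᵁ U from hU) (cs rfl U s) = 0 := by
    rw [h1, pgx_cwx_eq_zero_iff, ← vx_gm, kid_eq]
    exact vx_mem_mul_iff i.ker (i (g y)) _ _
  exact h2.symm

end Stalks

section Conormal

variable {φ : pc i g ⟶ Omega.conormal w}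

theorem ap_cs (hφ : OmegaSh.IsConormalMap w i (𝟙 X) g φ) (U : X.Opens) (s : SM (ClSub.idealMod i.ker) U)
    (s' : SM (ClSub.idealMod w.ker) U) (hs : vl w.ker s' = vl i.ker s) :
    ap φ (w ⁻¹ᵁ U) (cs h U s) = cw w U s' := by
  have h1 := hφ.2 U s s' (by
    refine Eq.trans hs ?_
    rfl) (w ⁻¹ᵁ U) (le_pre h U) le_rfl
  rw [cs_apply, ap_rs]
  refine Eq.trans ?_ (h1.trans ?_)
  · rfl
  · exact rs_self (Omega.conormal w) le_rfl _

end Conormal

end K560.Exc
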