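import Groth.Agent.Models.TorVan2
import Mathlib.RingTheory.TensorProduct.Quotient
import Mathlib.RingTheory.Regular.RegularSequence

/-!
# Tor-independence from regular sequences

* `tor_one_second`: `Tor_1(M, N) = 0` and `M ⊗ N' → M ⊗ N` injective imply `Tor_1(M, N'') = 0`.
* `tor_vanish_of_isWeaklyRegular`: `us` weakly regular on `N` and on `M ⊗ N`, `Tor_i(M, N) = 0` for `i > 0`; then
  `Tor_i(M, N/(us)N) = 0` for `i > 0`.
* `tor_quotients`: `rs ++ us` and `us` weakly regular in `A`; then `Tor_i(A/rs, A/us) = 0` for `i > 0`.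
-/

set_option autoImplicit false
universe u

open CategoryTheory MonoidalCategory TensorProduct Pointwise

namespace K560.TorReg

open Function RingTheory.Sequence
open Groth.Agent.Models.TorVan Groth.Agent.Models.TorVan2

variable {A : Type u} [CommRing A]

theorem tor_one_second {N' N N'' : Type u} [AddCommGroup N'] [Module A N'] [AddCommGroup N] [Module A N]
    [AddCommGroup N''] [Module A N''] (f : N' →ₗ[A] N) (g : N →ₗ[A] N'') (hfg : Exact f g)
    (hg : Surjective g) (M : Type u) [AddCommGroup M] [Module A M] (hM : Injective (f.lTensor M))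
    (h : Subsingleton (DRing.Tor A 1 M N)) : Subsingleton (DRing.Tor A 1 M N'') := by
  obtain ⟨F, _, _, _, q, hq⟩ := exists_free_cover (A := A) M
  have hi : Injective (LinearMap.ker q).subtype := Subtype.val_injective
  have hiq : Exact (LinearMap.ker q).subtype q := LinearMap.exact_subtype_ker_map q
  rw [tor_one_iff _ q hi hiq hq] at h ⊢
  rw [injective_iff_map_eq_zero]
  intro t ht
  obtain ⟨s, rfl⟩ := LinearMap.lTensor_surjective _ hg t
  rw [← tcomm] at ht
  obtain ⟨r, hr⟩ := (lTensor_exact F hfg hg _).1 ht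
  have h5 : q.rTensor N' r = 0 := by
    apply hM
    rw [tcomm, hr, map_zero]
    exact (rTensor_exact N hiq hq _).2 ⟨_, rfl⟩
  obtain ⟨w, hw⟩ := (rTensor_exact N' hiq hq _).1 h5
  have h6 : f.lTensor _ w = s := by
    apply h
    rw [← tcomm, hw, hr]
  rw [← h6]
  exact (lTensor_exact _ hfg hg _).2 ⟨_, rfl⟩

lemma exact_quotSMulTop (u : A) (N : Type u) [AddCommGroup N] [Module A N] :
    Exact (LinearMap.lsmul A N u) (Submodule.mkQ (u • (⊤ : Submodule A N))) := by
  intro y
  rw [Submodule.mkQ_apply, Submodule.Quotient.mk_eq_zero, Submodule.mem_smul_pointwise_iff_exists]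
  constructor
  · rintro ⟨z, _, rfl⟩
    exact ⟨z, rfl⟩
  · rintro ⟨z, rfl⟩
    exact ⟨z, trivial, rfl⟩

lemma lTensor_lsmul (M N : Type u) [AddCommGroup M] [Module A M] [AddCommGroup N] [Module A N] (u : A) :
    (LinearMap.lsmul A N u).lTensor M = LinearMap.lsmul A (M ⊗[A] N) u := by
  ext m n
  simp [TensorProduct.tmul_smul]

theorem tor_vanish_of_isWeaklyRegular (M : Type u) [AddCommGroup M] [Module A M] (us : List A) :
    ∀ (N : Type u) [AddCommGroup N] [Module A N], IsWeaklyRegular N us → IsWeaklyRegular (M ⊗[A] N) us →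
      (∀ p, Subsingleton (DRing.Tor A (p + 1) M N)) →
        ∀ p, Subsingleton (DRing.Tor A (p + 1) M (N ⧸ (Ideal.ofList us • ⊤ : Submodule A N))) := by
  induction us with
  | nil =>
    intro N _ _ _ _ h p
    have e : (N ⧸ (Ideal.ofList ([] : List A) • ⊤ : Submodule A N)) ≃ₗ[A] N :=
      Submodule.quotEquivOfEqBot _ (by simp)
    exact (tor_congr_right e (p + 1) M).2 (h p)
  | cons u us ih =>
    intro N _ _ hreg hreg' h p
    rw [isWeaklyRegular_cons_iff] at hreg hreg'
    have e := Submodule.quotOfListConsSMulTopEquivQuotSMulTopInner N u us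
    refine (tor_congr_right e (p + 1) M).2 ?_
    have e' := QuotSMulTop.tensorQuotSMulTopEquivQuotSMulTop u M N
    refine ih (QuotSMulTop u N) hreg.2 ((e'.isWeaklyRegular_congr us).mpr hreg'.2) ?_ p
    intro p'
    cases p' with
    | zero =>
      refine tor_one_second (LinearMap.lsmul A N u) (Submodule.mkQ (u • (⊤ : Submodule A N)))
        (exact_quotSMulTop u N) (Submodule.mkQ_surjective _) M ?_ (h 0)
      rw [lTensor_lsmul]
      exact hreg'.1
    | succ p' =>
      exact tor_vanish_second (LinearMap.lsmul A N u) (Submodule.mkQ (u • (⊤ : Submodule A N))) hreg.1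
        (exact_quotSMulTop u N) (Submodule.mkQ_surjective _) p' M (h (p' + 1)) (h p')

/-- Tor-independence of two quotients by complementary regular sequences -/
theorem tor_quotients (rs us : List A) (h : IsWeaklyRegular A (rs ++ us)) (hu : IsWeaklyRegular A us) (p : ℕ) :
    Subsingleton (DRing.Tor A (p + 1) (A ⧸ Ideal.ofList rs) (A ⧸ Ideal.ofList us)) := by
  rw [isWeaklyRegular_append_iff] at h
  have e1 : (A ⧸ (Ideal.ofList rs • ⊤ : Submodule A A)) ≃ₗ[A] (A ⧸ Ideal.ofList rs) :=
    Submodule.quotEquivOfEq _ _ (by rw [smul_eq_mul, Ideal.mul_top])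
  have e2 : (A ⧸ (Ideal.ofList us • ⊤ : Submodule A A)) ≃ₗ[A] (A ⧸ Ideal.ofList us) :=
    Submodule.quotEquivOfEq _ _ (by rw [smul_eq_mul, Ideal.mul_top])
  have e3 : (A ⧸ Ideal.ofList rs) ⊗[A] A ≃ₗ[A] (A ⧸ Ideal.ofList rs) := TensorProduct.rid A _
  refine (tor_congr_right e2 (p + 1) _).1 (tor_vanish_of_isWeaklyRegular _ us A hu ?_ (fun p ↦ ?_) p)
  · exact ((e3.trans e1.symm).isWeaklyRegular_congr us).mpr h.2
  · have : Subsingleton (DRing.Tor A (p + 1) (A ⧸ Ideal.ofList rs) A) := by
      have hp : Projective (ModuleCat.of A A) := ModuleCat.projective_of_free (Module.Basis.singleton Unit A)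
      exact ModuleCat.subsingleton_of_isZero
        (isZero_Tor_succ_of_projective (ModuleCat.{u} A) (ModuleCat.of A (A ⧸ Ideal.ofList rs)) (ModuleCat.of A A) p)
    exact this

end K560.TorReg
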