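import Groth.Agent.RegImm.K560.InterCodim
import Groth.Agent.RegImm.K560.TorReg
import Groth.Agent.S2428
import Groth.Agent.Models.TorLoc

/-!
# Tor-independence of regularly immersed closed subschemes meeting properly (Cohen-Macaulay ambient scheme)
-/

set_option autoImplicit false
universe u

open CategoryTheory AlgebraicGeometry Limits TensorProduct
open RingTheory.Sequence

namespace K560.InterTor

open Groth.Agent.Divis.IdealComap Groth.Agent.Divis.RegImm Groth.Agent.Divis.RegStalk K560.InterCodim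
open Groth.Agent.Models.TorVan2

/-- `A' ⊗_A B = A'/IA'` for `A → B` surjective with kernel `I` -/
lemma nonempty_baseChange_quot {A A' B : Type u} [CommRing A] [CommRing A'] [CommRing B] [Algebra A A']
    [Algebra A B] (hs : Function.Surjective (algebraMap A B)) (J : Ideal A')
    (hJ : (RingHom.ker (algebraMap A B)).map (algebraMap A A') = J) :
    Nonempty (A' ⊗[A] B ≃ₗ[A'] (A' ⧸ J)) := by
  let e : (A ⧸ RingHom.ker (algebraMap A B)) ≃ₐ[A] B :=
    Ideal.quotientKerAlgEquivOfSurjective (f := Algebra.ofId A B) hs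
  subst hJ
  exact ⟨((e.symm.toLinearEquiv.baseChange A A' _ _).trans
    (Algebra.TensorProduct.quotIdealMapEquivTensorQuot A' (RingHom.ker (algebraMap A B))).symm.toLinearEquiv)⟩

/-- Vanishing of Tor of two quotients can be tested in the local rings. -/
lemma tor_of_local {R B C : Type u} [CommRing R] [CommRing B] [CommRing C] [Algebra R B] [Algebra R C]
    (hB : Function.Surjective (algebraMap R B)) (hC : Function.Surjective (algebraMap R C)) (p : ℕ)
    (h : ∀ (P : Ideal R) [P.IsPrime], ∃ (A : Type u) (_ : CommRing A) (_ : Algebra R A)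
      (_ : IsLocalization P.primeCompl A),
      Subsingleton (DRing.Tor A p (A ⧸ (RingHom.ker (algebraMap R B)).map (algebraMap R A))
        (A ⧸ (RingHom.ker (algebraMap R C)).map (algebraMap R A)))) :
    Subsingleton (DRing.Tor R p B C) := by
  refine Module.subsingleton_of_localization_maximal (R := R)
    (fun P _ ↦ LocalizedModule P.primeCompl (DRing.Tor R p B C))
    (fun P _ ↦ LocalizedModule.mkLinearMap P.primeCompl (DRing.Tor R p B C)) fun P _ ↦ ?_
  obtain ⟨A, _, _, hA, h1⟩ := h P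
  have : IsLocalization P.primeCompl A := hA
  have : Module.Flat R A := IsLocalization.flat A P.primeCompl
  obtain ⟨e1⟩ := nonempty_baseChange_quot (A' := A) hB _ rfl
  obtain ⟨e2⟩ := nonempty_baseChange_quot (A' := A) hC _ rfl
  obtain ⟨e⟩ := Groth.Agent.S2428.result R A B C p
  have h2 : Subsingleton (DRing.Tor A p (A ⊗[R] B) (A ⊗[R] C)) :=
    Groth.Agent.Models.TorLoc.tor_subsingleton_of_equiv p e1.symm e2.symm h1
  have h3 : Subsingleton (A ⊗[R] DRing.Tor R p B C) := e.toEquiv.subsingleton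
  have h4 : IsLocalizedModule P.primeCompl (TensorProduct.mk R A (DRing.Tor R p B C) 1) :=
    (isLocalizedModule_iff_isBaseChange P.primeCompl A _).mpr (TensorProduct.isBaseChange R _ A)
  exact (IsLocalizedModule.iso P.primeCompl (TensorProduct.mk R A (DRing.Tor R p B C) 1)).toEquiv.subsingleton

lemma tor_of_subsingleton_left {A M N : Type u} [CommRing A] [AddCommGroup M] [Module A M] [AddCommGroup N]
    [Module A N] [Subsingleton M] (p : ℕ) : Subsingleton (DRing.Tor A (p + 1) M N) := by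
  exact Groth.Agent.Models.TorVan.subsingleton_tor_of_flat M N p

lemma tor_of_subsingleton_right {A M N : Type u} [CommRing A] [AddCommGroup M] [Module A M] [AddCommGroup N]
    [Module A N] [Subsingleton N] (p : ℕ) : Subsingleton (DRing.Tor A (p + 1) M N) := by
  have hp : Projective (ModuleCat.of A N) := by
    have : Module.Projective A N := inferInstance
    exact (IsProjective.iff_projective _).1 this
  exact ModuleCat.subsingleton_of_isZero
    (isZero_Tor_succ_of_projective (ModuleCat.{u} A) (ModuleCat.of A M) (ModuleCat.of A N) p)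

variable {X Y Z : Scheme.{u}}

/-- the ideal of a closed subscheme is the unit ideal in the local rings at points off the subscheme -/
lemma map_germ_eq_top (i : Y ⟶ X) [IsClosedImmersion i] (U : X.affineOpens) (x : X) (hx : x ∈ U.1)
    (h : ¬ ∃ y : Y, i y = x) : (i.ker.ideal U).map (X.presheaf.germ U.1 x hx).hom = ⊤ := by
  have h1 : ¬ i.ker.ideal U ≤ (U.2.primeIdealOf ⟨x, hx⟩).asIdeal := fun h2 ↦ h (exists_preimage i U x hx h2)
  obtain ⟨f, hf, hf'⟩ := SetLike.not_le_iff_exists.mp h1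
  let := X.presheaf.algebra_section_stalk ⟨x, hx⟩
  have := U.2.isLocalization_stalk ⟨x, hx⟩
  refine Ideal.eq_top_of_isUnit_mem _ (Ideal.mem_map_of_mem _ hf) ?_
  exact (IsLocalization.AtPrime.isUnit_to_map_iff (X.presheaf.stalk x)
      (U.2.primeIdealOf ⟨x, hx⟩).asIdeal f).mpr hf'

theorem tor_stalk (hCM : ∀ x : X, LocCoh.IsCohenMacaulayLocalRing (X.presheaf.stalk x))
    (iY : Y ⟶ X) (iZ : Z ⟶ X) [IsClosedImmersion iY] [IsClosedImmersion iZ] (a b : ℕ)
    (hY : RegImm.IsRegularImmersionOfCodim RegImm.Kind.regular a iY)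
    (hZ : RegImm.IsRegularImmersionOfCodim RegImm.Kind.regular b iZ)
    (hcodim : ∀ w : ↥(pullback iY iZ), ((a + b : ℕ) : WithBot ℕ∞) ≤
      ringKrullDim (X.presheaf.stalk ((pullback.fst iY iZ ≫ iY).base w)))
    (U : X.affineOpens) (x : X) (hx : x ∈ U.1) (p : ℕ) :
    Subsingleton (DRing.Tor (X.presheaf.stalk x) (p + 1)
      (X.presheaf.stalk x ⧸ (iY.ker.ideal U).map (X.presheaf.germ U.1 x hx).hom)
      (X.presheaf.stalk x ⧸ (iZ.ker.ideal U).map (X.presheaf.germ U.1 x hx).hom)) := by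
  by_cases h1 : ∃ y : Y, iY y = x
  swap
  · have : Subsingleton (X.presheaf.stalk x ⧸ (iY.ker.ideal U).map (X.presheaf.germ U.1 x hx).hom) :=
      Ideal.Quotient.subsingleton_iff.mpr (map_germ_eq_top iY U x hx h1)
    exact tor_of_subsingleton_left p
  by_cases h2 : ∃ z : Z, iZ z = x
  swap
  · have : Subsingleton (X.presheaf.stalk x ⧸ (iZ.ker.ideal U).map (X.presheaf.germ U.1 x hx).hom) :=
      Ideal.Quotient.subsingleton_iff.mpr (map_germ_eq_top iZ U x hx h2)
    exact tor_of_subsingleton_right p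
  obtain ⟨y, rfl⟩ := h1
  obtain ⟨z, hz⟩ := h2
  obtain ⟨V, hxV, rs, ss, hrs, hss, hrs', hss', hrs'', hss'', hreg⟩ := exists_lists hCM iY iZ a b hY hZ hcodim
    y z hz.symm
  rw [map_germ_eq iY.ker hxV hx, map_germ_eq iZ.ker hxV hx, hrs'', hss'', Ideal.map_ofList, Ideal.map_ofList]
  rw [List.map_append] at hreg
  exact K560.TorReg.tor_quotients _ _ hreg (K560.Stalk.isWeaklyRegular_germ V.2 hss' _ hxV) p

/-- Tor-independence on affine opens -/
theorem tor_affine (hCM : ∀ x : X, LocCoh.IsCohenMacaulayLocalRing (X.presheaf.stalk x))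
    (iY : Y ⟶ X) (iZ : Z ⟶ X) [IsClosedImmersion iY] [IsClosedImmersion iZ] (a b : ℕ)
    (hY : RegImm.IsRegularImmersionOfCodim RegImm.Kind.regular a iY)
    (hZ : RegImm.IsRegularImmersionOfCodim RegImm.Kind.regular b iZ)
    (hcodim : ∀ w : ↥(pullback iY iZ), ((a + b : ℕ) : WithBot ℕ∞) ≤
      ringKrullDim (X.presheaf.stalk ((pullback.fst iY iZ ≫ iY).base w)))
    (U : X.Opens) (hU : IsAffineOpen U) (i : ℕ) (hi : 0 < i) :
    Subsingleton (@DRing.Tor Γ(X, U) _ i Γ(Y, iY ⁻¹ᵁ U) Γ(Z, iZ ⁻¹ᵁ U) _ (iY.app U).hom.toModule _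
      (iZ.app U).hom.toModule) := by
  obtain ⟨p, rfl⟩ : ∃ p, i = p + 1 := ⟨i - 1, by omega⟩
  let _ : Algebra Γ(X, U) Γ(Y, iY ⁻¹ᵁ U) := (iY.app U).hom.toAlgebra
  let _ : Algebra Γ(X, U) Γ(Z, iZ ⁻¹ᵁ U) := (iZ.app U).hom.toAlgebra
  refine tor_of_local (R := Γ(X, U)) (B := Γ(Y, iY ⁻¹ᵁ U)) (C := Γ(Z, iZ ⁻¹ᵁ U))
    (iY.app_surjective U hU) (iZ.app_surjective U hU) (p + 1) fun P hP ↦ ?_
  have hx := fromSpec_mem ⟨U, hU⟩ (⟨P, hP⟩ : Spec Γ(X, U))
  let _ := X.presheaf.algebra_section_stalk ⟨hU.fromSpec ⟨P, hP⟩, hx⟩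
  have h1 := hU.isLocalization_stalk ⟨hU.fromSpec ⟨P, hP⟩, hx⟩
  rw [primeIdealOf_fromSpec ⟨U, hU⟩ ⟨P, hP⟩ hx] at h1
  refine ⟨X.presheaf.stalk (hU.fromSpec ⟨P, hP⟩), inferInstance, inferInstance, h1, ?_⟩
  have h2 := tor_stalk hCM iY iZ a b hY hZ hcodim ⟨U, hU⟩ _ hx p
  rw [Scheme.Hom.ker_apply, Scheme.Hom.ker_apply] at h2
  exact h2

end K560.InterTor
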