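import Groth.Agent.RegImm.K560.KosTwoLoc

/-!
# Existence of the algebraic set-up
-/

set_option autoImplicit false

universe u v w

namespace K560.KosTwo

open Groth.Agent.Sga67.KosAlt Groth.Agent.Sga67.KosImm

theorem ofList_ofFn {A : Type u} [CommRing A] {n : ℕ} (f : Fin n → A) :
    Ideal.ofList (List.ofFn f) = Ideal.span (Set.range f) := by
  unfold Ideal.ofList
  congr 1
  ext a
  simp only [Set.mem_ofPred_eq, Set.mem_range]
  exact List.mem_ofFn

section Maps

variable {A : Type u} [CommRing A] {n m : ℕ}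

theorem linear_eq_sum (L : (Fin n → A) →ₗ[A] A) (s : Fin n → A) :
    L s = ∑ j, L (Pi.basisFun A (Fin n) j) * s j := by
  conv_lhs => rw [← (Pi.basisFun A (Fin n)).sum_repr s]
  rw [map_sum]
  refine Finset.sum_congr rfl fun j _ => ?_
  rw [map_smul, smul_eq_mul, mul_comm]
  simp

/-- Linear maps preserve congruences. -/
theorem linear_mem (K : Ideal A) (L : (Fin n → A) →ₗ[A] (Fin m → A)) (s : Fin n → A) (hs : ∀ j, s j ∈ K)
    (k : Fin m) : L s k ∈ K := by
  have h := linear_eq_sum (LinearMap.proj k ∘ₗ L) s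
  have h1 : L s k = (LinearMap.proj k ∘ₗ L) s := rfl
  rw [h1, h]
  exact Ideal.sum_mem _ fun j _ => Ideal.mul_mem_left _ _ (hs j)

theorem linear_mem_sub (K : Ideal A) (L : (Fin n → A) →ₗ[A] (Fin m → A)) (s t : Fin n → A)
    (hs : ∀ j, s j - t j ∈ K) (k : Fin m) : L s k - L t k ∈ K := by
  have h := linear_mem K L (s - t) hs k
  rwa [map_sub] at h

theorem mem_mul_span {K : Ideal A} {f : Fin n → A} {z : A} (h : z ∈ K * Ideal.span (Set.range f)) :
    ∃ k : Fin n → A, (∀ j, k j ∈ K) ∧ z = ∑ j, k j * f j := by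
  induction h using Submodule.mul_induction_on' with
  | mem_mul_mem a ha b hb =>
    obtain ⟨r, rfl⟩ := (Submodule.mem_span_range_iff_exists_fun A).mp hb
    refine ⟨fun j => a * r j, fun j => Ideal.mul_mem_right _ _ ha, ?_⟩
    rw [Finset.mul_sum]
    exact Finset.sum_congr rfl fun j _ => by rw [smul_eq_mul, mul_assoc]
  | add x _ y _ hx hy =>
    obtain ⟨k, hk, rfl⟩ := hx
    obtain ⟨k', hk', rfl⟩ := hy
    refine ⟨k + k', fun j => K.add_mem (hk j) (hk' j), ?_⟩
    simp only [Pi.add_apply, add_mul, Finset.sum_add_distrib]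

/-- If two combinations of a regular sequence are congruent modulo `K I`, the coefficients are congruent
modulo `K`. -/
theorem coeff_congr {K : Ideal A} (f : Fin n → A) (hf : RingTheory.Sequence.IsWeaklyRegular A (List.ofFn f))
    (hfK : Ideal.span (Set.range f) ≤ K) (r : Fin n → A) (h : ∑ j, r j * f j ∈ K * Ideal.span (Set.range f))
    (j : Fin n) : r j ∈ K := by
  obtain ⟨k, hk, e⟩ := mem_mul_span h
  have h1 : ∑ j, (r j - k j) * f j = 0 := by
    simp only [sub_mul, Finset.sum_sub_distrib]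
    rw [e, sub_self]
  have h2 := hfK (coeff_mem_of_regular f hf (fun j => r j - k j) h1 j)
  have h3 := K.add_mem h2 (hk j)
  rwa [sub_add_cancel] at h3

theorem span_append {a b : ℕ} (f : Fin a → A) (g : Fin b → A) :
    Ideal.span (Set.range (Fin.append f g)) = Ideal.span (Set.range f) ⊔ Ideal.span (Set.range g) := by
  rw [← Submodule.span_union]
  congr 1
  ext z
  constructor
  · rintro ⟨j, rfl⟩
    induction j using Fin.addCases with
    | left j => exact Or.inl ⟨j, by simp⟩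
    | right j => exact Or.inr ⟨j, by simp⟩
  · rintro (⟨j, rfl⟩ | ⟨j, rfl⟩)
    · exact ⟨Fin.castAdd b j, by simp⟩
    · exact ⟨Fin.natAdd a j, by simp⟩

end Maps

theorem exists_setup {A : Type u} [CommRing A] [IsLocalRing A] {a b c e : ℕ} (f : Fin a → A) (g : Fin b → A)
    (x : Fin c → A) (hf : RingTheory.Sequence.IsWeaklyRegular A (List.ofFn f))
    (hg : RingTheory.Sequence.IsWeaklyRegular A (List.ofFn g))
    (hx : RingTheory.Sequence.IsWeaklyRegular A (List.ofFn x)) (K : Ideal A)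
    (hK : K = Ideal.span (Set.range x)) (hK' : K ≠ ⊤)
    (hs : Ideal.span (Set.range f) ⊔ Ideal.span (Set.range g) = K)
    (u : Fin e → A) (hu₁ : ∀ l, u l ∈ Ideal.span (Set.range f)) (hu₂ : ∀ l, u l ∈ Ideal.span (Set.range g))
    (hspan : ∀ z, z ∈ Ideal.span (Set.range f) → z ∈ Ideal.span (Set.range g) → ∃ ν : Fin e → A,
      z - ∑ l, ν l * u l ∈ K * Ideal.span (Set.range f) ∧ z - ∑ l, ν l * u l ∈ K * Ideal.span (Set.range g))
    (hind : ∀ r : Fin e → A, ∑ l, r l * u l ∈ K * Ideal.span (Set.range f) →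
      ∑ l, r l * u l ∈ K * Ideal.span (Set.range g) → ∀ l, r l ∈ K) :
    ∃ (e' : ℕ) (S : Setup A K a b c e e'), S.f = f ∧ S.g = g ∧ S.β g = u := by
  obtain ⟨e', N, hN⟩ := exists_equiv (Fin.append f g) x hx (hK ▸ hK') (by rw [span_append, hs, hK])
  obtain ⟨γ, hγ⟩ := exists_mulVec u f hu₁
  obtain ⟨β, hβ⟩ := exists_mulVec u g hu₂
  have hfK : Ideal.span (Set.range f) ≤ K := hs ▸ le_sup_left
  have hgK : Ideal.span (Set.range g) ≤ K := hs ▸ le_sup_right
  let δ : (Fin (a + b) → A) →ₗ[A] (Fin e → A) := β.mulVecLin ∘ₗ prR A a b - γ.mulVecLin ∘ₗ prL A a b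
  have hδ : ∀ v, δ v = β.mulVecLin (prR A a b v) - γ.mulVecLin (prL A a b v) := fun v => rfl
  have hδL : ∀ y, δ (inL A a b y) = - γ.mulVecLin y := by
    intro y
    rw [hδ, inL_apply, prR_append, prL_append, map_zero, zero_sub]
  have hδR : ∀ y, δ (inR A a b y) = β.mulVecLin y := by
    intro y
    rw [hδ, inR_apply, prR_append, prL_append, map_zero, sub_zero]
  have hβ' : β.mulVecLin g = u := hβ
  have hγ' : γ.mulVecLin f = u := hγ
  have hδv : δ (Fin.append f g) = 0 := by
    rw [append_eq, map_add, hδL, hδR, hβ', hγ', neg_add_cancel]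
  -- the functionals
  let q : (Fin (a + b) → A) →ₗ[A] (Fin e' → A) := prR A c e' ∘ₗ N.symm.toLinearMap
  have hq : ∀ v, q v = prR A c e' (N.symm v) := fun v => rfl
  have hqv : q (Fin.append f g) = 0 := by
    rw [hq, ← hN, LinearEquiv.symm_apply_apply, prR_append]
  have hz : ∀ t, q (inL A a b f) t = - q (inR A a b g) t := by
    intro t
    have h1 := congrFun hqv t
    rw [append_eq, map_add, Pi.add_apply] at h1
    exact eq_neg_of_add_eq_zero_left h1
  have hzf : ∀ t, q (inL A a b f) t = ∑ j, q (inL A a b (Pi.basisFun A _ j)) t * f j := by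
    intro t
    exact linear_eq_sum (LinearMap.proj t ∘ₗ q ∘ₗ inL A a b) f
  have hzg : ∀ t, q (inR A a b g) t = ∑ j, q (inR A a b (Pi.basisFun A _ j)) t * g j := by
    intro t
    exact linear_eq_sum (LinearMap.proj t ∘ₗ q ∘ₗ inR A a b) g
  choose ν' hν₁ hν₂ using fun t => hspan (q (inL A a b f) t)
    (by
      rw [hzf]
      exact Ideal.sum_mem _ fun j _ => Ideal.mul_mem_left _ _ (Ideal.subset_span ⟨j, rfl⟩))
    (by
      rw [hz, hzg]
      exact Submodule.neg_mem _ (Ideal.sum_mem _ fun j _ => Ideal.mul_mem_left _ _ (Ideal.subset_span ⟨j, rfl⟩)))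
  let ν : (Fin e → A) →ₗ[A] (Fin e' → A) := (-(Matrix.of ν')).mulVecLin
  have hν : ∀ s t, ν s t = - ∑ l, ν' t l * s l := by
    intro s t
    change (-(Matrix.of ν')).mulVec s t = _
    rw [Matrix.neg_mulVec, Pi.neg_apply]
    rfl
  have huγ : ∀ l, u l = ∑ j, γ.mulVecLin (Pi.basisFun A _ j) l * f j := by
    intro l
    exact (congrFun hγ' l).symm.trans (linear_eq_sum (LinearMap.proj l ∘ₗ γ.mulVecLin) f)
  have huβ : ∀ l, u l = ∑ j, β.mulVecLin (Pi.basisFun A _ j) l * g j := by
    intro l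
    exact (congrFun hβ' l).symm.trans (linear_eq_sum (LinearMap.proj l ∘ₗ β.mulVecLin) g)
  have hL : ∀ j t, q (inL A a b (Pi.basisFun A _ j)) t - ν (δ (inL A a b (Pi.basisFun A _ j))) t ∈ K := by
    intro j t
    refine coeff_congr (K := K) f hf hfK (fun j => q (inL A a b (Pi.basisFun A _ j)) t -
      ν (δ (inL A a b (Pi.basisFun A _ j))) t) ?_ j
    have h1 := hν₁ t
    have h2 : ∑ j, (q (inL A a b (Pi.basisFun A _ j)) t - ν (δ (inL A a b (Pi.basisFun A _ j))) t) * f j =
        q (inL A a b f) t - ∑ l, ν' t l * u l := by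
      simp only [sub_mul, Finset.sum_sub_distrib]
      rw [← hzf]
      congr 1
      simp only [hδL, hν, Pi.neg_apply, mul_neg, Finset.sum_neg_distrib, neg_neg]
      simp only [Finset.sum_mul]
      rw [Finset.sum_comm]
      refine Finset.sum_congr rfl fun l _ => ?_
      conv_rhs => rw [huγ l, Finset.mul_sum]
      exact Finset.sum_congr rfl fun j _ => by rw [mul_assoc]
    rw [h2]
    exact h1
  have hR : ∀ j t, q (inR A a b (Pi.basisFun A _ j)) t - ν (δ (inR A a b (Pi.basisFun A _ j))) t ∈ K := by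
    intro j t
    refine coeff_congr (K := K) g hg hgK (fun j => q (inR A a b (Pi.basisFun A _ j)) t -
      ν (δ (inR A a b (Pi.basisFun A _ j))) t) ?_ j
    have h1 := hν₂ t
    rw [hz, ← neg_add', neg_mem_iff] at h1
    have h2 : ∑ j, (q (inR A a b (Pi.basisFun A _ j)) t - ν (δ (inR A a b (Pi.basisFun A _ j))) t) * g j =
        q (inR A a b g) t + ∑ l, ν' t l * u l := by
      simp only [sub_mul, Finset.sum_sub_distrib]
      rw [← hzg, sub_eq_add_neg]
      congr 1
      simp only [hδR, hν, neg_mul, Finset.sum_neg_distrib, neg_neg]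
      simp only [Finset.sum_mul]
      rw [Finset.sum_comm]
      refine Finset.sum_congr rfl fun l _ => ?_
      conv_rhs => rw [huβ l, Finset.mul_sum]
      exact Finset.sum_congr rfl fun j _ => by rw [mul_assoc]
    rw [h2]
    exact h1
  have hq' : ∀ v t, q v t - ν (δ v) t ∈ K := by
    intro v t
    have h1 := linear_eq_sum (LinearMap.proj t ∘ₗ (q - ν ∘ₗ δ)) v
    have h2 : q v t - ν (δ v) t = (LinearMap.proj t ∘ₗ (q - ν ∘ₗ δ)) v := rfl
    rw [h2, h1]
    refine Ideal.sum_mem _ fun j _ => Ideal.mul_mem_right _ _ ?_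
    have h3 : ∀ y, (LinearMap.proj t ∘ₗ (q - ν ∘ₗ δ)) y = q y t - ν (δ y) t := fun _ => rfl
    rw [h3]
    induction j using Fin.addCases with
    | left j =>
      have h4 : Pi.basisFun A (Fin (a + b)) (Fin.castAdd b j) = inL A a b (Pi.basisFun A _ j) := by
        funext k
        induction k using Fin.addCases with
        | left k =>
          rw [inL_apply, Fin.append_left]
          simp [Pi.single_apply]
        | right k =>
          rw [inL_apply, Fin.append_right, Pi.basisFun_apply, Pi.single_apply, if_neg, Pi.zero_apply]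
          exact fun h => absurd (congrArg Fin.val h) (by simp; omega)
      rw [h4]
      exact hL j t
    | right j =>
      have h4 : Pi.basisFun A (Fin (a + b)) (Fin.natAdd a j) = inR A a b (Pi.basisFun A _ j) := by
        funext k
        induction k using Fin.addCases with
        | left k =>
          rw [inR_apply, Fin.append_left, Pi.basisFun_apply, Pi.single_apply, if_neg, Pi.zero_apply]
          exact fun h => absurd (congrArg Fin.val h) (by simp; omega)
        | right k =>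
          rw [inR_apply, Fin.append_right]
          simp [Pi.single_apply]
      rw [h4]
      exact hR j t
  -- first blocks
  have hx0 : ∀ w k, δ (N (inL A c e' w)) k ∈ K := by
    intro w k
    rw [hK]
    have h0 := linear_eq_sum (LinearMap.proj k ∘ₗ δ ∘ₗ N.toLinearMap ∘ₗ inL A c e') w
    have h0' : δ (N (inL A c e' w)) k = (LinearMap.proj k ∘ₗ δ ∘ₗ N.toLinearMap ∘ₗ inL A c e') w := rfl
    rw [h0', h0]
    refine Ideal.sum_mem _ fun j _ => Ideal.mul_mem_right _ _ ?_
    refine coeff_mem_of_regular x hx (fun j => (LinearMap.proj k ∘ₗ δ ∘ₗ N.toLinearMap ∘ₗ inL A c e')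
      (Pi.basisFun A _ j)) ?_ j
    rw [← linear_eq_sum]
    have h2 : (LinearMap.proj k ∘ₗ δ ∘ₗ N.toLinearMap ∘ₗ inL A c e') x = δ (N (Fin.append x 0)) k := rfl
    rw [h2, hN, hδv]
    rfl
  have hkey : ∀ v k, δ (N (inR A c e' (ν (δ v)))) k - δ v k ∈ K := by
    intro v k
    have h1 : v = N (inL A c e' (prL A c e' (N.symm v))) + N (inR A c e' (q v)) := by
      rw [← map_add, ← append_eq]
      have h2 : Fin.append (prL A c e' (N.symm v)) (q v) = N.symm v := by
        rw [hq]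
        funext k
        induction k using Fin.addCases with
        | left k => simp [prL, LinearMap.funLeft_apply]
        | right k => simp [prR, LinearMap.funLeft_apply]
      rw [h2, LinearEquiv.apply_symm_apply]
    have h3 : δ v k = δ (N (inL A c e' (prL A c e' (N.symm v)))) k + δ (N (inR A c e' (q v))) k := by
      conv_lhs => rw [h1, map_add]
      rfl
    have h4 := linear_mem_sub K (δ ∘ₗ N.toLinearMap ∘ₗ inR A c e') (q v) (ν (δ v)) (hq' v) k
    have h5 : (δ ∘ₗ N.toLinearMap ∘ₗ inR A c e') (q v) k = δ (N (inR A c e' (q v))) k := rfl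
    have h6 : (δ ∘ₗ N.toLinearMap ∘ₗ inR A c e') (ν (δ v)) k = δ (N (inR A c e' (ν (δ v)))) k := rfl
    rw [h5, h6] at h4
    have h7 := K.add_mem h4 (hx0 (prL A c e' (N.symm v)) k)
    rw [← neg_mem_iff]
    have h8 : -(δ (N (inR A c e' (ν (δ v)))) k - δ v k) = δ (N (inR A c e' (q v))) k -
        δ (N (inR A c e' (ν (δ v)))) k + δ (N (inL A c e' (prL A c e' (N.symm v)))) k := by
      rw [h3]
      ring
    rw [h8]
    exact h7
  have h₂ : ∀ (t : Fin e → A) j, δ (N (inR A c e' (ν t))) j - t j ∈ K := by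
    intro t k
    have h0 := linear_eq_sum (LinearMap.proj k ∘ₗ (δ ∘ₗ N.toLinearMap ∘ₗ inR A c e' ∘ₗ ν - LinearMap.id)) t
    have h0' : δ (N (inR A c e' (ν t))) k - t k =
      (LinearMap.proj k ∘ₗ (δ ∘ₗ N.toLinearMap ∘ₗ inR A c e' ∘ₗ ν - LinearMap.id)) t := rfl
    rw [h0', h0]
    refine Ideal.sum_mem _ fun l _ => Ideal.mul_mem_right _ _ ?_
    refine hind (fun l => (LinearMap.proj k ∘ₗ (δ ∘ₗ N.toLinearMap ∘ₗ inR A c e' ∘ₗ ν - LinearMap.id))
      (Pi.basisFun A _ l)) ?_ ?_ l
    · rw [← linear_eq_sum, ← hγ', ← LinearMap.comp_apply, linear_eq_sum]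
      refine Ideal.sum_mem _ fun j _ => Ideal.mul_mem_mul ?_ (Ideal.subset_span ⟨j, rfl⟩)
      have h1 := hkey (inL A a b (Pi.basisFun A _ j)) k
      rw [hδL, map_neg, map_neg, map_neg, map_neg] at h1
      simp only [Pi.neg_apply] at h1
      rw [← neg_mem_iff]
      have h2 : -(((LinearMap.proj k ∘ₗ (δ ∘ₗ N.toLinearMap ∘ₗ inR A c e' ∘ₗ ν - LinearMap.id)) ∘ₗ γ.mulVecLin)
        (Pi.basisFun A _ j)) = -(δ (N (inR A c e' (ν (γ.mulVecLin (Pi.basisFun A _ j))))) k -
          γ.mulVecLin (Pi.basisFun A _ j) k) := rfl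
      rw [h2, neg_sub', sub_neg_eq_add]
      rw [sub_neg_eq_add] at h1
      exact h1
    · rw [← linear_eq_sum, ← hβ', ← LinearMap.comp_apply, linear_eq_sum]
      refine Ideal.sum_mem _ fun j _ => Ideal.mul_mem_mul ?_ (Ideal.subset_span ⟨j, rfl⟩)
      have h1 := hkey (inR A a b (Pi.basisFun A _ j)) k
      rw [hδR] at h1
      exact h1
  refine ⟨e', ⟨f, g, x, hf, hx, fun j => hfK (Ideal.subset_span ⟨j, rfl⟩), fun j => hgK (Ideal.subset_span ⟨j, rfl⟩),
    by rw [ofList_ofFn, hK], N, hN, β.mulVecLin, γ.mulVecLin, hβ'.trans hγ'.symm, ν, ?_, h₂⟩, rfl, rfl, hβ'⟩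
  intro t j
  have h1 := hq' (N (inR A c e' t)) j
  have h2 : q (N (inR A c e' t)) = t := by
    rw [hq, LinearEquiv.symm_apply_apply, inR_apply, prR_append]
  rw [h2, ← neg_mem_iff, neg_sub] at h1
  exact h1

/-- The set-up when `K = ⊤` and `I = ⊤`. -/
theorem exists_setup_top {A : Type u} [CommRing A] {b : ℕ} (g : Fin b → A) :
    ∃ S : Setup A ⊤ 1 b 1 0 b, S.f = (fun _ => 1) ∧ S.g = g := by
  have h1 : ∀ (M : Type u) [AddCommGroup M] [Module A M],
      RingTheory.Sequence.IsWeaklyRegular M (List.ofFn (fun _ : Fin 1 => (1 : A))) := by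
    intro M _ _
    rw [List.ofFn_succ, List.ofFn_zero, RingTheory.Sequence.isWeaklyRegular_cons_iff]
    refine ⟨?_, RingTheory.Sequence.IsWeaklyRegular.nil _ _⟩
    intro a b h
    simpa using h
  let Φ : (Fin (1 + b) → A) →ₗ[A] (Fin (1 + b) → A) :=
    LinearMap.id + inR A 1 b ∘ₗ LinearMap.toSpanSingleton A (Fin b → A) g ∘ₗ LinearMap.proj 0 ∘ₗ prL A 1 b
  let Ψ : (Fin (1 + b) → A) →ₗ[A] (Fin (1 + b) → A) :=
    LinearMap.id - inR A 1 b ∘ₗ LinearMap.toSpanSingleton A (Fin b → A) g ∘ₗ LinearMap.proj 0 ∘ₗ prL A 1 b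
  have hΦ : ∀ y y', Φ (Fin.append y y') = Fin.append y (y' + y 0 • g) := by
    intro y y'
    have : Φ (Fin.append y y') = Fin.append y y' + inR A 1 b ((prL A 1 b (Fin.append y y')) 0 • g) := rfl
    rw [this, prL_append, append_eq, append_eq, map_add, add_assoc]
  have hΨ : ∀ y y', Ψ (Fin.append y y') = Fin.append y (y' - y 0 • g) := by
    intro y y'
    have : Ψ (Fin.append y y') = Fin.append y y' - inR A 1 b ((prL A 1 b (Fin.append y y')) 0 • g) := rfl
    rw [this, prL_append, append_eq, append_eq, map_sub, add_sub_assoc]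
  have e1 : Φ ∘ₗ Ψ = LinearMap.id := by
    apply LinearMap.ext
    intro y
    obtain ⟨y, y', rfl⟩ : ∃ y₁ y₂, y = Fin.append y₁ y₂ := ⟨_, _, (Fin.append_castAdd_natAdd).symm⟩
    rw [LinearMap.comp_apply, hΨ, hΦ, sub_add_cancel]
    rfl
  have e2 : Ψ ∘ₗ Φ = LinearMap.id := by
    apply LinearMap.ext
    intro y
    obtain ⟨y, y', rfl⟩ : ∃ y₁ y₂, y = Fin.append y₁ y₂ := ⟨_, _, (Fin.append_castAdd_natAdd).symm⟩
    rw [LinearMap.comp_apply, hΦ, hΨ, add_sub_cancel_right]
    rfl
  refine ⟨⟨fun _ => 1, g, fun _ => 1, h1 A, h1 A, fun _ => trivial, fun _ => trivial, ?_,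
    LinearEquiv.ofLinearMap Φ Ψ e1 e2, ?_, 0, 0, rfl, 0, fun _ _ => trivial, fun _ _ => trivial⟩, rfl, rfl⟩
  · rw [ofList_ofFn]
    intro z _
    have h2 : (1 : A) ∈ Ideal.span (Set.range (fun _ : Fin 1 => (1 : A))) := Ideal.subset_span ⟨0, rfl⟩
    rw [(Ideal.eq_top_iff_one _).mpr h2]
    trivial
  · change Φ (Fin.append (fun _ => 1) 0) = _
    rw [hΦ, zero_add, one_smul]

end K560.KosTwo
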