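import Groth.Agent.Sga67.KosZig

/-!
# Koszul homology with respect to a sequence whose beginning is regular

* `exists_curryLeft_eq_of_restrict`: a cycle whose restriction to the last coordinates has values in `(v_1, …, v_c) E`
  is a boundary, if `v_1, …, v_c` is weakly regular on `E`;
* `exists_cycle`: lifting of cycles on the last coordinates.
-/

set_option autoImplicit false

universe u v w

namespace K560.KosTwo

open Groth.Agent.Sga67.KosAlt
open scoped Pointwise

section Basic

variable {A : Type u} [CommRing A] {E : Type v} [AddCommGroup E] [Module A E]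

theorem mkQ_eq_zero {a : A} (e : E) (he : (Submodule.mkQ (a • (⊤ : Submodule A E))) e = 0) :
    ∃ e', a • e' = e := by
  have : e ∈ a • (⊤ : Submodule A E) := (Submodule.Quotient.mk_eq_zero _).mp he
  obtain ⟨e', -, h⟩ := (Submodule.mem_smul_pointwise_iff_exists _ _ _).mp this
  exact ⟨e', h⟩

theorem mkQ_smul (a : A) (e : E) : (Submodule.mkQ (a • (⊤ : Submodule A E))) (a • e) = 0 :=
  (Submodule.Quotient.mk_eq_zero _).mpr ((Submodule.mem_smul_pointwise_iff_exists _ _ _).mpr ⟨e, trivial, rfl⟩)

theorem mkQ_mem_iff (a : A) (l : List A) (x : E) :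
    (Submodule.mkQ (a • (⊤ : Submodule A E))) x ∈ Ideal.ofList l • (⊤ : Submodule A (QuotSMulTop a E)) ↔
      x ∈ Ideal.ofList (a :: l) • (⊤ : Submodule A E) := by
  have h1 : Ideal.ofList l • (⊤ : Submodule A (QuotSMulTop a E)) =
      (Ideal.ofList l • (⊤ : Submodule A E)).map (Submodule.mkQ (a • (⊤ : Submodule A E))) := by
    rw [Submodule.map_smul'', Submodule.map_top, Submodule.range_mkQ]
  rw [h1, ← Submodule.mem_comap, Submodule.comap_map_mkQ, Ideal.ofList_cons, Submodule.sup_smul]
  have h2 : Ideal.span {a} • (⊤ : Submodule A E) = a • (⊤ : Submodule A E) :=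
    Submodule.ideal_span_singleton_smul a ⊤
  rw [h2]

end Basic

/-- The tuple has vanishing first `c` coordinates. -/
def Vanish {A : Type u} [CommRing A] {n : ℕ} (c : ℕ) {k : ℕ} (y : Fin k → Fin n → A) : Prop :=
  ∀ i (j : Fin n), (j : ℕ) < c → y i j = 0

theorem vanish_incl {A : Type u} [CommRing A] {n c k : ℕ} {y : Fin k → Fin n → A} (hy : Vanish c y) :
    Vanish (c + 1) (fun i => incl A n (y i)) := by
  intro i j hj
  induction j using Fin.cases with
  | zero => rfl
  | succ j =>
    change y i j = 0
    exact hy i j (by simpa using hj)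

theorem exists_incl {A : Type u} [CommRing A] {n c k : ℕ} {y : Fin k → Fin (n + 1) → A} (hy : Vanish (c + 1) y) :
    ∃ y' : Fin k → Fin n → A, Vanish c y' ∧ y = fun i => incl A n (y' i) := by
  refine ⟨fun i => proj A n (y i), ?_, ?_⟩
  · intro i j hj
    exact hy i j.succ (by simpa using hj)
  · funext i j
    induction j using Fin.cases with
    | zero => exact hy i 0 (by simp)
    | succ j => rfl

theorem curryLeft_sub {A : Type u} [CommRing A] {n k : ℕ} {E : Type v} [AddCommGroup E] [Module A E]
    (z z' : Alt A n (k + 1) E) (g : Fin n → A) : (z - z').curryLeft g = z.curryLeft g - z'.curryLeft g := by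
  ext v
  simp

/-- **A cycle whose restriction to the last coordinates is in `(v_1, …, v_c) E` is a boundary.** -/
theorem exists_curryLeft_eq_of_restrict {A : Type u} [CommRing A] (c : ℕ) :
    ∀ (n : ℕ) (v : Fin n → A) (E : Type v) [AddCommGroup E] [Module A E], c ≤ n →
      RingTheory.Sequence.IsWeaklyRegular E ((List.ofFn v).take c) →
      ∀ (k : ℕ) (z : Alt A n (k + 1) E), z.curryLeft v = 0 →
        (∀ y : Fin (k + 1) → Fin n → A, Vanish c y →
          z y ∈ Ideal.ofList ((List.ofFn v).take c) • (⊤ : Submodule A E)) →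
        ∃ w : Alt A n (k + 2) E, w.curryLeft v = z := by
  induction c with
  | zero =>
    intro n v E _ _ _ _ k z _ hz'
    refine ⟨0, ?_⟩
    ext y
    have h := hz' y (fun i j hj => absurd hj (Nat.not_lt_zero _))
    rw [List.take_zero, Ideal.ofList_nil, Submodule.bot_smul, Submodule.mem_bot] at h
    rw [h]
    rfl
  | succ c ih =>
    intro n v E _ _ hc hE k z hz hz'
    obtain ⟨n, rfl⟩ : ∃ n', n = n' + 1 := ⟨n - 1, by omega⟩
    obtain ⟨a, v, rfl⟩ : ∃ (a : A) (v' : Fin n → A), v = Fin.cons a v' :=
      ⟨v 0, fun j => v j.succ, (Fin.cons_self_tail v).symm⟩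
    have hl : (List.ofFn (Fin.cons a v : Fin (n + 1) → A)).take (c + 1) = a :: (List.ofFn v).take c := by
      rw [List.ofFn_succ, List.take_succ_cons]
      rfl
    rw [hl] at hE hz'
    rw [RingTheory.Sequence.isWeaklyRegular_cons_iff] at hE
    obtain ⟨ha, hE'⟩ := hE
    have hg : (Fin.cons a v : Fin (n + 1) → A) = a • e0 A n + incl A n v := consVec_eq a v
    rw [hg] at hz ⊢
    have hz1 : a • p2 z + (p1 z).curryLeft v = 0 := by
      rw [← p1_curryLeft, hz]
      rfl
    let π : E →ₗ[A] QuotSMulTop a E := Submodule.mkQ _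
    have h1 : (π.compAlternatingMap (p1 z)).curryLeft v = 0 := by
      rw [AlternatingMap.curryLeft_compAlternatingMap]
      have : (p1 z).curryLeft v = - (a • p2 z) := by
        rw [eq_neg_iff_add_eq_zero, add_comm]; exact hz1
      rw [this]
      ext y
      rw [LinearMap.compAlternatingMap_apply, AlternatingMap.neg_apply, AlternatingMap.smul_apply, map_neg]
      have := mkQ_smul a ((p2 z) y)
      rw [show π (a • (p2 z) y) = 0 from this, neg_zero]
      rfl
    obtain ⟨ubar, hubar⟩ := ih n v _ (by omega) hE' k _ h1 (fun y hy => by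
      have h := hz' (fun i => incl A n (y i)) (vanish_incl hy)
      exact (mkQ_mem_iff a _ _).mpr h)
    obtain ⟨u, hu⟩ := exists_comp_eq_of_surjective π (Submodule.mkQ_surjective _) ubar
    have h2 : π.compAlternatingMap (p1 z - u.curryLeft v) = 0 := by
      have : π.compAlternatingMap (p1 z - u.curryLeft v) =
          π.compAlternatingMap (p1 z) - (π.compAlternatingMap u).curryLeft v := by
        ext y
        rw [AlternatingMap.curryLeft_compAlternatingMap]
        simp
      rw [this, hu, hubar, sub_self]
    obtain ⟨y, hy⟩ := exists_comp_eq_of_exact (LinearMap.lsmul A E a) π (fun e he => by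
      obtain ⟨e', h⟩ := mkQ_eq_zero e he
      exact ⟨e', h⟩) _ h2
    have hy' : a • y = p1 z - u.curryLeft v := by
      rw [← hy]
      rfl
    have h3 : p2 z = - y.curryLeft v := by
      have h4 : a • (p2 z + y.curryLeft v) = 0 := by
        have h5 : (a • y).curryLeft v = (p1 z).curryLeft v := by
          rw [hy', curryLeft_sub, AlternatingMap.curryLeft_same, sub_zero]
        rw [smul_add]
        have h7 : a • y.curryLeft v = (a • y).curryLeft v := rfl
        rw [h7, h5]
        exact hz1
      have h8 : p2 z + y.curryLeft v = 0 := by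
        ext t
        have h9 : a • ((p2 z + y.curryLeft v) t) = a • 0 := by
          rw [smul_zero]
          exact congr($h4 t)
        exact ha h9
      rw [eq_neg_iff_add_eq_zero]
      exact h8
    obtain ⟨w, hw1, hw2⟩ := exists_p1_p2 u y
    refine ⟨w, ?_⟩
    rw [← sub_eq_zero]
    apply eq_zero_of_p1_p2
    · have : p1 (w.curryLeft (a • e0 A n + incl A n v) - z) =
          p1 (w.curryLeft (a • e0 A n + incl A n v)) - p1 z := rfl
      rw [this, p1_curryLeft, hw1, hw2, hy']
      abel
    · have : p2 (w.curryLeft (a • e0 A n + incl A n v) - z) =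
          p2 (w.curryLeft (a • e0 A n + incl A n v)) - p2 z := rfl
      rw [this, p2_curryLeft, hw2, h3, sub_self]

/-- **Lifting of cycles on the last coordinates.** -/
theorem exists_cycle {A : Type u} [CommRing A] (c : ℕ) :
    ∀ (n : ℕ) (v : Fin n → A) (E : Type v) [AddCommGroup E] [Module A E], c ≤ n →
      RingTheory.Sequence.IsWeaklyRegular E ((List.ofFn v).take c) →
      ∀ (k : ℕ) (z₀ : Alt A n (k + 1) E),
        (∀ y : Fin k → Fin n → A, Vanish c y →
          (z₀.curryLeft v) y ∈ Ideal.ofList ((List.ofFn v).take c) • (⊤ : Submodule A E)) →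
        ∃ z : Alt A n (k + 1) E, z.curryLeft v = 0 ∧ ∀ y : Fin (k + 1) → Fin n → A, Vanish c y →
          z y - z₀ y ∈ Ideal.ofList ((List.ofFn v).take c) • (⊤ : Submodule A E) := by
  induction c with
  | zero =>
    intro n v E _ _ _ _ k z₀ hz
    refine ⟨z₀, ?_, fun y _ => by rw [sub_self]; exact Submodule.zero_mem _⟩
    ext y
    have h := hz y (fun i j hj => absurd hj (Nat.not_lt_zero _))
    rw [List.take_zero, Ideal.ofList_nil, Submodule.bot_smul, Submodule.mem_bot] at h
    rw [h]
    rfl
  | succ c ih =>
    intro n v E _ _ hc hE k z₀ hz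
    obtain ⟨n, rfl⟩ : ∃ n', n = n' + 1 := ⟨n - 1, by omega⟩
    obtain ⟨a, v, rfl⟩ : ∃ (a : A) (v' : Fin n → A), v = Fin.cons a v' :=
      ⟨v 0, fun j => v j.succ, (Fin.cons_self_tail v).symm⟩
    have hl : (List.ofFn (Fin.cons a v : Fin (n + 1) → A)).take (c + 1) = a :: (List.ofFn v).take c := by
      rw [List.ofFn_succ, List.take_succ_cons]
      rfl
    rw [hl] at hE hz
    rw [RingTheory.Sequence.isWeaklyRegular_cons_iff] at hE
    obtain ⟨ha, hE'⟩ := hE
    have hg : (Fin.cons a v : Fin (n + 1) → A) = a • e0 A n + incl A n v := consVec_eq a v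
    rw [hl, hg]
    rw [hg] at hz
    let π : E →ₗ[A] QuotSMulTop a E := Submodule.mkQ _
    obtain ⟨z', hz'1, hz'2⟩ := ih n v _ (by omega) hE' k (π.compAlternatingMap (p1 z₀)) (fun y hy => by
      have h := hz (fun i => incl A n (y i)) (vanish_incl hy)
      have h' : (p1 (z₀.curryLeft (a • e0 A n + incl A n v))) y ∈
        Ideal.ofList (a :: (List.ofFn v).take c) • (⊤ : Submodule A E) := h
      rw [← mkQ_mem_iff] at h'
      have h3 : p1 (z₀.curryLeft (a • e0 A n + incl A n v)) = a • p2 z₀ + (p1 z₀).curryLeft v :=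
        p1_curryLeft _ _ _
      rw [h3] at h'
      rw [AlternatingMap.curryLeft_compAlternatingMap, LinearMap.compAlternatingMap_apply]
      rw [AlternatingMap.add_apply, AlternatingMap.smul_apply, map_add, mkQ_smul, zero_add] at h'
      exact h')
    obtain ⟨u, hu⟩ := exists_comp_eq_of_surjective π (Submodule.mkQ_surjective _) z'
    have h2 : π.compAlternatingMap (u.curryLeft v) = 0 := by
      rw [← AlternatingMap.curryLeft_compAlternatingMap, hu, hz'1]
    obtain ⟨y, hy⟩ := exists_comp_eq_of_exact (LinearMap.lsmul A E a) π (fun e he => by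
      obtain ⟨e', h⟩ := mkQ_eq_zero e he
      exact ⟨e', h⟩) _ h2
    have hy' : a • y = u.curryLeft v := by
      rw [← hy]
      rfl
    obtain ⟨w, hw1, hw2⟩ := exists_p1_p2 u (-y)
    refine ⟨w, ?_, ?_⟩
    · have hp1 : p1 (w.curryLeft (a • e0 A n + incl A n v)) = 0 := by
        rw [p1_curryLeft, hw1, hw2, smul_neg, hy', neg_add_cancel]
      cases k with
      | zero =>
        ext t
        have h5 : t = fun i => incl A n ((fun i => Fin.elim0 i) i) := funext fun i => Fin.elim0 i
        rw [h5]
        exact congr($hp1 (fun i => Fin.elim0 i))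
      | succ k =>
        apply eq_zero_of_p1_p2 hp1
        rw [p2_curryLeft, hw2]
        have h8 : y.curryLeft v = 0 := by
          ext t
          have h9 : a • ((y.curryLeft v) t) = a • 0 := by
            rw [smul_zero]
            have h10 : (a • y).curryLeft v = 0 := by
              rw [hy', AlternatingMap.curryLeft_same]
            exact congr($h10 t)
          exact ha h9
        have h9 : (-y).curryLeft v = - y.curryLeft v := by
          ext t
          simp
        rw [h9, h8, neg_zero, neg_zero]
    · intro t ht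
      obtain ⟨t', ht', rfl⟩ := exists_incl ht
      rw [← mkQ_mem_iff]
      have h5 := hz'2 t' ht'
      rw [← hu] at h5
      rw [LinearMap.compAlternatingMap_apply, LinearMap.compAlternatingMap_apply, ← map_sub, ← hw1] at h5
      exact h5

end K560.KosTwo
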