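import Groth.Agent.RegImm.K560.KosTwo

/-!
# Koszul homology of two regular sequences and relations

`Setup`: sequences `f`, `g`, `x` with `(f, g) = N (x, 0)` and a map `δ = (β, -γ)` killing `(f, g)`.
-/

set_option autoImplicit false

universe u v w

namespace K560.KosTwo

open Groth.Agent.Sga67.KosAlt

section Maps

variable (A : Type u) [CommRing A] (a b : ℕ)

/-- `y ↦ (0, y)` -/
def inR : (Fin b → A) →ₗ[A] (Fin (a + b) → A) where
  toFun y := Fin.append 0 y
  map_add' y y' := by
    funext j
    induction j using Fin.addCases <;> simp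
  map_smul' r y := by
    funext j
    induction j using Fin.addCases <;> simp

/-- `y ↦ (y, 0)` -/
def inL : (Fin a → A) →ₗ[A] (Fin (a + b) → A) where
  toFun y := Fin.append y 0
  map_add' y y' := by
    funext j
    induction j using Fin.addCases <;> simp
  map_smul' r y := by
    funext j
    induction j using Fin.addCases <;> simp

/-- the last coordinates -/
def prR : (Fin (a + b) → A) →ₗ[A] (Fin b → A) := LinearMap.funLeft A A (Fin.natAdd a)

/-- the first coordinates -/
def prL : (Fin (a + b) → A) →ₗ[A] (Fin a → A) := LinearMap.funLeft A A (Fin.castAdd b)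

variable {A a b}

theorem inR_apply (y : Fin b → A) : inR A a b y = Fin.append 0 y := rfl
theorem inL_apply (y : Fin a → A) : inL A a b y = Fin.append y 0 := rfl

theorem prR_append (y : Fin a → A) (y' : Fin b → A) : prR A a b (Fin.append y y') = y' := by
  funext j
  simp [prR, LinearMap.funLeft_apply]

theorem prL_append (y : Fin a → A) (y' : Fin b → A) : prL A a b (Fin.append y y') = y := by
  funext j
  simp [prL, LinearMap.funLeft_apply]

theorem append_eq (y : Fin a → A) (y' : Fin b → A) : Fin.append y y' = inL A a b y + inR A a b y' := by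
  funext j
  induction j using Fin.addCases <;> simp [inL_apply, inR_apply]

theorem vanish_inR {k : ℕ} (y : Fin k → Fin b → A) : Vanish a (fun i => inR A a b (y i)) := by
  intro i j hj
  induction j using Fin.addCases with
  | left j => simp [inR_apply]
  | right j => simp at hj

theorem eq_inR {k : ℕ} {y : Fin k → Fin (a + b) → A} (hy : Vanish a y) (i : Fin k) :
    y i = inR A a b (prR A a b (y i)) := by
  funext j
  induction j using Fin.addCases with
  | left j => rw [hy i _ (by simp)]; simp [inR_apply]
  | right j => simp [inR_apply, prR, LinearMap.funLeft_apply]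

omit [CommRing A] in
theorem ofFn_append_take (f : Fin a → A) (g : Fin b → A) :
    (List.ofFn (Fin.append f g)).take a = List.ofFn f := by
  rw [List.ofFn_fin_append, List.take_append_of_le_length (by simp), List.take_of_length_le (by simp)]

end Maps

section Mod

variable {A : Type u} [CommRing A] (K : Ideal A) {n k : ℕ}

theorem alt_congr_mod (z : Alt A n k A) (t t' : Fin k → Fin n → A) (h : ∀ i j, t i j - t' i j ∈ K) :
    z t - z t' ∈ K := by
  have h1 := bc_apply (A' := A ⧸ K) (Ideal.Quotient.mk K) ((Ideal.Quotient.mk K : A →+* A ⧸ K) : A →+ A ⧸ K)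
    (fun a e => (Ideal.Quotient.mk K).map_mul a e) z
  have h2 : (fun i j => Ideal.Quotient.mk K (t i j)) = (fun i j => Ideal.Quotient.mk K (t' i j)) := by
    funext i j
    exact (Ideal.Quotient.mk_eq_mk_iff_sub_mem _ _).mpr (h i j)
  have h3 := h1 t
  rw [h2, h1 t'] at h3
  rw [← neg_sub]
  exact K.neg_mem ((Ideal.Quotient.mk_eq_mk_iff_sub_mem _ _).mp h3)

theorem curryLeft_mem (z : Alt A n (k + 1) A) (v : Fin n → A) (hv : ∀ j, v j ∈ K) (t : Fin k → Fin n → A) :
    (z.curryLeft v) t ∈ K := by
  rw [curryLeft_eq_sum]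
  have : ∀ (s : Finset (Fin n)), (∑ j ∈ s, v j • z.curryLeft (Pi.basisFun A (Fin n) j)) t ∈ K := by
    intro s
    classical
    induction s using Finset.induction_on with
    | empty => simp
    | insert j s hj ih =>
      rw [Finset.sum_insert hj, AlternatingMap.add_apply]
      exact K.add_mem (Ideal.mul_mem_right _ _ (hv j)) ih
  exact this _

theorem curryLeft_eq_zero_of_kills {F : Type v} [AddCommGroup F] [Module A F] (z : Alt A n (k + 1) F)
    (v : Fin n → A) (hv : ∀ j (y : F), v j • y = 0) : z.curryLeft v = 0 := curryLeft_eq_zero z v hv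

end Mod

/-- The algebraic set-up. -/
structure Setup (A : Type u) [CommRing A] (K : Ideal A) (a b c e e' : ℕ) where
  /-- generators of the first ideal -/
  f : Fin a → A
  /-- generators of the second ideal -/
  g : Fin b → A
  /-- generators of the sum -/
  x : Fin c → A
  hf : RingTheory.Sequence.IsWeaklyRegular A (List.ofFn f)
  hx : RingTheory.Sequence.IsWeaklyRegular A (List.ofFn x)
  fK : ∀ j, f j ∈ K
  gK : ∀ j, g j ∈ K
  Kx : K ≤ Ideal.ofList (List.ofFn x)
  /-- the isomorphism -/
  N : (Fin (c + e') → A) ≃ₗ[A] (Fin (a + b) → A)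
  hN : N (Fin.append x 0) = Fin.append f g
  /-- coefficients -/
  β : (Fin b → A) →ₗ[A] (Fin e → A)
  /-- coefficients -/
  γ : (Fin a → A) →ₗ[A] (Fin e → A)
  hβγ : β g = γ f
  /-- the comparison -/
  ν : (Fin e → A) →ₗ[A] (Fin e' → A)
  h₁ : ∀ (t : Fin e' → A) j, ν (β (prR A a b (N (inR A c e' t))) - γ (prL A a b (N (inR A c e' t)))) j - t j ∈ K
  h₂ : ∀ (t : Fin e → A) j, (β (prR A a b (N (inR A c e' (ν t)))) - γ (prL A a b (N (inR A c e' (ν t))))) j - t j ∈ K

namespace Setup

variable {A : Type u} [CommRing A] {K : Ideal A} {a b c e e' : ℕ} (S : Setup A K a b c e e')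
  {F : Type u} [AddCommGroup F] [Module A F] (π : A →ₗ[A] F) (hπ : Function.Surjective π)
  (hk : ∀ r, π r = 0 ↔ r ∈ Ideal.ofList (List.ofFn S.f))

/-- The relation. -/
def δ : (Fin (a + b) → A) →ₗ[A] (Fin e → A) := S.β ∘ₗ prR A a b - S.γ ∘ₗ prL A a b

theorem δ_apply (t : Fin (a + b) → A) : S.δ t = S.β (prR A a b t) - S.γ (prL A a b t) := rfl

theorem δ_append : S.δ (Fin.append S.f S.g) = 0 := by
  rw [δ_apply, prR_append, prL_append, S.hβγ, sub_self]

theorem δ_inR (t : Fin b → A) : S.δ (inR A a b t) = S.β t := by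
  rw [δ_apply, inR_apply, prR_append, prL_append, map_zero, sub_zero]

theorem append_mem (j : Fin (a + b)) : Fin.append S.f S.g j ∈ K := by
  induction j using Fin.addCases with
  | left j => simpa using S.fK j
  | right j => simpa using S.gK j

include hπ hk in
theorem kills (j : Fin a) (y : F) : S.f j • y = 0 := by
  obtain ⟨r, rfl⟩ := hπ y
  rw [← map_smul, hk]
  refine Ideal.mul_mem_right _ _ (Ideal.subset_span ?_)
  exact List.mem_ofFn.mpr ⟨j, rfl⟩

theorem smul_top_self (I : Ideal A) : I • (⊤ : Submodule A A) = I := by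
  rw [smul_eq_mul, Ideal.mul_top]

include hπ hk in
/-- injectivity -/
theorem mem_of_boundary (k : ℕ) (ω : Alt A e (k + 1) F) (w : Alt A b (k + 2) F)
    (hw : w.curryLeft S.g = ω.compLinearMap S.β) (t : Fin (k + 1) → Fin e → A) :
    ω t ∈ K • (⊤ : Submodule A F) := by
  obtain ⟨ω', hω'⟩ := exists_comp_eq_of_surjective π hπ ω
  obtain ⟨w', hw'⟩ := exists_comp_eq_of_surjective π hπ w
  let v : Fin (a + b) → A := Fin.append S.f S.g
  let Ω : Alt A (a + b) (k + 1) A := ω'.compLinearMap S.δ - (w'.compLinearMap (prR A a b)).curryLeft v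
  have hΩ : Ω.curryLeft v = 0 := by
    rw [curryLeft_sub, AlternatingMap.curryLeft_compLinearMap, AlternatingMap.curryLeft_same, sub_zero]
    have : S.δ v = 0 := S.δ_append
    rw [this, map_zero]
    rfl
  have hΩ' : ∀ y : Fin (k + 1) → Fin (a + b) → A, Vanish a y →
      Ω y ∈ Ideal.ofList ((List.ofFn v).take a) • (⊤ : Submodule A A) := by
    intro y hy
    rw [smul_top_self, ofFn_append_take, ← hk]
    have h1 : Ω y = ω' (fun i => S.δ (y i)) - w' (fun i => prR A a b (Matrix.vecCons v y i)) := rfl
    rw [h1, map_sub, sub_eq_zero]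
    have h2 : (fun i => S.δ (y i)) = fun i => S.β (prR A a b (y i)) := by
      funext i
      conv_lhs => rw [eq_inR hy i, S.δ_inR]
    have h3 : (fun i => prR A a b (Matrix.vecCons v y i)) =
        Matrix.vecCons S.g (fun i => prR A a b (y i)) := by
      funext i
      induction i using Fin.cases with
      | zero => exact prR_append _ _
      | succ i => rfl
    rw [h2, h3]
    have h4 := congr($hw (fun i => prR A a b (y i)))
    rw [← hω', ← hw'] at h4
    exact h4.symm
  obtain ⟨W, hW⟩ := exists_curryLeft_eq_of_restrict a (a + b) v A (by omega)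
    (by rw [ofFn_append_take]; exact S.hf) k Ω hΩ hΩ'
  have h5 : ω'.compLinearMap S.δ = (W + w'.compLinearMap (prR A a b)).curryLeft v := by
    rw [AlternatingMap.curryLeft_add, LinearMap.add_apply, hW]
    exact (sub_add_cancel _ _).symm
  have h6 : ω' (fun i => S.δ (S.N (inR A c e' (S.ν (t i))))) ∈ K := by
    have h7 : ω' (fun i => S.δ (S.N (inR A c e' (S.ν (t i))))) =
      (ω'.compLinearMap S.δ) (fun i => S.N (inR A c e' (S.ν (t i)))) := rfl
    rw [h7, h5]
    exact curryLeft_mem K _ _ S.append_mem _
  have h7 : ω' t ∈ K := by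
    have h8 := alt_congr_mod K ω' (fun i => S.δ (S.N (inR A c e' (S.ν (t i))))) t (fun i j => S.h₂ (t i) j)
    have h9 := K.sub_mem h6 h8
    rwa [sub_sub_cancel] at h9
  rw [← hω', LinearMap.compAlternatingMap_apply]
  have h10 : ω' t = ω' t • (1 : A) := by simp
  rw [h10, map_smul]
  exact Submodule.smul_mem_smul h7 trivial

include hπ hk in
/-- surjectivity -/
theorem exists_of_cycle (k : ℕ) (ω : Alt A b (k + 1) F) (hω : ω.curryLeft S.g = 0) :
    ∃ (ω' : Alt A e (k + 1) F) (w : Alt A b (k + 2) F), ω = ω'.compLinearMap S.β + w.curryLeft S.g := by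
  obtain ⟨ω₀, hω₀⟩ := exists_comp_eq_of_surjective π hπ ω
  let v : Fin (a + b) → A := Fin.append S.f S.g
  obtain ⟨Ω, hΩ, hΩ'⟩ := exists_cycle a (a + b) v A (by omega)
    (by rw [ofFn_append_take]; exact S.hf) k (ω₀.compLinearMap (prR A a b)) (fun y hy => by
      rw [smul_top_self, ofFn_append_take, ← hk]
      have h3 : (fun i => prR A a b (Matrix.vecCons v y i)) =
        Matrix.vecCons S.g (fun i => prR A a b (y i)) := by
        funext i
        induction i using Fin.cases with
        | zero => exact prR_append _ _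
        | succ i => rfl
      have h1 : ((ω₀.compLinearMap (prR A a b)).curryLeft v) y =
        ω₀ (fun i => prR A a b (Matrix.vecCons v y i)) := rfl
      rw [h1, h3]
      have h4 := congr($hω (fun i => prR A a b (y i)))
      rw [← hω₀] at h4
      exact h4)
  let T : (Fin e → A) →ₗ[A] (Fin (a + b) → A) := S.N.toLinearMap ∘ₗ inR A c e' ∘ₗ S.ν
  let ω₁ : Alt A e (k + 1) A := Ω.compLinearMap T
  have hΩ₁ : ((Ω - ω₁.compLinearMap S.δ).compLinearMap S.N.toLinearMap).curryLeft (Fin.append S.x 0) = 0 := by
    rw [AlternatingMap.curryLeft_compLinearMap]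
    have h1 : S.N.toLinearMap (Fin.append S.x 0) = v := S.hN
    have h2 : (Ω - ω₁.compLinearMap S.δ).curryLeft v = 0 := by
      rw [curryLeft_sub, hΩ, AlternatingMap.curryLeft_compLinearMap]
      have : S.δ v = 0 := S.δ_append
      rw [this, map_zero]
      ext
      simp
    rw [h1, h2]
    rfl
  have hΩ₂ : ∀ y : Fin (k + 1) → Fin (c + e') → A, Vanish c y →
      ((Ω - ω₁.compLinearMap S.δ).compLinearMap S.N.toLinearMap) y ∈
        Ideal.ofList ((List.ofFn (Fin.append S.x (0 : Fin e' → A))).take c) • (⊤ : Submodule A A) := by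
    intro y hy
    rw [smul_top_self, ofFn_append_take]
    apply S.Kx
    have h1 : ((Ω - ω₁.compLinearMap S.δ).compLinearMap S.N.toLinearMap) y =
      (Ω.compLinearMap S.N.toLinearMap) y -
        (Ω.compLinearMap S.N.toLinearMap) (fun i => inR A c e' (S.ν (S.δ (S.N (y i))))) := rfl
    rw [h1]
    apply alt_congr_mod
    intro i j
    obtain ⟨t, ht⟩ : ∃ t, y i = inR A c e' t := ⟨_, eq_inR hy i⟩
    rw [ht]
    induction j using Fin.addCases with
    | left j => simp [inR_apply]
    | right j =>
      have h2 := S.h₁ t j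
      have h3 : inR A c e' t (Fin.natAdd c j) = t j := by rw [inR_apply, Fin.append_right]
      have h4 : inR A c e' (S.ν (S.δ (S.N (inR A c e' t)))) (Fin.natAdd c j) =
          S.ν (S.δ (S.N (inR A c e' t))) j := by rw [inR_apply, Fin.append_right]
      rw [h3, h4, ← neg_sub]
      exact K.neg_mem h2
  obtain ⟨W, hW⟩ := exists_curryLeft_eq_of_restrict c (c + e') (Fin.append S.x 0) A (by omega)
    (by rw [ofFn_append_take]; exact S.hx) k _ hΩ₁ hΩ₂
  let W' : Alt A (a + b) (k + 2) A := W.compLinearMap S.N.symm.toLinearMap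
  have hW' : W'.curryLeft v = Ω - ω₁.compLinearMap S.δ := by
    rw [AlternatingMap.curryLeft_compLinearMap]
    have h1 : S.N.symm.toLinearMap v = Fin.append S.x 0 := by
      have h2 : S.N.symm (Fin.append S.f S.g) = Fin.append S.x 0 := by
        rw [← S.hN, LinearEquiv.symm_apply_apply]
      exact h2
    rw [h1, hW]
    ext y
    have h2 : ∀ y : Fin (k + 1) → Fin (a + b) → A,
        (fun i => S.N.toLinearMap (S.N.symm.toLinearMap (y i))) = y := by
      intro y
      funext i
      exact S.N.apply_symm_apply (y i)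
    have h3 : (((Ω - ω₁.compLinearMap S.δ).compLinearMap S.N.toLinearMap).compLinearMap S.N.symm.toLinearMap) y =
      (Ω - ω₁.compLinearMap S.δ) (fun i => S.N.toLinearMap (S.N.symm.toLinearMap (y i))) := rfl
    rw [h3, h2]
  refine ⟨π.compAlternatingMap ω₁, (π.compAlternatingMap W').compLinearMap (inR A a b), ?_⟩
  ext y
  have h1 := hΩ' (fun i => inR A a b (y i)) (vanish_inR y)
  rw [smul_top_self, ofFn_append_take, ← hk, map_sub, sub_eq_zero] at h1
  have h2 : (ω₀.compLinearMap (prR A a b)) (fun i => inR A a b (y i)) = ω₀ y := by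
    have : (ω₀.compLinearMap (prR A a b)) (fun i => inR A a b (y i)) =
      ω₀ (fun i => prR A a b (inR A a b (y i))) := rfl
    rw [this]
    congr 1
    funext i
    exact prR_append _ _
  rw [h2] at h1
  have h3 : ω y = π (Ω (fun i => inR A a b (y i))) := by
    rw [h1, ← hω₀]
    rfl
  have h4 : Ω = ω₁.compLinearMap S.δ + W'.curryLeft v := by
    rw [hW', add_sub_cancel]
  rw [h3, h4, AlternatingMap.add_apply, map_add, AlternatingMap.add_apply]
  have h5 : (ω₁.compLinearMap S.δ) (fun i => inR A a b (y i)) = ω₁ (fun i => S.β (y i)) := by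
    have : (ω₁.compLinearMap S.δ) (fun i => inR A a b (y i)) = ω₁ (fun i => S.δ (inR A a b (y i))) := rfl
    rw [this]
    congr 1
    funext i
    exact S.δ_inR _
  rw [h5]
  congr 1
  have h6 : π ((W'.curryLeft v) (fun i => inR A a b (y i))) =
    ((π.compAlternatingMap W').curryLeft v) (fun i => inR A a b (y i)) := rfl
  have h7 : (π.compAlternatingMap W').curryLeft (inL A a b S.f) = 0 := by
    apply curryLeft_eq_zero
    intro j t
    rw [inL_apply]
    induction j using Fin.addCases with
    | left j => rw [Fin.append_left]; exact S.kills π hπ hk j t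
    | right j => simp
  have h8 : (π.compAlternatingMap W').curryLeft v = (π.compAlternatingMap W').curryLeft (inR A a b S.g) := by
    have : v = inL A a b S.f + inR A a b S.g := append_eq _ _
    rw [this, map_add, h7, zero_add]
  rw [h6, h8]
  have h9 : (fun i => inR A a b (Matrix.vecCons S.g y i)) = Matrix.vecCons (inR A a b S.g) (fun i => inR A a b (y i)) := by
    funext i
    induction i using Fin.cases with
    | zero => rfl
    | succ i => rfl
  have h10 : (((π.compAlternatingMap W').compLinearMap (inR A a b)).curryLeft S.g) y =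
    (π.compAlternatingMap W') (fun i => inR A a b (Matrix.vecCons S.g y i)) := rfl
  rw [h10, h9]
  rfl

end Setup

end K560.KosTwo
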