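import Groth.Agent.RegImm.K560.KosTwo2
import Groth.Agent.Sga67.KosImm
import Mathlib.RingTheory.LocalRing.Module

/-!
# Generators of an ideal generated by a regular sequence in a local ring
-/

set_option autoImplicit false

universe u v w

namespace K560.KosTwo

open Groth.Agent.Sga67.KosAlt Groth.Agent.Sga67.KosImm

theorem coeff_mem_of_regular {A : Type u} [CommRing A] {c : ℕ} (x : Fin c → A)
    (hx : RingTheory.Sequence.IsWeaklyRegular A (List.ofFn x)) (r : Fin c → A) (h : ∑ j, r j * x j = 0)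
    (j : Fin c) : r j ∈ Ideal.span (Set.range x) := by
  classical
  let L : (Fin c → A) →ₗ[A] A := (Pi.basisFun A (Fin c)).constr A r
  let z : Alt A c 1 A := AlternatingMap.ofSubsingleton A _ _ (0 : Fin 1) L
  have hz : ∀ v, z v = L (v 0) := fun v => rfl
  have hL : ∀ v, L v = ∑ j, v j * r j := by
    intro v
    simp only [L, Module.Basis.constr_apply_fintype, Pi.basisFun_equivFun, LinearEquiv.refl_apply, smul_eq_mul]
  have hz0 : z.curryLeft x = 0 := by
    ext v
    rw [AlternatingMap.curryLeft_apply_apply, hz]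
    change L x = 0
    rw [hL, ← h]
    exact Finset.sum_congr rfl fun j _ => mul_comm _ _
  obtain ⟨w, hw⟩ := Chart.exists_curryLeft_eq' x A hx 0 z hz0
  have h1 : r j = w.curryLeft x (fun _ => Pi.basisFun _ _ j) := by
    rw [hw, hz, hL, Finset.sum_eq_single j]
    · simp
    · intro l _ hl
      simp [hl]
    · simp
  rw [h1]
  exact curryLeft_mem (Ideal.span (Set.range x)) w x
    (fun l => Ideal.subset_span (Set.mem_range_self l)) (fun _ => Pi.basisFun _ _ j)

theorem isUnit_of_sub_one_mem {A : Type u} [CommRing A] [IsLocalRing A] {K : Ideal A} (hK : K ≠ ⊤) {c : ℕ}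
    (M : Matrix (Fin c) (Fin c) A) (h : ∀ i j, (M - 1) i j ∈ K) : IsUnit M := by
  rw [Matrix.isUnit_iff_isUnit_det]
  have h1 : K ≤ IsLocalRing.maximalIdeal A := IsLocalRing.le_maximalIdeal hK
  have h2 : IsLocalRing.residue A M.det = 1 := by
    rw [RingHom.map_det]
    have : (IsLocalRing.residue A).mapMatrix M = 1 := by
      ext i j
      have h3 : IsLocalRing.residue A ((M - 1) i j) = 0 :=
        (IsLocalRing.residue_eq_zero_iff _).mpr (h1 (h i j))
      rw [Matrix.sub_apply, map_sub, sub_eq_zero] at h3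
      rw [RingHom.mapMatrix_apply, Matrix.map_apply, h3, Matrix.one_apply, Matrix.one_apply]
      split_ifs <;> simp
    rw [this, Matrix.det_one]
  by_contra hcon
  have h3 := (IsLocalRing.residue_eq_zero_iff _).mpr ((IsLocalRing.mem_maximalIdeal _).mpr hcon)
  rw [h3] at h2
  exact zero_ne_one h2

theorem exists_mulVec {A : Type u} [CommRing A] {m c : ℕ} (v : Fin m → A) (x : Fin c → A)
    (h : ∀ j, v j ∈ Ideal.span (Set.range x)) : ∃ Q : Matrix (Fin m) (Fin c) A, Q.mulVec x = v := by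
  choose q hq using fun j => (Submodule.mem_span_range_iff_exists_fun A).mp (h j)
  refine ⟨Matrix.of q, funext fun j => ?_⟩
  exact hq j

/-- Any generators of an ideal generated by a regular sequence `x` of a local ring are, up to a linear change,
`x` and zeros. -/
theorem exists_equiv {A : Type u} [CommRing A] [IsLocalRing A] {m c : ℕ} (v : Fin m → A) (x : Fin c → A)
    (hx : RingTheory.Sequence.IsWeaklyRegular A (List.ofFn x)) (hK : Ideal.span (Set.range x) ≠ ⊤)
    (h : Ideal.span (Set.range v) = Ideal.span (Set.range x)) :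
    ∃ (e' : ℕ) (N : (Fin (c + e') → A) ≃ₗ[A] (Fin m → A)), N (Fin.append x 0) = v := by
  obtain ⟨Q, hQ⟩ := exists_mulVec v x (fun j => h ▸ Ideal.subset_span ⟨j, rfl⟩)
  obtain ⟨P, hP⟩ := exists_mulVec x v (fun j => h ▸ Ideal.subset_span ⟨j, rfl⟩)
  have h1 : IsUnit (P * Q) := by
    refine isUnit_of_sub_one_mem hK _ fun i j => ?_
    refine coeff_mem_of_regular x hx (fun j => (P * Q - 1 : Matrix (Fin c) (Fin c) A) i j) ?_ j
    have h2 : (P * Q - 1).mulVec x = 0 := by
      rw [Matrix.sub_mulVec, ← Matrix.mulVec_mulVec, hQ, hP, Matrix.one_mulVec, sub_self]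
    exact congrFun h2 i
  obtain ⟨M, hM1, hM2⟩ : ∃ M, (P * Q) * M = 1 ∧ M * (P * Q) = 1 :=
    ⟨(P * Q)⁻¹, Matrix.mul_nonsing_inv _ ((Matrix.isUnit_iff_isUnit_det _).mp h1),
      Matrix.nonsing_inv_mul _ ((Matrix.isUnit_iff_isUnit_det _).mp h1)⟩
  let P' : (Fin m → A) →ₗ[A] (Fin c → A) := (M * P).mulVecLin
  let Q' : (Fin c → A) →ₗ[A] (Fin m → A) := Q.mulVecLin
  have hPQ : ∀ y, P' (Q' y) = y := by
    intro y
    change (M * P).mulVec (Q.mulVec y) = y
    rw [Matrix.mulVec_mulVec, Matrix.mul_assoc, hM2, Matrix.one_mulVec]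
  let s : (Fin m → A) →ₗ[A] LinearMap.ker P' :=
    LinearMap.codRestrict _ (LinearMap.id - Q' ∘ₗ P') (fun y => by
      rw [LinearMap.mem_ker, LinearMap.sub_apply, map_sub, LinearMap.comp_apply, hPQ]
      simp)
  have hs : ∀ y, (s y : Fin m → A) = y - Q' (P' y) := fun y => rfl
  have hsι : s ∘ₗ (LinearMap.ker P').subtype = LinearMap.id := by
    ext y : 2
    change (s (y : Fin m → A) : Fin m → A) = y
    have h2 : P' (y : Fin m → A) = 0 := y.2
    rw [hs, h2, map_zero, sub_zero]
  have : Module.Projective A (LinearMap.ker P') := Module.Projective.of_split _ s hsι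
  have : Module.Finite A (LinearMap.ker P') := Module.Finite.of_surjective s (fun y =>
    ⟨y, congr($hsι y)⟩)
  have : Module.Free A (LinearMap.ker P') := Module.free_of_flat_of_isLocalRing
  let bas := Module.finBasis A (LinearMap.ker P')
  let e' := Module.finrank A (LinearMap.ker P')
  let Φ : (Fin (c + e') → A) →ₗ[A] (Fin m → A) :=
    Q' ∘ₗ prL A c e' + (LinearMap.ker P').subtype ∘ₗ bas.equivFun.symm.toLinearMap ∘ₗ prR A c e'
  let Ψ : (Fin m → A) →ₗ[A] (Fin (c + e') → A) :=
    inL A c e' ∘ₗ P' + inR A c e' ∘ₗ bas.equivFun.toLinearMap ∘ₗ s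
  have hΦ : ∀ y y', Φ (Fin.append y y') = Q' y + (bas.equivFun.symm y' : Fin m → A) := by
    intro y y'
    change Q' (prL A c e' (Fin.append y y')) + (bas.equivFun.symm (prR A c e' (Fin.append y y')) : Fin m → A) = _
    rw [prL_append, prR_append]
  have hΨ : ∀ y, Ψ y = Fin.append (P' y) (bas.equivFun (s y)) := by
    intro y
    rw [append_eq]
    rfl
  have h1 : Φ ∘ₗ Ψ = LinearMap.id := by
    apply LinearMap.ext
    intro y
    rw [LinearMap.comp_apply, hΨ, hΦ, LinearEquiv.symm_apply_apply, hs]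
    simp
  have hk : ∀ t : LinearMap.ker P', P' (t : Fin m → A) = 0 := fun t => t.2
  have h2 : Ψ ∘ₗ Φ = LinearMap.id := by
    apply LinearMap.ext
    intro y
    obtain ⟨y, y', rfl⟩ : ∃ y₁ y₂, y = Fin.append y₁ y₂ := ⟨_, _, (Fin.append_castAdd_natAdd).symm⟩
    rw [LinearMap.comp_apply, hΦ, hΨ, map_add, hPQ, hk, add_zero]
    have h3 : s (Q' y + (bas.equivFun.symm y' : Fin m → A)) = bas.equivFun.symm y' := by
      apply Subtype.ext
      rw [hs, map_add, hPQ, hk, add_zero, add_sub_cancel_left]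
    rw [h3, LinearEquiv.apply_symm_apply]
    rfl
  refine ⟨e', LinearEquiv.ofLinearMap Φ Ψ h1 h2, ?_⟩
  change Φ (Fin.append x 0) = v
  rw [hΦ, map_zero]
  change Q.mulVec x + 0 = v
  rw [hQ, add_zero]

end K560.KosTwo
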