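import Groth.Agent.RegImm.K560.SymSmooth
import Groth.Agent.S1109
import Groth.Agent.Sga67.QCohEpi

/-!
# Projective morphisms over a regular base embed in smooth projective bundles

`exists_emb`: a projective morphism over a Noetherian scheme with the resolution property is a closed immersion into a
smooth projective scheme over the base followed by the projection.
-/

set_option autoImplicit false
universe u
open CategoryTheory CategoryTheory.Limits AlgebraicGeometry TopologicalSpace Opposite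
open scoped HomogeneousIdeal

noncomputable section
namespace K560.ProjEmb
open K43.CanMap RelProj K43.Piece K35.RelProjExists K35.RelProjMap K35.ProjBundle

variable {Y : Scheme.{u}}

/-- `Sym(V) → 𝒮` is surjective in positive degrees when `V → 𝒮_1` is surjective over the affine opens. -/
theorem posSurj {𝒮 : QCGrAlg Y} (hgen : 𝒮.IsGenDegOne) {V : Y.Modules} (q : V ⟶ piece 𝒮 1)
    (hq : ∀ (U : Y.Opens), IsAffineOpen U → Function.Surjective (q.app U)) {𝒯 : QCGrAlg Y} {j : V ⟶ 𝒯.toModule}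
    (hj : IsGrSymAlg V 𝒯 j) (v : 𝒯.toQCAlg ⟶ 𝒮.toQCAlg) (hv : IsGradedHom v)
    (hjv : j ≫ RelSpec.QCAlg.Hom.toModuleMap v = q ≫ pieceι 𝒮 1) (U : Y.Opens) (hU : IsAffineOpen U) :
    K37.ProjRing.PosSurj (gradedHomAt v hv U hU) := by
  intro i hi b hb
  have h1 := K37.GenOne.mem_pow (𝒜 := 𝒮.deg U hU) (hgen U hU) hi hb
  have h2 : K37.GenOne.one (𝒮.deg U hU) ≤
      (K37.GenOne.one (𝒯.deg U hU)).map (RingHom.toIntAlgHom (v.hom.app (op U)).hom).toLinearMap := by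
    intro x hx
    obtain ⟨s, rfl⟩ := exists_pieceι 𝒮 1 hU (K37.GenOne.mem_one.mp hx)
    obtain ⟨t, rfl⟩ := hq U hU s
    refine ⟨jv j t, K37.GenOne.mem_one.mpr (hj.2 U hU t), ?_⟩
    change ((j ≫ RelSpec.QCAlg.Hom.toModuleMap v).app U) t = _
    rw [hjv]
    rfl
  have h3 := pow_le_pow_left' h2 i h1
  rw [← Submodule.map_pow] at h3
  obtain ⟨a, ha, rfl⟩ := h3
  exact ⟨a, K37.GenOne.pow_le i ha, rfl⟩

/-- The relative Proj of an algebra generated in degree one is a closed subscheme of the projective bundle of any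
module surjecting onto its degree-one part. -/
theorem exists_isClosedImmersion {𝒮 : QCGrAlg Y} (hgen : 𝒮.IsGenDegOne) {P₀ : Scheme.{u}} {p₀ : P₀ ⟶ Y}
    {chart₀ : ∀ (U : Y.Opens) (hU : IsAffineOpen U), (((p₀ ⁻¹ᵁ U : P₀.Opens) : Scheme.{u}) ≅ Proj (𝒮.deg U hU))}
    (hP₀ : IsRelProj 𝒮 p₀ chart₀) {V : Y.Modules} (hV : Coh.IsQCoh V) (q : V ⟶ piece 𝒮 1)
    (hq : ∀ (U : Y.Opens), IsAffineOpen U → Function.Surjective (q.app U)) {𝒯 : QCGrAlg Y} {j : V ⟶ 𝒯.toModule}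
    (hj : IsGrSymAlg V 𝒯 j) {P : Scheme.{u}} {p : P ⟶ Y}
    {chart : ∀ (U : Y.Opens) (hU : IsAffineOpen U), (((p ⁻¹ᵁ U : P.Opens) : Scheme.{u}) ≅ Proj (𝒯.deg U hU))}
    (hP : IsRelProj 𝒯 p chart) : ∃ i : P₀ ⟶ P, IsClosedImmersion i ∧ i ≫ p = p₀ := by
  obtain ⟨v, hjv, -⟩ := hj.1 𝒮.toQCAlg (q ≫ pieceι 𝒮 1)
  have hv : IsGradedHom v :=
    isGradedHom_of_degOne hV hj (k := q ≫ pieceι 𝒮 1) (fun U hU x => pieceι_mem 𝒮 1 hU (q.app U x)) v hjv
  have hpos := posSurj hgen q hq hj v hv hjv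
  obtain ⟨i, hi, -⟩ := K35.RelProjMap.existsUnique (φ := v) (hφ := hv)
    (hirr := fun U hU => K37.ProjRing.irrelevant_le_map (hpos U hU)) hP hP₀
  exact ⟨i, of_map hi hP hP₀ @IsClosedImmersion fun U hU => K37.ProjRing.isClosedImmersion_map _ (hpos U hU),
    map_p hi hP hP₀⟩

/-- A projective morphism to a Noetherian scheme with the resolution property is a closed immersion into a smooth
projective morphism. -/
theorem exists_emb [IsLocallyNoetherian Y] (hY : PerfAux.HasResolutionProperty Y) {X : Scheme.{u}} (f : X ⟶ Y)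
    (hf : IsProjective f) :
    ∃ (P : Scheme.{u}) (i : X ⟶ P) (p : P ⟶ Y), IsClosedImmersion i ∧ Smooth p ∧ IsProjective p ∧ i ≫ p = f := by
  obtain ⟨𝒮, P₀, p₀, chart₀, e, hgen, hft, hP₀, he⟩ := hf
  obtain ⟨V, q, hV, hq⟩ := hY (piece 𝒮 1) (isQCoh_piece 𝒮 1) (isFT_piece 𝒮 1 hft)
  have hVq : Coh.IsQCoh V := Groth.Agent.PerfA.QCohEpi.isQCoh_of_isFinLocFree hV
  have hVf : CohB1.IsFT V := K593.RankSch.isFT_of_isFinLocFree hVq hV
  obtain ⟨𝒯, j, hj⟩ := K43.GrSym.exists_grSym hVq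
  have hP := K35.RelProjExists.isRelProj 𝒯
  obtain ⟨i, hi, hip⟩ := exists_isClosedImmersion hgen hP₀ hVq q
    (fun U hU => Groth.Agent.Sga67.QCohEpi.app_surjective q hVq (isQCoh_piece 𝒮 1) hU) hj hP
  refine ⟨relProj 𝒯, e.hom ≫ i, relProjπ 𝒯, inferInstance, K560.SymSmooth.smooth hV hj hP,
    ⟨𝒯, relProj 𝒯, relProjπ 𝒯, chart 𝒯, Iso.refl _, isGenDegOne hVq hj, isFTDeg_one hVq hVf hj, hP,
      Category.id_comp _⟩, ?_⟩
  rw [Category.assoc, hip, he]

/-- The case of a regular Noetherian separated base. -/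
theorem exists_emb_regular [IsNoetherian Y] [Y.IsSeparated] (hY : ∀ y : Y, IsRegularLocalRing (Y.presheaf.stalk y))
    {X : Scheme.{u}} (f : X ⟶ Y) (hf : IsProjective f) :
    ∃ (P : Scheme.{u}) (i : X ⟶ P) (p : P ⟶ Y), IsClosedImmersion i ∧ Smooth p ∧ IsProjective p ∧ i ≫ p = f :=
  exists_emb (Groth.Agent.S1109.result Y hY fun _ _ hU hV => hU.inf hV) f hf

end K560.ProjEmb
end
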