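import Groth.Agent.RegImm.K560.ProjEmb
import Groth.Agent.S4991
import Groth.Agent.SDiv.K470.RegImmAt

/-!
# Quasi-projective morphisms over a regular base: factorization through a smooth quasi-projective scheme

`exists_fact`: an open immersion followed by a projective morphism, over a regular Noetherian separated base, is a
closed immersion followed by a smooth morphism of the same kind.
-/

set_option autoImplicit false
universe u
open CategoryTheory AlgebraicGeometry

namespace K560.QProjFact

variable {X S : Scheme.{u}}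

/-- A scheme smooth over a locally Noetherian regular scheme is regular. -/
theorem regular_of_smooth {P : Scheme.{u}} (p : P ⟶ S) [Smooth p] [IsLocallyNoetherian S]
    (hS : ∀ s : S, IsRegularLocalRing (S.presheaf.stalk s)) (x : P) : IsRegularLocalRing (P.presheaf.stalk x) :=
  (Groth.Agent.S4991.result p x ⟨⊤, trivial, inferInstance⟩).2 (hS _)

theorem exists_fact [IsNoetherian S] [S.IsSeparated] (hS : ∀ s : S, IsRegularLocalRing (S.presheaf.stalk s))
    {Z : Scheme.{u}} (v : X ⟶ Z) (q : Z ⟶ S) [IsOpenImmersion v] (hq : RelProj.IsProjective q) :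
    ∃ (W : Scheme.{u}) (i : X ⟶ W) (p : W ⟶ S), IsClosedImmersion i ∧ Smooth p ∧
      (∃ (P : Scheme.{u}) (v : W ⟶ P) (q : P ⟶ S), IsOpenImmersion v ∧ RelProj.IsProjective q ∧ v ≫ q = p) ∧
      i ≫ p = v ≫ q := by
  obtain ⟨P, i₀, p, hi₀, hp, hpp, hip⟩ := K560.ProjEmb.exists_emb_regular hS q hq
  refine ⟨(v ≫ i₀).coborderRange, (v ≫ i₀).liftCoborder, (v ≫ i₀).coborderRange.ι ≫ p, inferInstance, inferInstance,
    ⟨P, _, p, inferInstance, hpp, rfl⟩, ?_⟩
  rw [← Category.assoc, Scheme.Hom.liftCoborder_ι, Category.assoc, hip]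

end K560.QProjFact
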