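import Groth.Agent.Sga67.KosGlobal
import Groth.Agent.FormalB.SpanStalk
import Groth.Agent.PerfA.QCohEpi

/-!
# Regular sections: `i^* E ≅ i^* I_Y`
-/

set_option autoImplicit false
universe u
open CategoryTheory CategoryTheory.Limits AlgebraicGeometry Opposite TopologicalSpace

namespace K560.RegSec

open Groth.Agent Groth.Agent.Sga67 Groth.Agent.Sga67.Sec Groth.Agent.Sga67.KosStalk
  Groth.Agent.Sga67.KosImm Groth.Agent.Sga67.KosConormal Groth.Agent.Sga67.KosGlobal

variable {X Y : Scheme.{u}} {n : ℕ} {E : X.Modules} {i : Y ⟶ X}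
  (t : E ⟶ ClSub.idealMod i.ker)

/-- The functions attached to sections of `E`. -/
noncomputable def gF {U : X.Opens} (b : Fin n → SM E U) (k : Fin n) : Γ(X, U) := vl i.ker (ap t U (b k))

/-- the germs of a generating family generate -/
theorem exists_sum_gm (hE : Coh.IsQCoh E) (U : X.affineOpens) (b : Fin n → SM E U.1)
    (hb : Submodule.span Γ(X, U.1) (Set.range b) = ⊤) (x : X) (hx : x ∈ U.1) (e : StM E x) :
    ∃ a : Fin n → X.presheaf.stalk x, ∑ k, a k • gm E hx (b k) = e := by
  have h := FormalB.SpanStalk.span_germ_of_span U.2 hE (fun k => (b k : Γ(E, U.1))) hb x hx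
  have he : e ∈ Submodule.span (X.presheaf.stalk x) (Set.range fun k => gm E hx (b k)) := by
    change e ∈ (Submodule.span (X.presheaf.stalk x) (Set.range fun k => E.presheaf.germ U.1 x hx (b k)) :
      Submodule (X.presheaf.stalk x) (E.presheaf.stalk x))
    rw [h]
    trivial
  exact (Submodule.mem_span_range_iff_exists_fun _).mp he

theorem ideal_eq_span [Epi t] (hE : Coh.IsQCoh E) (U : X.affineOpens) (b : Fin n → SM E U.1)
    (hb : Submodule.span Γ(X, U.1) (Set.range b) = ⊤) :
    i.ker.ideal U = Ideal.span (Set.range (gF t b)) := by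
  apply le_antisymm
  · intro a ha
    obtain ⟨s, rfl⟩ := PerfA.IdealModule.exists_val_eq i.ker U ha
    obtain ⟨e', rfl⟩ := PerfA.QCohEpi.app_surjective_of_epi t U.2 s
    obtain ⟨e, rfl⟩ : ∃ e : SM E U.1, e = e' := ⟨e', rfl⟩
    have he : e ∈ Submodule.span Γ(X, U.1) (Set.range b) := by rw [hb]; trivial
    obtain ⟨a, rfl⟩ := (Submodule.mem_span_range_iff_exists_fun _).mp he
    have h1 : vl i.ker (ap t U.1 (∑ k, a k • b k)) = ∑ k, a k * gF t b k := by
      rw [map_sum, vl_sum]
      refine Finset.sum_congr rfl fun k _ => ?_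
      rw [map_smul, vl_smul]
      rfl
    have h2 : vl i.ker (ap t U.1 (∑ k, a k • b k)) ∈ Ideal.span (Set.range (gF t b)) := by
      rw [h1]
      exact Ideal.sum_mem _ fun k _ => Ideal.mul_mem_left _ _ (Ideal.subset_span ⟨k, rfl⟩)
    exact h2
  · rw [Ideal.span_le]
    rintro _ ⟨k, rfl⟩
    exact PerfA.IdealModule.val_mem i.ker U _

/-- The chart attached to a basis mapping to a weakly regular sequence. -/
noncomputable def chart [Epi t] (hE : Coh.IsQCoh E) (U : X.affineOpens) (b : Fin n → SM E U.1)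
    (hb : Submodule.span Γ(X, U.1) (Set.range b) = ⊤)
    (hreg : RingTheory.Sequence.IsWeaklyRegular Γ(X, U.1) (List.ofFn (gF t b))) : Chart i where
  U := U.1
  hU := U.2
  l := List.ofFn (gF t b)
  hl := hreg
  hker := by
    have h := ideal_eq_span t hE U b hb
    refine h.trans ?_
    rw [Chart.ofList_eq_span]
    congr 1
    ext a
    constructor
    · rintro ⟨k, rfl⟩
      exact ⟨Fin.cast (List.length_ofFn).symm k, by simp⟩
    · rintro ⟨k, rfl⟩
      exact ⟨Fin.cast List.length_ofFn k, by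
        rw [List.get_eq_getElem, List.getElem_ofFn]
        rfl⟩

variable [IsClosedImmersion i]

theorem stalk_injective [Epi t] (hE : Coh.IsQCoh E) (U : X.affineOpens) (b : Fin n → SM E U.1)
    (hb : Submodule.span Γ(X, U.1) (Set.range b) = ⊤)
    (hreg : RingTheory.Sequence.IsWeaklyRegular Γ(X, U.1) (List.ofFn (gF t b)))
    (y : Y) (hy : i y ∈ U.1) (u : StM ((Scheme.Modules.pullback i).obj E) y)
    (hu : stM ((Scheme.Modules.pullback i).map t) y u = 0) : u = 0 := by
  let c : Chart i := chart t hE U b hb hreg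
  have hyc : i y ∈ c.U := hy
  obtain ⟨e, rfl⟩ := cn_surjective i E y u
  rw [← cn_stM] at hu
  obtain ⟨d, hd⟩ := c.cn_eq_zero hyc (ClSub.idealMod i.ker) _ hu
  choose d' hd' using fun j => stM_surjective t (i y) (d j)
  have h0 : ∀ j, i.stalkMap y (gO X hyc (c.f j)) = 0 := by
    intro j
    rw [stalkMap_gO, c.app_f, map_zero]
  have h1 : stM t (i y) (e - ∑ j, gO X hyc (c.f j) • d' j) = 0 := by
    rw [map_sub, map_sum, hd, sub_eq_zero]
    refine Finset.sum_congr rfl fun j _ => ?_
    rw [map_smul, hd']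
  obtain ⟨a, ha⟩ := exists_sum_gm hE U b hb (i y) hy (e - ∑ j, gO X hyc (c.f j) • d' j)
  have h2 : ∑ k, a k * gO X hy (gF t b k) = 0 := by
    rw [← ha] at h1
    have h3 := congrArg (vx i.ker (i y)) h1
    rw [map_sum, map_sum, map_zero] at h3
    rw [← h3]
    refine Finset.sum_congr rfl fun k _ => ?_
    rw [map_smul, map_smul, stM_gm, vx_gm]
    rfl
  have hlen : c.l.length = n := List.length_ofFn
  have hcf : ∀ j, c.f j = gF t b (Fin.cast hlen j) := by
    intro j
    have h5 : ∀ j : Fin (List.ofFn (gF t b)).length, (List.ofFn (gF t b)).get j =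
        gF t b (Fin.cast List.length_ofFn j) := by
      intro j
      rw [List.get_eq_getElem, List.getElem_ofFn]
      rfl
    exact h5 j
  have h3 : ∀ k, i.stalkMap y (a k) = 0 := by
    intro k
    have h4 : ∑ j, a (Fin.cast hlen j) * gO X hyc (c.f j) = 0 := by
      rw [← h2]
      refine Fintype.sum_equiv (finCongr hlen) _ _ fun j => ?_
      rw [hcf]
      rfl
    have h5 := c.coeff_mem hyc (fun j => a (Fin.cast hlen j)) h4 (Fin.cast hlen.symm k)
    rw [← c.ker_stalkMap hyc] at h5
    exact h5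
  have h4 : e = ∑ k, a k • gm E hy (b k) + ∑ j, gO X hyc (c.f j) • d' j := by
    rw [ha, sub_add_cancel]
  rw [h4, map_add, map_sum, map_sum]
  rw [Finset.sum_eq_zero (fun k _ => by rw [cn_smul, h3, zero_smul]),
    Finset.sum_eq_zero (fun j _ => by rw [cn_smul, h0, zero_smul]), add_zero]

theorem isIso_pullback_map [Epi t] (hE : Coh.IsQCoh E)
    (hs : ∀ x : X, ∃ U : X.affineOpens, x ∈ U.1 ∧ ∃ b : Fin n → SM E U.1,
      Submodule.span Γ(X, U.1) (Set.range b) = ⊤ ∧
        RingTheory.Sequence.IsWeaklyRegular Γ(X, U.1) (List.ofFn (gF t b))) :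
    IsIso ((Scheme.Modules.pullback i).map t) := by
  have h1 : Mono ((Scheme.Modules.pullback i).map t) := by
    apply mono_of_locally_injective
    intro y V hy
    refine ⟨V, le_rfl, hy, fun σ hσ => eq_of_locally _ ?_⟩
    intro y hy
    obtain ⟨U, hU, b, hb, hreg⟩ := hs (i y)
    have h := stalk_injective t hE U b hb hreg y hU (gm _ hy (toSM σ)) (by
      rw [stM_gm]
      have : ap ((Scheme.Modules.pullback i).map t) V (toSM σ) = 0 := hσ
      rw [this, map_zero])
    obtain ⟨W, hW, hyW, e⟩ := gm_eq_zero _ hy _ h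
    refine ⟨W, hW, hyW, ?_⟩
    rw [map_zero]
    exact e
  exact isIso_of_mono_of_epi _

end K560.RegSec
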