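import Groth.Agent.EGA2.K35.PE
import Groth.Agent.EGA2.K35.Dehom
import Groth.Agent.EGA2.K35.RelProjFT
import Groth.Agent.EGA2.K35.ProjBundle
import Groth.Agent.CohqB.HomPost
import Groth.Agent.PerfA.QCohEpi
import Groth.Agent.Props.K593.RankSch
import Mathlib.RingTheory.RingHom.Smooth
import Mathlib.AlgebraicGeometry.Morphisms.Smooth

/-!
# Smoothness of the charts of `Proj` of the symmetric algebra of a projective module

`formallySmooth_away`: if `A` is generated over `R` by the image of `j : M → 𝒜 1` and has the universal property of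
the symmetric algebra of the projective module `M`, then `R → A_(j e)` is formally smooth.
-/

set_option autoImplicit false
universe u

open CategoryTheory CategoryTheory.Limits AlgebraicGeometry TopologicalSpace Opposite HomogeneousLocalization
open scoped HomogeneousIdeal

noncomputable section

namespace K560.SymSmooth

section ring

variable {R A σ M : Type u} [CommRing R] [CommRing A] [SetLike σ A] [AddSubgroupClass σ A] (𝒜 : ℕ → σ)
  [GradedRing 𝒜] (s : R →+* 𝒜 0) [AddCommGroup M] [Module R M]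

theorem formallySmooth_away [Module.Projective R M]
    (j : M →+ A) (hj1 : ∀ m, j m ∈ 𝒜 1) (hjs : ∀ (r : R) (m : M), j (r • m) = (s r : A) * j m)
    (hgen : Subring.closure (Set.range (fun r : R => ((s r : 𝒜 0) : A)) ∪ Set.range j) = ⊤)
    (huniv : ∀ (C : Type u) [CommRing C] (γ : R →+* C) (l : M →+ C), (∀ a t, l (a • t) = γ a * l t) →
      ∃ v : A →+* C, (∀ a, v (s a) = γ a) ∧ ∀ t, v (j t) = l t) (e : M) :
    ((fromZeroRingHom 𝒜 (.powers (j e))).comp s).FormallySmooth := by
  have ht : j e ∈ 𝒜 1 := hj1 e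
  let _ : Algebra R (Away 𝒜 (j e)) := ((fromZeroRingHom 𝒜 (.powers (j e))).comp s).toAlgebra
  have halg : ∀ r : R, algebraMap R (Away 𝒜 (j e)) r = fromZeroRingHom 𝒜 (.powers (j e)) (s r) := fun _ => rfl
  have hds : ∀ r : R, K35.Dehom.dehom 𝒜 ht (s r : A) = algebraMap R (Away 𝒜 (j e)) r := fun r =>
    K35.Dehom.dehom_zero ht (s r)
  change Algebra.FormallySmooth R (Away 𝒜 (j e))
  refine Algebra.FormallySmooth.of_comp_surjective fun B _ _ I hI f => ?_
  let g₀ : M →ₗ[R] B ⧸ I :=
    { toFun := fun m => f (K35.Dehom.dehom 𝒜 ht (j m))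
      map_add' := fun a b => by rw [map_add, map_add, map_add]
      map_smul' := fun r m => by
        rw [hjs, map_mul, map_mul, hds, AlgHom.commutes, Algebra.smul_def]
        rfl }
  have hg₀ : ∀ m, g₀ m = f (K35.Dehom.dehom 𝒜 ht (j m)) := fun _ => rfl
  obtain ⟨g₁, hg₁⟩ := Module.projective_lifting_property (Ideal.Quotient.mkₐ R I).toLinearMap g₀
    (Ideal.Quotient.mkₐ_surjective R I)
  have hg₁' : ∀ m, Ideal.Quotient.mk I (g₁ m) = g₀ m := fun m => LinearMap.congr_fun hg₁ m
  have he : Ideal.Quotient.mk I (g₁ e) = 1 := by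
    rw [hg₁', hg₀, K35.Dehom.dehom_self, map_one]
  have hsq : (1 - g₁ e) * (1 - g₁ e) = 0 := by
    have h1 : 1 - g₁ e ∈ I := by
      rw [← Ideal.Quotient.eq_zero_iff_mem, map_sub, he, map_one, sub_self]
    have h2 : (1 - g₁ e) * (1 - g₁ e) ∈ I ^ 2 := by
      rw [pow_two]
      exact Ideal.mul_mem_mul h1 h1
    rwa [hI, Ideal.mem_bot] at h2
  have hw : (2 - g₁ e) * g₁ e = 1 := by linear_combination -hsq
  have hmw : Ideal.Quotient.mk I (2 - g₁ e) = 1 := by
    rw [map_sub, he]
    have : (Ideal.Quotient.mk I) (2 : B) = 2 := map_ofNat _ 2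
    rw [this]
    norm_num
  let l : M →+ B := (AddMonoidHom.mulLeft (2 - g₁ e)).comp g₁.toAddMonoidHom
  have hl : ∀ m, l m = (2 - g₁ e) * g₁ m := fun _ => rfl
  obtain ⟨v, hv1, hv2⟩ := huniv B (algebraMap R B) l (by
    intro a t
    rw [hl, hl, map_smul, Algebra.smul_def]
    ring)
  have hv : v (j e) = 1 := by rw [hv2, hl, hw]
  obtain ⟨v', hv'1, hv'2⟩ := K35.PE.exists_extend_away (𝒜 := 𝒜) v hv
  refine ⟨{ v' with commutes' := fun r => ?_ }, ?_⟩
  · change v' (algebraMap R (Away 𝒜 (j e)) r) = _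
    rw [halg, hv'1, hv1]
  · apply AlgHom.ext
    intro z
    obtain ⟨a, rfl⟩ := K35.Dehom.dehom_surjective ht z
    change Ideal.Quotient.mk I (v' (K35.Dehom.dehom 𝒜 ht a)) = f (K35.Dehom.dehom 𝒜 ht a)
    have ha : a ∈ Subring.closure (Set.range (fun r : R => ((s r : 𝒜 0) : A)) ∪ Set.range j) := by
      rw [hgen]; trivial
    induction ha using Subring.closure_induction with
    | mem x hx =>
      rcases hx with ⟨r, rfl⟩ | ⟨m, rfl⟩
      · change Ideal.Quotient.mk I (v' (K35.Dehom.dehom 𝒜 ht (s r : A))) = f (K35.Dehom.dehom 𝒜 ht (s r : A))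
        rw [hds, AlgHom.commutes, halg, hv'1, hv1]
        rfl
      · rw [K35.Dehom.dehom_of_mem ht (hj1 m), hv'2 ht, hv2, hl, map_mul, hmw, one_mul, hg₁', hg₀,
          K35.Dehom.dehom_of_mem ht (hj1 m)]
    | zero => simp only [map_zero]
    | one => simp only [map_one]
    | add x y _ _ hx hy => simp only [map_add, hx, hy]
    | neg x _ hx => simp only [map_neg, hx]
    | mul x y _ _ hx hy => simp only [map_mul, hx, hy]

theorem localSource : IsZariskiLocalAtSource (@Smooth : MorphismProperty Scheme.{u}) :=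
  HasRingHomProperty.instIsZariskiLocalAtSource (Q := RingHom.Smooth)

theorem localTarget : IsZariskiLocalAtTarget (@Smooth : MorphismProperty Scheme.{u}) :=
  HasRingHomProperty.instIsZariskiLocalAtTarget (Q := RingHom.Smooth) _

theorem respectsIso : MorphismProperty.RespectsIso (@Smooth : MorphismProperty Scheme.{u}) :=
  localSource.{u}.toRespects

/-- `Proj A → Spec R` is smooth if the `D₊(t)`, `t` in a set of elements of degree one generating the irrelevant ideal,
have smooth rings. -/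
theorem smooth_toSpec {ι : Type u} (t : ι → A) (ht : ∀ i, t i ∈ 𝒜 1)
    (hspan : (HomogeneousIdeal.irrelevant 𝒜).toIdeal ≤ Ideal.span (Set.range t))
    (h : ∀ i, ((fromZeroRingHom 𝒜 (.powers (t i))).comp s).Smooth) :
    Smooth (Proj.toSpecZero 𝒜 ≫ Spec.map (CommRingCat.ofHom s)) := by
  have := localSource.{u}
  have := respectsIso.{u}
  have hcov := Proj.iSup_basicOpen_eq_top 𝒜 t hspan
  rw [IsZariskiLocalAtSource.iff_of_iSup_eq_top (P := @Smooth) _ hcov]
  intro i
  rw [← MorphismProperty.cancel_left_of_respectsIso (P := @Smooth)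
    (Proj.basicOpenIsoSpec 𝒜 (t i) (ht i) one_pos).inv, ← Category.assoc,
    ← Proj.awayι, Proj.awayι_toSpecZero_assoc, ← Spec.map_comp, HasRingHomProperty.Spec_iff (P := @Smooth)]
  exact h i

end ring

open K35.ProjBundle K35.RelProjBasic K35.RelProjExists K43.CanMap RelProj

variable {Y P : Scheme.{u}} {E : Y.Modules} {𝒯 : QCGrAlg Y} {j : E ⟶ 𝒯.toModule} {p : P ⟶ Y}
  {chart : ∀ (U : Y.Opens) (hU : IsAffineOpen U), (((p ⁻¹ᵁ U : P.Opens) : Scheme.{u}) ≅ Proj (𝒯.deg U hU))}

/-- The projective bundle of a finite locally free module over a locally Noetherian scheme is smooth. -/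
theorem smooth [IsLocallyNoetherian Y] (hE : FlatMod.IsFinLocFree E) (hj : IsGrSymAlg E 𝒯 j)
    (hP : IsRelProj 𝒯 p chart) : Smooth p := by
  have hEq : Coh.IsQCoh E := Groth.Agent.PerfA.QCohEpi.isQCoh_of_isFinLocFree hE
  have hEf : CohB1.IsFT E := K593.RankSch.isFT_of_isFinLocFree hEq hE
  have := localTarget.{u}
  refine of_charts hP @Smooth fun U hU => ?_
  have hgen := isGenDegOne hEq hj U hU
  have hR : IsNoetherianRing Γ(Y, U) := IsLocallyNoetherian.component_noetherian ⟨U, hU⟩
  obtain ⟨T, hT1, hT⟩ := isFTDeg_one hEq hEf hj U hU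
  refine smooth_toSpec (A := 𝒯.presheaf.obj (op U)) (𝒯.deg U hU) (𝒯.strZero U hU).hom
    (fun e : Γ(E, U) => (jv j e : 𝒯.presheaf.obj (op U))) (hj.2 U hU) ?_ fun e => ?_
  · refine (K35.Dehom.irrelevant_le_span hgen).trans (Ideal.span_mono fun x hx => ?_)
    obtain ⟨e, rfl⟩ := exists_jv_eq hj.2 hU (K35.PE.gen hEq hj U hU) hx
    exact ⟨e, rfl⟩
  · have hft := K35.Dehom.finiteType_away (A := 𝒯.presheaf.obj (op U)) (t := jv j e) (hj.2 U hU e) (𝒯.strZero U hU).hom hgen T hT
    rw [RingHom.smooth_def]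
    refine ⟨?_, RingHom.FinitePresentation.of_finiteType.1 hft⟩
    have := (Groth.Agent.CohqB.HomPost.projective_sections hE hU).2
    let j' : Γ(E, U) →+ 𝒯.presheaf.obj (op U) :=
      { toFun := fun e => jv j e
        map_zero' := map_zero (j.app U).hom
        map_add' := fun a b => jv_add j a b }
    exact formallySmooth_away (A := 𝒯.presheaf.obj (op U)) (𝒯.deg U hU) (𝒯.strZero U hU).hom
      (M := Γ(E, U)) j' (hj.2 U hU) (fun r m => jv_smul j r m) (K35.PE.gen hEq hj U hU)
      (fun C _ γ l hl => K35.PE.exists_ringHom hEq hj hU C γ l hl) e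

end K560.SymSmooth
end
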