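import Groth.Agent.Sga67.KosTheta2

/-!
# Sections of Tor sheaves of two closed subschemes from zigzags

`i : Y ⟶ X`, `j : Z ⟶ X`, `D` a flat resolution of `i_* M`, `T` the `p`-th homology of `j^* D`: for functions
`g_1, …, g_n` over `U` vanishing on `Y` and `Z` and an alternating form `ω` with values in `i_* M`, a section of `T`
over `j⁻¹ U`.
-/

set_option autoImplicit false

universe u v w

open CategoryTheory CategoryTheory.Limits AlgebraicGeometry Opposite TopologicalSpace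
open scoped TensorProduct
open Groth.Agent Groth.Agent.Sga67 Groth.Agent.Sga67.Sec Groth.Agent.Sga67.LocBasis Groth.Agent.Sga67.KosAlt
  Groth.Agent.Sga67.KosStalk Groth.Agent.Sga67.KosImm Groth.Agent.Sga67.KosTheta

namespace K560.ThetaTwo

variable {X Y Z : Scheme.{u}} {i : Y ⟶ X} {M : Y.Modules} (D : Dat i M) (j : Z ⟶ X)

/-- The pulled back complex. -/
noncomputable def KK (q : ℕ) : Z.Modules := (Scheme.Modules.pullback j).obj (D.P q)

/-- The differentials of the pulled back complex. -/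
noncomputable def dKK (q : ℕ) : KK D j (q + 1) ⟶ KK D j q := (Scheme.Modules.pullback j).map (D.d q)

variable {j}

/-- The beginning of a zigzag is a cycle. -/
theorem isCyc_et {p n : ℕ} {U : X.Opens} {g : Fin n → Γ(X, U)} (hg : ∀ l, j.app U (g l) = 0)
    {z : ∀ q k, Alt Γ(X, U) n k (SM (D.P q) U)} (hz : IsZig (fun q => ap (D.d q) U) g p z) :
    IsCyc (KK D j) (dKK D j) p (j ⁻¹ᵁ U) (et j (D.P p) U (ev0 (z p 0))) := by
  cases p with
  | zero => trivial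
  | succ q =>
    change ap (dKK D j q) _ _ = 0
    have h1 : ap (D.d q) U (ev0 (z (q + 1) 0)) = ev0 ((z q 1).curryLeft g) := by
      rw [← hz q 0 rfl]
      rfl
    refine (et_ap j (D.d q) _).symm.trans ?_
    rw [h1, ev0_curryLeft, map_sum]
    refine Finset.sum_eq_zero fun l _ => ?_
    rw [et_smul, hg, zero_smul]

variable {p : ℕ} {T : Z.Modules} (H : HD (KK D j) (dKK D j) p T)

/-- A zigzag with zero end has zero class. -/
theorem cl_eq_zero {n : ℕ} {U : X.Opens} {g : Fin n → Γ(X, U)} (hg : ∀ l, j.app U (g l) = 0)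
    {z : ∀ q k, Alt Γ(X, U) n k (SM (D.P q) U)} (hz : IsZig (fun q => ap (D.d q) U) g p z)
    (h0 : (ap D.ε U).compAlternatingMap (z 0 p) = 0) {τ : SM T (j ⁻¹ᵁ U)}
    (hτ : Cl H (et j (D.P p) U (ev0 (z p 0))) τ) : τ = 0 := by
  apply SM_ext
  intro y hy
  have hx : j y ∈ U := hy
  have hzx := isZig_gm hz hx
  have h0x : (stM D.ε (j y)).compAlternatingMap (bc (X.presheaf.stalk (j y)) (gm (D.P 0) hx) (z 0 p)) = 0 := by
    rw [bc_comp (gm (D.P 0) hx) (gm _ hx) (ap D.ε U) (stM D.ε (j y)) (fun e => stM_gm D.ε hx e), h0]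
    apply ext_coeff
    intro J
    rw [coeff_bc, coeff_zero, coeff_zero, map_zero]
  obtain ⟨a, b, hab⟩ := zig_boundary (g := fun l => gO X hx (g l)) (stM D.ε (j y)) (fun e he => stM_exact D.ex0 (j y) e he)
    (fun q e he => stM_exact (D.ex q) (j y) e he) hzx h0x p 0 (by omega)
  have h1 : gm (D.P p) hx (ev0 (z p 0)) = stM (D.d p) (j y) (ev0 a) + ev0 (b.curryLeft fun l => gO X hx (g l)) := by
    rw [← ev0_bc (A' := X.presheaf.stalk (j y)), hab]
    rfl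
  have h2 : gm (KK D j p) hy (et j (D.P p) U (ev0 (z p 0))) = stM (dKK D j p) y (cn j (D.P (p + 1)) y (ev0 a)) := by
    refine (cn_gm j (D.P p) y hx _).symm.trans ?_
    rw [h1, map_add, cn_stM, ev0_curryLeft, map_sum, Finset.sum_eq_zero, add_zero]
    · rfl
    · intro l _
      rw [cn_smul, stalkMap_gO, hg, map_zero, zero_smul]
  obtain ⟨V, hV, hyV, s, hs⟩ := exists_gm (KK D j (p + 1)) hy (cn j (D.P (p + 1)) y (ev0 a))
  rw [← hs, stM_gm] at h2
  have h2' := (gm_rs (KK D j p) hV hyV (et j (D.P p) U (ev0 (z p 0)))).trans h2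
  obtain ⟨V', hV', hyV', e⟩ := gm_eq _ hyV _ _ h2'
  refine ⟨V', hV'.trans hV, hyV', ?_⟩
  have h3 := (hτ.rs hV).rs hV'
  rw [e] at h3
  have h4 := h3.unique ((cl_boundary (H := H) s).rs hV')
  rw [rs_rs, map_zero] at h4
  rw [h4, map_zero]

/-- Local existence of zigzags with given end. -/
theorem exists_zig_end {n : ℕ} {U : X.Opens} {g : Fin n → Γ(X, U)} (hg : ∀ l, i.app U (g l) = 0)
    (ω : Alt Γ(X, U) n p (SM ((Scheme.Modules.pushforward i).obj M) U)) {x : X} (hy : x ∈ U) :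
    ∃ (W : X.Opens) (hW : W ≤ U), x ∈ W ∧ ∃ z : ∀ q k, Alt Γ(X, W) n k (SM (D.P q) W),
      IsZig (fun q => ap (D.d q) W) (fun l => resO X hW (g l)) p z ∧
      (ap D.ε W).compAlternatingMap (z 0 p) = bc Γ(X, W) (rs _ hW) ω := by
  have := D.epi
  obtain ⟨zx, hzx, hεx⟩ := exists_zig (E := fun q => StM (D.P q) x) (d := fun q => stM (D.d q) x) (g := fun l => gO X hy (g l))
    (stM D.ε x) (stM_surjective D.ε x)
    (fun e he => stM_exact D.ex0 x e he) (fun q e he => stM_exact (D.ex q) x e he)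
    (fun l t => smul_stalk_push hy (g l) (hg l) t) p (bc (X.presheaf.stalk x) (gm _ hy) ω)
  obtain ⟨W, hW, hyW, z, hz, hzzx⟩ := exists_zig_nhd hy g zx hzx
  have h1 : bc (X.presheaf.stalk x) (gm _ hyW) ((ap D.ε W).compAlternatingMap (z 0 p)) =
      bc (X.presheaf.stalk x) (gm _ hyW) (bc Γ(X, W) (rs _ hW) ω) := by
    rw [← bc_comp (gm (D.P 0) hyW) (gm _ hyW) (ap D.ε W) (stM D.ε x) (fun e => stM_gm D.ε hyW e),
      hzzx 0 p (Nat.zero_le _) le_rfl, bc_bc _ _ (gm _ hy) (fun e => gm_rs _ hW hyW e)]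
    exact hεx
  obtain ⟨W', hW', hyW', e⟩ := alt_eq _ hyW _ _ h1
  refine ⟨W', hW'.trans hW, hyW', fun q k => bc Γ(X, W') (rs (D.P q) hW') (z q k), ?_, ?_⟩
  · have := isZig_rs hz hW'
    simpa only [resO_resO] using this
  · rw [bc_comp (rs (D.P 0) hW') (rs _ hW') (ap D.ε W) (ap D.ε W') (fun e => ap_rs D.ε hW' e), e,
      bc_bc _ _ (rs _ (hW'.trans hW)) (fun e => rs_rs _ hW hW' e)]

/-- The relation defining `theta`. -/
def Rel {n : ℕ} {U : X.Opens} (g : Fin n → Γ(X, U))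
    (ω : Alt Γ(X, U) n p (SM ((Scheme.Modules.pushforward i).obj M) U)) (W : X.Opens) (hW : W ≤ U)
    (τ : SM T (j ⁻¹ᵁ W)) : Prop :=
  ∃ z : ∀ q k, Alt Γ(X, W) n k (SM (D.P q) W),
      IsZig (fun q => ap (D.d q) W) (fun l => resO X hW (g l)) p z ∧
      (ap D.ε W).compAlternatingMap (z 0 p) = bc Γ(X, W) (rs _ hW) ω ∧
      Cl H (et j (D.P p) W (ev0 (z p 0))) τ

variable {D H}

theorem Rel.rs {n : ℕ} {U : X.Opens} {g : Fin n → Γ(X, U)}
    {ω : Alt Γ(X, U) n p (SM ((Scheme.Modules.pushforward i).obj M) U)} {W' W : X.Opens} (h : W' ≤ W) (hW : W ≤ U)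
    {τ : SM T (j ⁻¹ᵁ W)} (hR : Rel D H g ω W hW τ) :
    Rel D H g ω W' (h.trans hW) (rs T (j.preimage_mono h) τ) := by
  obtain ⟨z, hz, hε, hcl⟩ := hR
  refine ⟨fun q k => bc Γ(X, W') (KosStalk.rs (D.P q) h) (z q k), ?_, ?_, ?_⟩
  · have := isZig_rs hz h
    simpa only [resO_resO] using this
  · rw [bc_comp (KosStalk.rs (D.P 0) h) (KosStalk.rs _ h) (ap D.ε W) (ap D.ε W') (fun e => ap_rs D.ε h e), hε,
      bc_bc _ _ (KosStalk.rs _ (h.trans hW)) (fun e => rs_rs _ hW h e)]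
  · have h1 := hcl.rs (j.preimage_mono h)
    have h2 : et j (D.P p) W' (ev0 (bc Γ(X, W') (KosStalk.rs (D.P p) h) (z p 0))) =
        KosStalk.rs (KK D j p) (j.preimage_mono h) (et j (D.P p) W (ev0 (z p 0))) := by
      rw [ev0_bc, et_rs]
      rfl
    rw [h2]
    exact h1

theorem Rel.add {n : ℕ} {U : X.Opens} {g : Fin n → Γ(X, U)}
    {ω ω' : Alt Γ(X, U) n p (SM ((Scheme.Modules.pushforward i).obj M) U)} {W : X.Opens} {hW : W ≤ U}
    {τ τ' : SM T (j ⁻¹ᵁ W)} (hR : Rel D H g ω W hW τ) (hR' : Rel D H g ω' W hW τ') :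
    Rel D H g (ω + ω') W hW (τ + τ') := by
  obtain ⟨z, hz, hε, hcl⟩ := hR
  obtain ⟨z', hz', hε', hcl'⟩ := hR'
  refine ⟨fun q k => z q k + z' q k, hz.add hz', ?_, ?_⟩
  · rw [bc_add, ← hε, ← hε']
    ext v
    simp
  · have h : et j (D.P p) W (ev0 (z p 0 + z' p 0)) =
      et j (D.P p) W (ev0 (z p 0)) + et j (D.P p) W (ev0 (z' p 0)) := by
        rw [← map_add]
        rfl
    rw [h]
    exact hcl.add hcl'

theorem Rel.eq_zero {n : ℕ} {U : X.Opens} {g : Fin n → Γ(X, U)} (hg : ∀ l, j.app U (g l) = 0)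
    {ω : Alt Γ(X, U) n p (SM ((Scheme.Modules.pushforward i).obj M) U)} {W : X.Opens} {hW : W ≤ U}
    {τ : SM T (j ⁻¹ᵁ W)} (hR : Rel D H g ω W hW τ) (h0 : bc Γ(X, W) (KosStalk.rs _ hW) ω = 0) : τ = 0 := by
  obtain ⟨z, hz, hε, hcl⟩ := hR
  exact cl_eq_zero D H (fun l => app_resO_eq_zero hW (hg l)) hz (hε.trans h0) hcl

/-- Scaling. -/
theorem Rel.smul {n : ℕ} {U : X.Opens} {g : Fin n → Γ(X, U)}
    {ω ω' : Alt Γ(X, U) n p (SM ((Scheme.Modules.pushforward i).obj M) U)} {W : X.Opens} {hW : W ≤ U}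
    {τ : SM T (j ⁻¹ᵁ W)} (hR : Rel D H g ω W hW τ) (a : Γ(X, W))
    (h : bc Γ(X, W) (KosStalk.rs _ hW) ω' = a • bc Γ(X, W) (KosStalk.rs _ hW) ω) :
    Rel D H g ω' W hW (j.app W a • τ) := by
  obtain ⟨z, hz, hε, hcl⟩ := hR
  refine ⟨fun q k => a • z q k, hz.smul a, ?_, ?_⟩
  · rw [h, ← hε]
    ext v
    simp
  · have h : et j (D.P p) W (ev0 (a • z p 0)) = j.app W a • et j (D.P p) W (ev0 (z p 0)) := by
        rw [← et_smul]
        rfl
    rw [h]
    exact hcl.smul _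

theorem Rel.sub {n : ℕ} {U : X.Opens} {g : Fin n → Γ(X, U)}
    {ω ω' : Alt Γ(X, U) n p (SM ((Scheme.Modules.pushforward i).obj M) U)} {W : X.Opens} {hW : W ≤ U}
    {τ τ' : SM T (j ⁻¹ᵁ W)} (hR : Rel D H g ω W hW τ) (hR' : Rel D H g ω' W hW τ') :
    Rel D H g (ω - ω') W hW (τ - τ') := by
  obtain ⟨z, hz, hε, hcl⟩ := hR
  obtain ⟨z', hz', hε', hcl'⟩ := hR'
  refine ⟨fun q k => z q k - z' q k, hz.sub hz', ?_, ?_⟩
  · rw [bc_sub, ← hε, ← hε']
    ext v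
    simp
  · have h : et j (D.P p) W (ev0 (z p 0 - z' p 0)) =
      et j (D.P p) W (ev0 (z p 0)) - et j (D.P p) W (ev0 (z' p 0)) := by
        rw [← map_sub]
        rfl
    rw [h]
    exact hcl.sub hcl'

theorem Rel.unique {n : ℕ} {U : X.Opens} {g : Fin n → Γ(X, U)} (hg : ∀ l, j.app U (g l) = 0)
    {ω : Alt Γ(X, U) n p (SM ((Scheme.Modules.pushforward i).obj M) U)} {W : X.Opens} {hW : W ≤ U}
    {τ τ' : SM T (j ⁻¹ᵁ W)} (hR : Rel D H g ω W hW τ) (hR' : Rel D H g ω W hW τ') : τ = τ' := by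
  have h := (hR.sub hR').eq_zero hg (by
    rw [sub_self]
    apply ext_coeff
    intro J
    rw [coeff_bc, coeff_zero, coeff_zero, map_zero])
  exact sub_eq_zero.mp h

/-- Pull-back of zigzags along a matrix. -/
theorem Rel.comp {n m : ℕ} {U : X.Opens} {g : Fin n → Γ(X, U)}
    {ω : Alt Γ(X, U) n p (SM ((Scheme.Modules.pushforward i).obj M) U)} {W : X.Opens} {hW : W ≤ U}
    {τ : SM T (j ⁻¹ᵁ W)} (hR : Rel D H g ω W hW τ) (h : Fin m → Γ(X, W)) (β : Matrix (Fin n) (Fin m) Γ(X, W))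
    (hβ : β.mulVec h = fun l => resO X hW (g l)) :
    Rel D H h ((bc Γ(X, W) (KosStalk.rs _ hW) ω).compLinearMap β.mulVecLin) W le_rfl
      (KosStalk.rs T (j.preimage_mono le_rfl) τ) := by
  obtain ⟨z, hz, hε, hcl⟩ := hR
  refine ⟨fun q k => (z q k).compLinearMap β.mulVecLin, ?_, ?_, ?_⟩
  · refine hz.compLinearMap _ _ ?_
    rw [Matrix.mulVecLin_apply, ← hβ]
    congr 1
    funext l
    exact resO_self _ _
  · have h1 : (ap D.ε W).compAlternatingMap ((z 0 p).compLinearMap β.mulVecLin) =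
        ((ap D.ε W).compAlternatingMap (z 0 p)).compLinearMap β.mulVecLin := rfl
    rw [h1, hε]
    apply ext_coeff
    intro J
    rw [coeff_bc, rs_self]
  · have h1 : ev0 ((z p 0).compLinearMap β.mulVecLin) = ev0 (z p 0) := ev0_eq (z p 0) _
    rw [h1, rs_self]
    exact hcl

variable (D H)

theorem exists_theta {n : ℕ} {U : X.Opens} (g : Fin n → Γ(X, U)) (hgi : ∀ l, i.app U (g l) = 0)
    (hg : ∀ l, j.app U (g l) = 0)
    (ω : Alt Γ(X, U) n p (SM ((Scheme.Modules.pushforward i).obj M) U)) :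
    ∃ τ : SM T (j ⁻¹ᵁ U), ∀ (W : X.Opens) (hW : W ≤ U) (τ' : SM T (j ⁻¹ᵁ W)), Rel D H g ω W hW τ' →
      τ' = rs T (j.preimage_mono hW) τ := by
  refine glue_rel j T U (fun W hW τ => Rel D H g ω W hW τ) (fun _ _ h hW _ hR => hR.rs h hW) ?_
    (fun _ _ _ _ hR hR' => hR.unique hg hR')
  intro y hy
  obtain ⟨W, hW, hyW, z, hz, hε⟩ := exists_zig_end D hgi ω hy
  obtain ⟨τ, hτ⟩ := exists_cl (H := H) (isCyc_et D (fun l => app_resO_eq_zero hW (hg l)) hz)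
  exact ⟨W, hW, hyW, τ, z, hz, hε, hτ⟩

/-- The section of `T` attached to `g` and `ω`. -/
noncomputable def theta {n : ℕ} {U : X.Opens} (g : Fin n → Γ(X, U)) (hgi : ∀ l, i.app U (g l) = 0)
    (hg : ∀ l, j.app U (g l) = 0)
    (ω : Alt Γ(X, U) n p (SM ((Scheme.Modules.pushforward i).obj M) U)) : SM T (j ⁻¹ᵁ U) :=
  (exists_theta D H g hgi hg ω).choose

theorem theta_spec {n : ℕ} {U : X.Opens} (g : Fin n → Γ(X, U)) (hgi : ∀ l, i.app U (g l) = 0)
    (hg : ∀ l, j.app U (g l) = 0)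
    (ω : Alt Γ(X, U) n p (SM ((Scheme.Modules.pushforward i).obj M) U)) {W : X.Opens} {hW : W ≤ U}
    {τ' : SM T (j ⁻¹ᵁ W)} (h : Rel D H g ω W hW τ') :
    τ' = rs T (j.preimage_mono hW) (theta D H g hgi hg ω) :=
  (exists_theta D H g hgi hg ω).choose_spec W hW τ' h

/-- Near every point, `theta` is given by a zigzag. -/
theorem exists_rel_theta {n : ℕ} {U : X.Opens} (g : Fin n → Γ(X, U)) (hgi : ∀ l, i.app U (g l) = 0)
    (hg : ∀ l, j.app U (g l) = 0)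
    (ω : Alt Γ(X, U) n p (SM ((Scheme.Modules.pushforward i).obj M) U)) {x : X} (hx : x ∈ U) :
    ∃ (W : X.Opens) (hW : W ≤ U), x ∈ W ∧ Rel D H g ω W hW (rs T (j.preimage_mono hW) (theta D H g hgi hg ω)) := by
  obtain ⟨W, hW, hyW, z, hz, hε⟩ := exists_zig_end D hgi ω hx
  obtain ⟨τ, hτ⟩ := exists_cl (H := H) (isCyc_et D (fun l => app_resO_eq_zero hW (hg l)) hz)
  have h : Rel D H g ω W hW τ := ⟨z, hz, hε, hτ⟩
  refine ⟨W, hW, hyW, ?_⟩
  rw [← theta_spec D H g hgi hg ω h]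
  exact h

variable {D H}

/-- To compute `theta` it suffices to do it locally. -/
theorem theta_eq {n : ℕ} {U : X.Opens} {g : Fin n → Γ(X, U)} (hgi : ∀ l, i.app U (g l) = 0)
    (hg : ∀ l, j.app U (g l) = 0)
    {ω : Alt Γ(X, U) n p (SM ((Scheme.Modules.pushforward i).obj M) U)} (τ : SM T (j ⁻¹ᵁ U))
    (h : ∀ y : Z, j y ∈ U → ∃ (W : X.Opens) (hW : W ≤ U), j y ∈ W ∧
      Rel D H g ω W hW (rs T (j.preimage_mono hW) τ)) : theta D H g hgi hg ω = τ := by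
  apply SM_ext
  intro y hy
  obtain ⟨W, hW, hyW, hR⟩ := h y hy
  exact ⟨j ⁻¹ᵁ W, j.preimage_mono hW, hyW, (theta_spec D H g hgi hg ω hR).symm⟩

theorem Rel.of_res {n : ℕ} {U U' : X.Opens} (h : U' ≤ U) {g : Fin n → Γ(X, U)}
    {ω : Alt Γ(X, U) n p (SM ((Scheme.Modules.pushforward i).obj M) U)} {W : X.Opens} {hW : W ≤ U'}
    {τ : SM T (j ⁻¹ᵁ W)} :
    Rel D H (fun l => resO X h (g l)) (bc Γ(X, U') (KosStalk.rs _ h) ω) W hW τ ↔
      Rel D H g ω W (hW.trans h) τ := by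
  unfold Rel
  simp only [resO_resO]
  rw [bc_bc _ _ (KosStalk.rs _ (hW.trans h)) (fun e => rs_rs _ h hW e)]

theorem theta_res {n : ℕ} {U U' : X.Opens} (h : U' ≤ U) {g : Fin n → Γ(X, U)} (hgi : ∀ l, i.app U (g l) = 0)
    (hg : ∀ l, j.app U (g l) = 0)
    (ω : Alt Γ(X, U) n p (SM ((Scheme.Modules.pushforward i).obj M) U)) :
    theta D H (fun l => resO X h (g l)) (fun l => app_resO_eq_zero h (hgi l)) (fun l => app_resO_eq_zero h (hg l))
      (bc Γ(X, U') (KosStalk.rs _ h) ω) = rs T (j.preimage_mono h) (theta D H g hgi hg ω) := by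
  apply theta_eq
  intro y hy
  obtain ⟨W, hW, hyW, hR⟩ := exists_rel_theta D H g hgi hg ω (h hy)
  refine ⟨W ⊓ U', inf_le_right, ⟨hyW, hy⟩, ?_⟩
  rw [Rel.of_res]
  have := hR.rs (inf_le_left : W ⊓ U' ≤ W) hW
  rw [rs_rs] at this ⊢
  exact this

theorem theta_add {n : ℕ} {U : X.Opens} {g : Fin n → Γ(X, U)} (hgi : ∀ l, i.app U (g l) = 0)
    (hg : ∀ l, j.app U (g l) = 0)
    (ω ω' : Alt Γ(X, U) n p (SM ((Scheme.Modules.pushforward i).obj M) U)) :
    theta D H g hgi hg (ω + ω') = theta D H g hgi hg ω + theta D H g hgi hg ω' := by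
  apply theta_eq
  intro y hy
  obtain ⟨W, hW, hyW, hR⟩ := exists_rel_theta D H g hgi hg ω hy
  obtain ⟨W', hW', hyW', hR'⟩ := exists_rel_theta D H g hgi hg ω' hy
  refine ⟨W ⊓ W', inf_le_left.trans hW, ⟨hyW, hyW'⟩, ?_⟩
  have h1 := hR.rs (inf_le_left : W ⊓ W' ≤ W) hW
  have h2 := hR'.rs (inf_le_right : W ⊓ W' ≤ W') hW'
  have h3 := h1.add h2
  rw [map_add]
  rw [rs_rs, rs_rs] at h3
  exact h3

theorem theta_smul {n : ℕ} {U : X.Opens} {g : Fin n → Γ(X, U)} (hgi : ∀ l, i.app U (g l) = 0)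
    (hg : ∀ l, j.app U (g l) = 0)
    (ω : Alt Γ(X, U) n p (SM ((Scheme.Modules.pushforward i).obj M) U)) (a : Γ(X, U)) :
    theta D H g hgi hg (a • ω) = j.app U a • theta D H g hgi hg ω := by
  apply theta_eq
  intro y hy
  obtain ⟨W, hW, hyW, hR⟩ := exists_rel_theta D H g hgi hg ω hy
  refine ⟨W, hW, hyW, ?_⟩
  have h1 := hR.smul (ω' := a • ω) (resO X hW a) (bc_smul (resO X hW) (KosStalk.rs _ hW) (rs_smul _ hW) a ω)
  rw [rs_smul, ← app_resO]
  exact h1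

/-- The comparison of two theta's through a third sequence. -/
theorem theta_congr_of_local {n m : ℕ} {U : X.Opens} {g : Fin n → Γ(X, U)} {g' : Fin m → Γ(X, U)}
    (hgi : ∀ l, i.app U (g l) = 0) (hg : ∀ l, j.app U (g l) = 0)
    (hgi' : ∀ l, i.app U (g' l) = 0) (hg' : ∀ l, j.app U (g' l) = 0)
    (ω : Alt Γ(X, U) n p (SM ((Scheme.Modules.pushforward i).obj M) U))
    (ω' : Alt Γ(X, U) m p (SM ((Scheme.Modules.pushforward i).obj M) U))
    (h : ∀ y : Z, j y ∈ U → ∃ (W : X.Opens) (hW : W ≤ U), j y ∈ W ∧ ∃ (b : ℕ) (h : Fin b → Γ(X, W))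
      (β : Matrix (Fin n) (Fin b) Γ(X, W)) (β' : Matrix (Fin m) (Fin b) Γ(X, W)),
      (∀ l, j.app W (h l) = 0) ∧ (β.mulVec h = fun l => resO X hW (g l)) ∧
      (β'.mulVec h = fun l => resO X hW (g' l)) ∧
      (bc Γ(X, W) (rs _ hW) ω).compLinearMap β.mulVecLin = (bc Γ(X, W) (rs _ hW) ω').compLinearMap β'.mulVecLin) :
    theta D H g hgi hg ω = theta D H g' hgi' hg' ω' := by
  apply SM_ext
  intro y hy
  obtain ⟨W, hW, hyW, b, h, β, β', hh, hβ, hβ', e⟩ := h y hy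
  obtain ⟨W₁, hW₁, hyW₁, hR⟩ := exists_rel_theta D H g hgi hg ω hy
  obtain ⟨W₂, hW₂, hyW₂, hR'⟩ := exists_rel_theta D H g' hgi' hg' ω' hy
  let W₃ : X.Opens := W ⊓ W₁ ⊓ W₂
  have a0 : W₃ ≤ W := inf_le_left.trans inf_le_left
  have a1 : W₃ ≤ W₁ := inf_le_left.trans inf_le_right
  have a2 : W₃ ≤ W₂ := inf_le_right
  have hyW₃ : j y ∈ W₃ := ⟨⟨hyW, hyW₁⟩, hyW₂⟩
  refine ⟨j ⁻¹ᵁ W₃, j.preimage_mono (a0.trans hW), hyW₃, ?_⟩
  have r1 := (hR.rs a1 hW₁).comp (fun l => resO X a0 (h l)) (β.map (resO X a0)) (by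
    funext l
    have h2 := RingHom.map_mulVec (resO X a0) β h l
    rw [hβ] at h2
    rw [← resO_resO hW a0]
    exact h2.symm)
  have r2 := (hR'.rs a2 hW₂).comp (fun l => resO X a0 (h l)) (β'.map (resO X a0)) (by
    funext l
    have h2 := RingHom.map_mulVec (resO X a0) β' h l
    rw [hβ'] at h2
    rw [← resO_resO hW a0]
    exact h2.symm)
  have e1 : (bc Γ(X, W₃) (rs _ (a1.trans hW₁)) ω).compLinearMap (β.map (resO X a0)).mulVecLin =
      (bc Γ(X, W₃) (rs _ (a2.trans hW₂)) ω').compLinearMap (β'.map (resO X a0)).mulVecLin := by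
    have c1 : bc Γ(X, W₃) (rs _ (a1.trans hW₁)) ω = bc Γ(X, W₃) (rs _ a0) (bc Γ(X, W) (rs _ hW) ω) :=
      (bc_bc _ _ _ (fun e => rs_rs _ hW a0 e) _).symm
    have c2 : bc Γ(X, W₃) (rs _ (a2.trans hW₂)) ω' = bc Γ(X, W₃) (rs _ a0) (bc Γ(X, W) (rs _ hW) ω') :=
      (bc_bc _ _ _ (fun e => rs_rs _ hW a0 e) _).symm
    rw [c1, c2, bc_compLinearMap (resO X a0) (rs _ a0) (rs_smul _ a0),
      bc_compLinearMap (resO X a0) (rs _ a0) (rs_smul _ a0), e]
  rw [← e1] at r2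
  have r3 := r1.unique (fun l => app_resO_eq_zero a0 (hh l)) r2
  rw [rs_self, rs_self, rs_rs, rs_rs] at r3
  exact r3

/-- Functoriality in `g`. -/
theorem theta_comp {n m : ℕ} {U : X.Opens} {g : Fin n → Γ(X, U)} (hgi : ∀ l, i.app U (g l) = 0)
    (hg : ∀ l, j.app U (g l) = 0)
    (α : Matrix (Fin m) (Fin n) Γ(X, U)) {g' : Fin m → Γ(X, U)} (hgi' : ∀ l, i.app U (g' l) = 0)
    (hg' : ∀ l, j.app U (g' l) = 0)
    (hα : α.mulVec g = g') (ω : Alt Γ(X, U) m p (SM ((Scheme.Modules.pushforward i).obj M) U)) :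
    theta D H g' hgi' hg' ω = theta D H g hgi hg (ω.compLinearMap α.mulVecLin) := by
  refine theta_congr_of_local _ _ _ _ _ _ fun y hy => ⟨U, le_rfl, hy, n, g, α, 1, hg, ?_, ?_, ?_⟩
  · rw [hα]
    funext l
    exact (resO_self _ _).symm
  · rw [Matrix.one_mulVec]
    funext l
    exact (resO_self _ _).symm
  · have c : ∀ {k : ℕ} (ω : Alt Γ(X, U) k p (SM ((Scheme.Modules.pushforward i).obj M) U)),
        bc Γ(X, U) (rs _ le_rfl) ω = ω := by
      intro k ω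
      apply ext_coeff
      intro J
      rw [coeff_bc, rs_self]
    rw [c, c]
    ext v
    simp

end K560.ThetaTwo
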